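import Cfsg.Agent.Lib.BPStar.Trace
import Cfsg.Agent.Lib.KleinDefect.Pairs
import Cfsg.Agent.Lib.BrauerPairs.System
import Cfsg.Agent.Lib.Blocks.Homo949Dual

/-!
# The trace formula for an abelian defect group

Every linear character of an abelian defect group invariant under the stabiliser of the maximal
pair acts on the block. Averaging over the characters that factor through the fixed points gives
the same weighted count of subsections in every coset of the complement of the fixed points.
-/

set_option autoImplicit false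
set_option linter.unusedSectionVars false
set_option linter.style.haveILetI false

namespace CfsgLib.BPStar

open Cfsg MonoidAlgebra CfsgLib.Blocks CfsgLib.BrauerPairs CfsgLib.Characters
open scoped Classical ComplexConjugate

universe u

section Retraction

/-- A group of automorphisms of order prime to a finite commutative group splits off its fixed
points. -/
theorem exists_retraction {A : Type*} [CommGroup A] [Finite A] (Φ : Subgroup (MulAut A))
    (hcop : (Nat.card A).Coprime (Nat.card Φ)) :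
    ∃ π : A →* A, (∀ a ∈ Φ, ∀ x, π (a x) = π x) ∧ (∀ a ∈ Φ, ∀ x, a (π x) = π x) ∧
      ∀ x, (∀ a ∈ Φ, a x = x) → π x = x := by
  haveI : Fintype Φ := Fintype.ofFinite Φ
  let r : A ≃* A := MulEquiv.ofBijective (powMonoidHom (Nat.card Φ))
    (powCoprime hcop).bijective
  let N : A →* A := ∏ a : Φ, (a : MulAut A).toMonoidHom
  have hN : ∀ x, N x = ∏ a : Φ, (a : MulAut A) x := fun x => by
    simp [N, MonoidHom.finsetProd_apply]
  have hinv : ∀ a ∈ Φ, ∀ x, N (a x) = N x := fun a ha x => by
    rw [hN, hN]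
    exact Fintype.prod_equiv (Equiv.mulRight (⟨a, ha⟩ : Φ)) _ _ fun b => rfl
  have himg : ∀ a ∈ Φ, ∀ x, a (N x) = N x := fun a ha x => by
    rw [hN, map_prod]
    exact Fintype.prod_equiv (Equiv.mulLeft (⟨a, ha⟩ : Φ)) _ _ fun b => rfl
  refine ⟨r.symm.toMonoidHom.comp N, fun a ha x => ?_, fun a ha x => ?_, fun x hx => ?_⟩
  · exact congrArg r.symm (hinv a ha x)
  · apply r.injective
    show (a (r.symm (N x))) ^ Nat.card Φ = r (r.symm (N x))
    rw [← map_pow, show (r.symm (N x)) ^ Nat.card Φ = r (r.symm (N x)) from rfl,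
      r.apply_symm_apply, himg a ha]
  · show r.symm (N x) = x
    rw [r.symm_apply_eq, hN, Finset.prod_congr rfl fun a _ => hx _ a.2, Finset.prod_const,
      Finset.card_univ, ← Nat.card_eq_fintype_card]
    rfl

end Retraction

variable {p : ℕ} [Fact p.Prime] {M : Ideal AlgInt} [M.IsMaximal]
variable {G : Type u} [Group G] [Fintype G]
variable {B : Set (IrrCharacter G)} {P : Subgroup G}
variable {e : Set (IrrCharacter (Subgroup.centralizer (P : Set G)))}
variable {hM : IsPModular p M}

theorem le_cz_of_comm (hab : ∀ x ∈ P, ∀ y ∈ P, x * y = y * x) : P ≤ cz P :=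
  fun x hx => mem_cz.2 fun y hy => hab y hy x hx

/-- The data of a maximal pair with abelian defect group. -/
structure AbCtx (hM : IsPModular p M) (B : Set (IrrCharacter G)) (P : Subgroup G)
    (e : Set (IrrCharacter (Subgroup.centralizer (P : Set G)))) : Prop where
  hmax : IsMaximalBrauerPair p M B P e
  comm : P ≤ cz P

namespace AbCtx

variable (c : AbCtx hM B P e)
include c

theorem pgroup : IsPGroup p P := c.hmax.1.1.1

theorem isPBlockB : IsPBlock M B := c.hmax.1.2.1

theorem block : IsBlockIdem (cz P) (eA hM (cz P) e) := isBlockIdem_eA hM c.hmax.1.1.2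

theorem defect : IsDefectGroup p M B P :=
  (isDefectGroup_iff hM c.isPBlockB P).2 ((isMaximalBrauerPair_iff hM B P e).1 c.hmax).2

theorem cover : brMap (ResK M) P (eG hM B) * eA hM (cz P) e = eA hM (cz P) e :=
  ((isBrauerPairOf_iff hM B P e).1 c.hmax.1).2.2.cover

theorem le_cz_zpowers (x : P) : P ≤ cz (Subgroup.zpowers (x : G)) :=
  c.comm.trans (cz_anti (Subgroup.zpowers_le.2 x.2))

/-- The block at `x` below the maximal pair. -/
theorem exists_local (x : P) :
    ∃ f : Set (IrrCharacter (cz (Subgroup.zpowers (x : G)))), IsPBlock M f ∧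
      eA hM (cz (Subgroup.zpowers (x : G))) f = subA p P (eA hM (cz P) e) x ∧
      IsDefect p (Subgroup.zpowers (x : G)) (eA hM (cz (Subgroup.zpowers (x : G))) f)
        (cz (Subgroup.zpowers (x : G))) P ∧
      IsDefectGroup p M f (P.subgroupOf (cz (Subgroup.zpowers (x : G)))) ∧
      OverPair p (Subgroup.zpowers (x : G)) (eA hM (cz (Subgroup.zpowers (x : G))) f)
        (cz (Subgroup.zpowers (x : G))) P (eA hM (cz P) e) := by
  obtain ⟨f, hf, hle, -, -, hd, hdg, hov⟩ := CyclicDefectBound.exists_local_block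
    (K := cz (Subgroup.zpowers (x : G))) hM c.isPBlockB c.defect c.comm c.block c.cover
    (Subgroup.zpowers_le.2 x.2) rfl
  exact ⟨f, hf, eq_subA hM c.block c.pgroup x hle, hd, hdg, hov⟩

/-- A block of a centraliser in `P` is below the maximal pair iff its image covers it. -/
theorem eA_eq_subA_iff (x : P) {b : Set (IrrCharacter (cz (Subgroup.zpowers (x : G))))}
    (hb : IsPBlock M b) :
    eA hM (cz (Subgroup.zpowers (x : G))) b = subA p P (eA hM (cz P) e) x ↔
      brMap (ResK M) P (eA hM (cz (Subgroup.zpowers (x : G))) b) * eA hM (cz P) e =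
        eA hM (cz P) e := by
  obtain ⟨f, hf, hfa, -, -, hov⟩ := c.exists_local x
  refine ⟨fun h => by rw [h, ← hfa]; exact hov.cover, fun h => ?_⟩
  refine eq_subA hM c.block c.pgroup x (Relation.ReflTransGen.single ?_)
  exact ⟨isPGroup_zpowers (by rw [Subgroup.orderOf_coe]; exact IsPGroup.iff_orderOf.1 c.pgroup x),
    c.pgroup, isBlockIdem_eA hM hb, c.block, Subgroup.zpowers_le.2 x.2,
    (c.le_cz_zpowers x).trans (cz_le_normalizer _),
    fixAlg_anti (c.le_cz_zpowers x) (isBlockIdem_eA hM hb).fixed, h⟩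

/-- The class of an element is its orbit under the stabiliser of the maximal pair. -/
theorem mem_clsOf_iff {x y : P} :
    y ∈ clsOf p P (eA hM (cz P) e) x ↔
      ∃ t ∈ pairStab P (eA hM (cz P) e), t * (x : G) * t⁻¹ = y := by
  rw [mem_clsOf]
  constructor
  · rintro ⟨g, hg, hgf⟩
    obtain ⟨f, hf, hfa, -, -, hov⟩ := c.exists_local x
    obtain ⟨f', hf', hfa', hd', -, hov'⟩ := c.exists_local y
    exact KleinDefect.exists_stab_of_conj hM c.pgroup c.comm c.block (fun _ => Iff.rfl) x.2 y.2
      hov (isBlockIdem_eA hM hf') hd' hov' hg (by rw [hfa, hfa', hgf])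
  · rintro ⟨t, ht, htx⟩
    refine ⟨t, htx, eq_subA hM c.block c.pgroup y ?_⟩
    have h := (subA_le hM c.block c.pgroup x).conj t
    rwa [conjPair_eq_zpowers, htx, show conjPair t (P, eA hM (cz P) e) = (P, eA hM (cz P) e) from
      Prod.ext (map_conj_eq_self ht.1) ht.2] at h

/-- A linear character invariant under the stabiliser gives a twist. -/
theorem starCtx {lam : P →* ℂˣ}
    (hlam : ∀ t ∈ pairStab P (eA hM (cz P) e), ∀ x y : P, t * (x : G) * t⁻¹ = y → lam y = lam x) :
    StarCtx hM B P e lam := by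
  refine ⟨c.hmax, fun u g g' b h1 h2 => ?_⟩
  have hx := mem_of_pairLE h1
  have hy := mem_of_pairLE h2
  rw [extLam, dif_pos hx, extLam, dif_pos hy, Units.val_inj]
  have hgx : conjA g b = subA p P (eA hM (cz P) e) (g * u * g⁻¹) :=
    eq_subA hM c.block c.pgroup ⟨_, hx⟩ (by rw [← conjPair_eq_zpowers]; exact h1)
  have hgy : conjA g' b = subA p P (eA hM (cz P) e) (g' * u * g'⁻¹) :=
    eq_subA hM c.block c.pgroup ⟨_, hy⟩ (by rw [← conjPair_eq_zpowers]; exact h2)
  obtain ⟨t, ht, htx⟩ := c.mem_clsOf_iff.1 (mem_clsOf.2 ⟨g' * g⁻¹,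
    show g' * g⁻¹ * (g * u * g⁻¹) * (g' * g⁻¹)⁻¹ = g' * u * g'⁻¹ by group, by
      show conjA (g' * g⁻¹) (subA p P _ (g * u * g⁻¹)) = subA p P _ (g' * u * g'⁻¹)
      rw [← hgx, ← conjA_mul_left, inv_mul_cancel_right, hgy]⟩ :
      (⟨g' * u * g'⁻¹, hy⟩ : P) ∈ clsOf p P (eA hM (cz P) e) ⟨g * u * g⁻¹, hx⟩)
  exact (hlam t ht _ _ htx).symm

theorem cz_le_pairStab : cz P ≤ pairStab P (eA hM (cz P) e) := fun _ hg =>
  ⟨cz_le_normalizer P hg, c.block.fixed _ hg⟩

/-- The inertial index is prime to `p`. -/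
theorem not_dvd_relIndex : ¬ p ∣ (cz P).relIndex (pairStab P (eA hM (cz P) e)) := by
  have := charP_res hM
  have hPT : P ≤ pairStab P (eA hM (cz P) e) := c.comm.trans c.cz_le_pairStab
  have hS : BrSetup p P (eA hM (cz P) e) (pairStab P (eA hM (cz P) e)) :=
    ⟨c.pgroup, c.block, fun g hg => hg.1, c.cz_le_pairStab, hPT, fun g hg => hg.2⟩
  have hd : IsDefect p P (eA hM (cz P) e) (pairStab P (eA hM (cz P) e)) P :=
    isDefect_local hM c.isPBlockB hS c.cover ((isMaximalBrauerPair_iff hM B P e).1 c.hmax).2 hPT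
      (by rw [brMap_eq_self c.block.supp]; exact c.block.ne_zero)
  have h := not_dvd_relIndex_stab hS hd
  rwa [sup_eq_right.2 c.comm] at h

/-- A character fixed by a linear character makes it trivial. -/
theorem fixSet_eq_empty {lam : P →* ℂˣ} (h : StarCtx hM B P e lam) (hne : lam ≠ 1) :
    fixSet hM B P e lam = ∅ := by
  rw [Finset.eq_empty_iff_forall_notMem]
  intro χ hχ
  obtain ⟨-, hχB, hfix⟩ := Finset.mem_filter.1 hχ
  refine hne (MonoidHom.ext fun x => ?_)
  obtain ⟨f, hf, hfa, -⟩ := c.exists_local x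
  have hle : PairLE p (Subgroup.zpowers (x : G), eA hM (cz (Subgroup.zpowers (x : G))) f)
      (P, eA hM (cz P) e) := hfa ▸ subA_le hM c.block c.pgroup x
  exact lam_eq_one_of_fixed h hχB (Subtype.ext (by rw [starChar_coe h hχB, hfix])) x hf hle
    (s := 1) (by rw [orderOf_one]; exact hM.1.not_dvd_one)
    (blockPart_central_ne_zero hM c.hmax hχB x (c.comm x.2) hf hle)

/-- The weighted count is the same over every fixed point. -/
theorem exists_retraction_sum :
    ∃ π : P →* P, (∀ v : P, ∀ t ∈ pairStab P (eA hM (cz P) e),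
        t * (π v : G) * t⁻¹ = π v) ∧
      (∀ x : P, (∀ t ∈ pairStab P (eA hM (cz P) e), t * (x : G) * t⁻¹ = x) → π x = x) ∧
      ∀ v : P, (∀ t ∈ pairStab P (eA hM (cz P) e), t * (v : G) * t⁻¹ = v) →
        ∑ x ∈ Finset.univ.filter (fun x : P => π x = v),
          subWeight hM P (eA hM (cz P) e) x =
        ∑ x ∈ Finset.univ.filter (fun x : P => π x = 1),
          subWeight hM P (eA hM (cz P) e) x := by
  set T := pairStab P (eA hM (cz P) e) with hTdef
  have hTN : T ≤ Subgroup.normalizer (P : Set G) := fun g hg => hg.1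
  have hcomm : ∀ a b : P, a * b = b * a := fun a b =>
    Subtype.ext (mem_cz.1 (c.comm b.2) a a.2)
  letI : CommGroup P := { (inferInstance : Group P) with mul_comm := hcomm }
  let φ : T →* MulAut P := P.normalizerMonoidHom.comp (Subgroup.inclusion hTN)
  have hφ : ∀ (t : T) (x : P), ((φ t x : P) : G) = (t : G) * x * (t : G)⁻¹ := fun t x => rfl
  have hker : φ.ker = (cz P).subgroupOf T := by
    ext t
    rw [MonoidHom.mem_ker, Subgroup.mem_subgroupOf, mem_cz]
    constructor
    · intro h q hq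
      have := congrArg Subtype.val (DFunLike.congr_fun h ⟨q, hq⟩)
      rw [hφ] at this
      exact (mul_inv_eq_iff_eq_mul.1 this).symm
    · intro h
      ext x
      rw [hφ]
      exact mul_inv_eq_iff_eq_mul.2 (h x x.2).symm
  have hcop : (Nat.card P).Coprime (Nat.card φ.range) := by
    rw [← Subgroup.index_ker, hker]
    obtain ⟨n, hn⟩ := IsPGroup.iff_card.1 c.pgroup
    rw [hn]
    exact Nat.Coprime.pow_left n (hM.1.coprime_iff_not_dvd.2 c.not_dvd_relIndex)
  obtain ⟨π, hπinv, hπimg, hπfix⟩ := exists_retraction φ.range hcop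
  have hπi : ∀ v : P, ∀ t ∈ T, t * (π v : G) * t⁻¹ = π v := fun v t ht =>
    congrArg Subtype.val (hπimg _ ⟨⟨t, ht⟩, rfl⟩ v)
  have hπf : ∀ x : P, (∀ t ∈ T, t * (x : G) * t⁻¹ = x) → π x = x := fun x hx =>
    hπfix x fun a ha => by
      obtain ⟨t, rfl⟩ := ha
      exact Subtype.ext (hx t t.2)
  refine ⟨π, hπi, hπf, fun v hv => ?_⟩
  set W : P → ℂ := subWeight hM P (eA hM (cz P) e) with hW
  haveI : Finite (π.range →* ℂˣ) := Homo949.finite_dual fun a b => Subtype.ext (hcomm _ _)
  haveI : Fintype (π.range →* ℂˣ) := Fintype.ofFinite _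
  -- only the trivial character contributes
  have hzero : ∀ μ : π.range →* ℂˣ, μ ≠ 1 → ∑ x : P, (μ (π.rangeRestrict x) : ℂ) * W x = 0 := by
    intro μ hμ
    have hctx : StarCtx hM B P e (μ.comp π.rangeRestrict) := c.starCtx fun t ht x y hxy => by
      have : y = φ ⟨t, ht⟩ x := Subtype.ext hxy.symm
      rw [MonoidHom.comp_apply, MonoidHom.comp_apply, this]
      exact congrArg μ (Subtype.ext (hπinv _ ⟨⟨t, ht⟩, rfl⟩ x))
    have h1 := fixed_card_eq hctx
    rw [c.fixSet_eq_empty hctx fun h => hμ (MonoidHom.ext fun z => by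
      obtain ⟨z, w, rfl⟩ := z
      exact DFunLike.congr_fun h w), Finset.card_empty, Nat.cast_zero] at h1
    exact h1.symm
  have hS : ∀ v' : π.range, (Nat.card π.range : ℂ) *
      ∑ x ∈ Finset.univ.filter (fun x : P => π.rangeRestrict x = v'), W x = ∑ x : P, W x := by
    intro v'
    calc _ = ∑ μ : π.range →* ℂˣ, ∑ x : P, (μ (π.rangeRestrict x * v'⁻¹) : ℂ) * W x := by
          rw [Finset.sum_comm, Finset.mul_sum, Finset.sum_filter]
          refine Finset.sum_congr rfl fun x _ => ?_
          rw [← Finset.sum_mul, Homo949.sum_hom_eval fun a b => Subtype.ext (hcomm _ _)]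
          by_cases h : π.rangeRestrict x = v'
          · rw [if_pos h, if_pos (mul_inv_eq_one.2 h)]
          · rw [if_neg h, if_neg (fun h' => h (mul_inv_eq_one.1 h')), zero_mul]
      _ = ∑ μ : π.range →* ℂˣ, (μ v'⁻¹ : ℂ) * ∑ x : P, (μ (π.rangeRestrict x) : ℂ) * W x :=
          Finset.sum_congr rfl fun μ _ => by
            rw [Finset.mul_sum]
            exact Finset.sum_congr rfl fun x _ => by rw [map_mul, Units.val_mul]; ring
      _ = _ := by
          rw [Finset.sum_eq_single (1 : π.range →* ℂˣ)]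
          · simp
          · intro μ _ hμ
            rw [hzero μ hμ, mul_zero]
          · exact fun h => absurd (Finset.mem_univ _) h
  have hfil : ∀ (w : π.range) (v₀ : P), (w : P) = v₀ →
      ∑ x ∈ Finset.univ.filter (fun x : P => π x = v₀), W x =
        ∑ x ∈ Finset.univ.filter (fun x : P => π.rangeRestrict x = w), W x := by
    rintro w v₀ rfl
    refine Finset.sum_congr ?_ fun _ _ => rfl
    ext x
    simp only [Finset.mem_filter, Finset.mem_univ, true_and, Subtype.ext_iff,
      MonoidHom.coe_rangeRestrict]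
  rw [hfil ⟨v, v, hπf v hv⟩ v rfl, hfil 1 1 rfl]
  exact mul_left_cancel₀ (Nat.cast_ne_zero.2 Nat.card_pos.ne' : (Nat.card π.range : ℂ) ≠ 0)
    ((hS _).trans (hS _).symm)

end AbCtx

end CfsgLib.BPStar
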