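import Cfsg.Agent.Lib.BPStar.NonVanish
import Mathlib.GroupTheory.FiniteAbelian.Duality
import Mathlib.Analysis.Complex.Polynomial.Basic

/-!
# Counting characters of a given height by the action of the linear characters

The linear characters of a defect group killing the focal subgroup act on the characters of each
height; on height zero freely, and in general freely modulo those trivial on the centre.
-/

set_option autoImplicit false
set_option linter.unusedSectionVars false
set_option linter.style.haveILetI false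

namespace CfsgLib.BPStar

open Cfsg CfsgLib.Blocks CfsgLib.BrauerPairs CfsgLib.Characters
open scoped Classical

universe u

/-- If all stabilisers lie in `K` then the index of `K` divides the number of points. -/
theorem index_dvd_card_of_stabilizer_le {L X : Type*} [Group L] [MulAction L X] [Finite X]
    [Finite L] (K : Subgroup L) (h : ∀ x : X, MulAction.stabilizer L x ≤ K) :
    K.index ∣ Nat.card X := by
  haveI := Fintype.ofFinite (MulAction.orbitRel.Quotient L X)
  rw [Nat.card_congr (MulAction.selfEquivSigmaOrbits L X), Nat.card_sigma]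
  refine Finset.dvd_sum fun ω _ => ?_
  rw [Nat.card_coe_set_eq, ← MulAction.index_stabilizer L ω.out]
  exact Subgroup.index_dvd_of_le (h _)

variable {p : ℕ} [Fact p.Prime] {M : Ideal AlgInt} [M.IsMaximal]
variable {G : Type u} [Group G] [Fintype G]
variable {B : Set (IrrCharacter G)} {P : Subgroup G}
variable {e : Set (IrrCharacter (Subgroup.centralizer (P : Set G)))}

theorem starChar_congr {hM : IsPModular p M} {lam lam' : P →* ℂˣ} (heq : lam = lam')
    (h : StarCtx hM B P e lam) (h' : StarCtx hM B P e lam') {χ : IrrCharacter G} (hχ : χ ∈ B) :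
    starChar h hχ = starChar h' hχ := by
  subst heq
  rfl

variable (hM : IsPModular p M) {F : FusionSystem P} (hF : IsBlockFusionSystemOn p M B P e F)
include hM hF

theorem commutator_le_focal : commutator P ≤ F.focalSubgroup.subgroupOf P := by
  rw [commutator_def, Subgroup.commutator_le]
  intro a _ c _
  have heP := isBlockIdem_eA hM hF.1.1.1.2
  have hfix : conjPair (a : G) (P, eA hM (cz P) e) = (P, eA hM (cz P) e) :=
    Prod.ext (map_conj_eq_self (Subgroup.le_normalizer a.2)) (fixed_of_supp_cz heP.supp a a.2)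
  have hmap := mem_hom_of_pairLE hM hF (g := (a : G)) (Relation.ReflTransGen.refl)
    (by rw [hfix]; exact Relation.ReflTransGen.refl)
  rw [Subgroup.mem_subgroupOf]
  have h1 : ((c : G))⁻¹ * ((a : G) * (c : G) * (a : G)⁻¹) ∈ F.focalSubgroup :=
    Subgroup.subset_closure ⟨P, _, c, hmap, rfl⟩
  have h2 := F.focalSubgroup.inv_mem h1
  have hmap' := mem_hom_of_pairLE hM hF (g := (c : G)) (b := eA hM (cz P) e)
    (Relation.ReflTransGen.refl) (by
      rw [show conjPair (c : G) (P, eA hM (cz P) e) = (P, eA hM (cz P) e) from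
        Prod.ext (map_conj_eq_self (Subgroup.le_normalizer c.2)) (fixed_of_supp_cz heP.supp c c.2)]
      exact Relation.ReflTransGen.refl)
  have h3 : ((a⁻¹ : P) : G)⁻¹ * ((c : G) * ((a⁻¹ : P) : G) * (c : G)⁻¹) ∈ F.focalSubgroup :=
    Subgroup.subset_closure ⟨P, _, a⁻¹, hmap', rfl⟩
  simpa [commutatorElement_def, mul_assoc] using h3

variable [hN : (F.focalSubgroup.subgroupOf P).Normal]

/-- The linear characters of `P` trivial on the focal subgroup give twists. -/
theorem starCtx_quot (l : P ⧸ F.focalSubgroup.subgroupOf P →* ℂˣ) :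
    StarCtx hM B P e (l.comp (QuotientGroup.mk' (F.focalSubgroup.subgroupOf P))) :=
  starCtx_of_focal hM hF fun x hx => by
    rw [MonoidHom.comp_apply, QuotientGroup.mk'_apply,
      (QuotientGroup.eq_one_iff x).2 (Subgroup.mem_subgroupOf.2 hx), map_one]

theorem quot_mul_comm (x y : P ⧸ F.focalSubgroup.subgroupOf P) : x * y = y * x := by
  obtain ⟨a, rfl⟩ := QuotientGroup.mk_surjective x
  obtain ⟨c, rfl⟩ := QuotientGroup.mk_surjective y
  rw [← QuotientGroup.mk_mul, ← QuotientGroup.mk_mul, QuotientGroup.eq]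
  have h1 := commutator_le_focal hM hF (Subgroup.commutator_mem_commutator
    (Subgroup.mem_top c⁻¹) (Subgroup.mem_top a⁻¹))
  simpa [commutatorElement_def, mul_assoc] using h1

/-- The action on the characters of a given height. -/
@[reducible]
noncomputable def starAction (h : ℕ) : MulAction (P ⧸ F.focalSubgroup.subgroupOf P →* ℂˣ)
    {χ : IrrCharacter G // χ ∈ B ∧ blockHeight p B (χ : G → ℂ) = h} where
  smul l χ := ⟨starChar (starCtx_quot hM hF l) χ.2.1, starChar_mem _ _,
    (blockHeight_starChar _ _).trans χ.2.2⟩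
  one_smul χ := Subtype.ext (by
    have h1 : StarCtx hM B P e (1 : P →* ℂˣ) := starCtx_of_focal hM hF fun _ _ => rfl
    show starChar (starCtx_quot hM hF 1) χ.2.1 = χ.1
    rw [starChar_congr (MonoidHom.one_comp _) (starCtx_quot hM hF 1) h1 χ.2.1, starChar_one])
  mul_smul l m χ := Subtype.ext (by
    show starChar (starCtx_quot hM hF (l * m)) χ.2.1 = starChar (starCtx_quot hM hF l)
      (starChar_mem (starCtx_quot hM hF m) χ.2.1)
    rw [starChar_congr (MonoidHom.mul_comp _ _ _) (starCtx_quot hM hF (l * m))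
      ((starCtx_quot hM hF l).mul (starCtx_quot hM hF m)) χ.2.1]
    exact starChar_mul _ _ _ _)

theorem card_linChar :
    Nat.card (P ⧸ F.focalSubgroup.subgroupOf P →* ℂˣ) = (F.focalSubgroup.subgroupOf P).index := by
  letI : CommGroup (P ⧸ F.focalSubgroup.subgroupOf P) :=
    { (inferInstance : Group (P ⧸ F.focalSubgroup.subgroupOf P)) with
      mul_comm := quot_mul_comm hM hF }
  rw [CommGroup.card_monoidHom_of_hasEnoughRootsOfUnity, Subgroup.index_eq_card]

/-- Linear characters fixing a height zero character are trivial. -/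
theorem eq_one_of_fixed (l : P ⧸ F.focalSubgroup.subgroupOf P →* ℂˣ) {χ : IrrCharacter G}
    (hχ : χ ∈ B) (h0 : blockHeight p B (χ : G → ℂ) = 0)
    (hfix : starChar (starCtx_quot hM hF l) hχ = χ) : l = 1 := by
  ext x
  obtain ⟨hP, hD⟩ := (isMaximalBrauerPair_iff hM B P e).1 hF.1
  have := charP_res hM
  obtain ⟨b', hb', hle⟩ := exists_pairLE (hasBlocks hM) (Subgroup.zpowers_le.2 x.2) hD.pgroup
    (isBlockIdem_eA hM hF.1.1.1.2)
  obtain ⟨b, hb, rfl⟩ := exists_eA_eq hM hb'
  obtain ⟨s, hs, hne⟩ := exists_blockPart_ne_zero hM hF.1 hχ h0 x hb hle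
  have h1 := lam_eq_one_of_fixed (starCtx_quot hM hF l) hχ hfix x hb hle hs hne
  simp only [MonoidHom.comp_apply, QuotientGroup.mk'_apply] at h1 ⊢
  rw [h1]
  rfl

/-- Linear characters fixing any character are trivial on the centre. -/
theorem eq_one_on_center_of_fixed (l : P ⧸ F.focalSubgroup.subgroupOf P →* ℂˣ)
    {χ : IrrCharacter G} (hχ : χ ∈ B) (hfix : starChar (starCtx_quot hM hF l) hχ = χ) (x : P)
    (hxc : (x : G) ∈ cz P) : l (QuotientGroup.mk x) = 1 := by
  obtain ⟨hP, hD⟩ := (isMaximalBrauerPair_iff hM B P e).1 hF.1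
  have := charP_res hM
  obtain ⟨b', hb', hle⟩ := exists_pairLE (hasBlocks hM) (Subgroup.zpowers_le.2 x.2) hD.pgroup
    (isBlockIdem_eA hM hF.1.1.1.2)
  obtain ⟨b, hb, rfl⟩ := exists_eA_eq hM hb'
  have hne := blockPart_central_ne_zero hM hF.1 hχ x hxc hb hle
  exact lam_eq_one_of_fixed (starCtx_quot hM hF l) hχ hfix x hb hle (s := 1)
    (by rw [orderOf_one]; exact hM.1.not_dvd_one) hne

/-- The index of the focal subgroup divides the number of characters of height zero. -/
theorem index_focal_dvd :
    (F.focalSubgroup.subgroupOf P).index ∣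
      Nat.card {χ : IrrCharacter G // χ ∈ B ∧ blockHeight p B (χ : G → ℂ) = 0} := by
  letI := starAction hM hF 0
  rw [← card_linChar hM hF, ← Subgroup.index_bot]
  haveI : Finite (P ⧸ F.focalSubgroup.subgroupOf P →* ℂˣ) :=
    Nat.finite_of_card_ne_zero (by rw [card_linChar hM hF]; exact Subgroup.index_ne_zero_of_finite)
  exact index_dvd_card_of_stabilizer_le ⊥ fun χ l hl => Subgroup.mem_bot.2
    (eq_one_of_fixed hM hF l χ.2.1 χ.2.2 (congrArg Subtype.val (MulAction.mem_stabilizer_iff.1 hl)))

/-- The index of the focal part of the centre divides the number of characters of each height. -/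
theorem index_center_focal_dvd (h : ℕ) :
    ((P ⊓ Subgroup.centralizer (P : Set G) ⊓ F.focalSubgroup).subgroupOf
        (P ⊓ Subgroup.centralizer (P : Set G))).index ∣
      Nat.card {χ : IrrCharacter G // χ ∈ B ∧ blockHeight p B (χ : G → ℂ) = h} := by
  letI := starAction hM hF h
  set N := F.focalSubgroup.subgroupOf P with hNdef
  set Z := P ⊓ Subgroup.centralizer (P : Set G) with hZ
  let ψ : Z →* P ⧸ N := (QuotientGroup.mk' N).comp (Subgroup.inclusion inf_le_left)
  have hker : (Z ⊓ F.focalSubgroup).subgroupOf Z = ψ.ker := by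
    ext z
    simp only [MonoidHom.mem_ker, ψ, MonoidHom.comp_apply, QuotientGroup.mk'_apply,
      QuotientGroup.eq_one_iff, hNdef, Subgroup.mem_subgroupOf, Subgroup.mem_inf,
      Subgroup.coe_inclusion, SetLike.coe_mem, true_and]
  rw [hker, Subgroup.index_ker]
  haveI : Finite (P ⧸ N →* ℂˣ) :=
    Nat.finite_of_card_ne_zero (by rw [card_linChar hM hF]; exact Subgroup.index_ne_zero_of_finite)
  let K₀ : Subgroup (P ⧸ N →* ℂˣ) :=
    { carrier := {l | ψ.range ≤ l.ker}
      one_mem' := fun _ _ => rfl
      mul_mem' := fun {l m} hl hm y hy => by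
        rw [MonoidHom.mem_ker, MonoidHom.mul_apply, MonoidHom.mem_ker.1 (hl hy),
          MonoidHom.mem_ker.1 (hm hy), mul_one]
      inv_mem' := fun {l} hl y hy => by
        rw [MonoidHom.mem_ker, MonoidHom.inv_apply, MonoidHom.mem_ker.1 (hl hy), inv_one] }
  have hidx : K₀.index = Nat.card ψ.range := by
    letI : CommGroup (P ⧸ N) :=
      { (inferInstance : Group (P ⧸ N)) with
        mul_comm := quot_mul_comm hM hF }
    have e : K₀ ≃ ((P ⧸ N) ⧸ ψ.range →* ℂˣ) :=
      { toFun := fun l => QuotientGroup.lift ψ.range l.1 l.2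
        invFun := fun m => ⟨m.comp (QuotientGroup.mk' ψ.range), fun y hy => by
          rw [MonoidHom.mem_ker, MonoidHom.comp_apply, QuotientGroup.mk'_apply,
            (QuotientGroup.eq_one_iff y).2 hy, map_one]⟩
        left_inv := fun l => rfl
        right_inv := fun m => QuotientGroup.monoidHom_ext _ rfl }
    have h1 := K₀.card_mul_index
    rw [Nat.card_congr e, CommGroup.card_monoidHom_of_hasEnoughRootsOfUnity,
      CommGroup.card_monoidHom_of_hasEnoughRootsOfUnity,
      Subgroup.card_eq_card_quotient_mul_card_subgroup ψ.range] at h1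
    exact Nat.eq_of_mul_eq_mul_left Nat.card_pos h1
  rw [← hidx]
  refine index_dvd_card_of_stabilizer_le K₀ fun χ l hl => ?_
  rintro y ⟨z, rfl⟩
  exact eq_one_on_center_of_fixed hM hF l χ.2.1
    (congrArg Subtype.val (MulAction.mem_stabilizer_iff.1 hl)) _ z.2.2

end CfsgLib.BPStar
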