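import Cfsg.Agent.Lib.BPStar.Parts
import Cfsg.Agent.Lib.Characters.BrauerInduction
import Cfsg.Agent.Lib.PCore.Basic
import Cfsg.Agent.Lib.Involutions.ElementaryOdd

/-!
# The twisted class function of a character by a linear character of the defect group
-/

set_option autoImplicit false
set_option linter.unusedSectionVars false

namespace CfsgLib.BPStar

open Cfsg MonoidAlgebra CfsgLib.Blocks CfsgLib.BrauerPairs CfsgLib.Characters
open scoped Classical ComplexConjugate

universe u

variable {p : ℕ} [Fact p.Prime] {M : Ideal AlgInt} [M.IsMaximal]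
variable {G : Type u} [Group G] [Fintype G]
variable {B : Set (IrrCharacter G)} {P : Subgroup G}
variable {e : Set (IrrCharacter (Subgroup.centralizer (P : Set G)))} {lam : P →* ℂˣ}

/-- The class function `lam * χ`. -/
noncomputable def starFun (hM : IsPModular p M) (B : Set (IrrCharacter G)) (P : Subgroup G)
    (e : Set (IrrCharacter (Subgroup.centralizer (P : Set G)))) (lam : P →* ℂˣ) (χ : G → ℂ)
    (g : G) : ℂ :=
  twistVal hM (wt hM P e lam) χ ((exists_isPPart hM.1 g).choose⁻¹ * g) (eG hM B)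
    (exists_isPPart hM.1 g).choose

variable {hM : IsPModular p M}

theorem starFun_eq (χ : G → ℂ) {u s : G} (hc : Commute u s)
    (hu : ∃ k : ℕ, orderOf u = p ^ k) (hs : ¬ p ∣ orderOf s) :
    starFun hM B P e lam χ (u * s) = twistVal hM (wt hM P e lam) χ s (eG hM B) u := by
  have h := IsPPart.unique hM.1 (exists_isPPart hM.1 (u * s)).choose_spec (isPPart_mul hc hu hs)
  rw [starFun, h, inv_mul_cancel_left]

theorem isPGroup_zpowers {u : G} (hu : ∃ k : ℕ, orderOf u = p ^ k) :
    IsPGroup p (Subgroup.zpowers u) := by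
  obtain ⟨k, hk⟩ := hu
  exact IsPGroup.of_card (by rw [Nat.card_zpowers, hk])

theorem exists_sec_decomp (hp : p.Prime) (g : G) :
    ∃ (u : G) (s : cz (Subgroup.zpowers u)),
      (∃ k : ℕ, orderOf u = p ^ k) ∧ ¬ p ∣ orderOf s ∧ g = u * (s : G) := by
  obtain ⟨u, y, hy, hc, hk, hyp⟩ := exists_isPPart hp g
  have hmem : y ∈ cz (Subgroup.zpowers u) := mem_cz.2 fun v hv => by
    obtain ⟨j, rfl⟩ := Subgroup.mem_zpowers_iff.1 hv
    exact (hc.zpow_left j).eq
  exact ⟨u, ⟨y, hmem⟩, hk, by rwa [← Subgroup.orderOf_coe], hy.symm⟩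

/-- The value on a section. -/
theorem starFun_sec (hB : IsPBlock M B) {χ : IrrCharacter G} (hχ : χ ∈ B) {u : G}
    (hu : ∃ k : ℕ, orderOf u = p ^ k) {s : cz (Subgroup.zpowers u)} (hs : ¬ p ∣ orderOf s) :
    starFun hM B P e lam (χ : G → ℂ) (u * (s : G)) =
      ∑ b ∈ blockSets M (cz (Subgroup.zpowers u)),
        wt hM P e lam u (eA hM (cz (Subgroup.zpowers u)) b) *
          blockPart b (secFun u (χ : G → ℂ)) s := by
  rw [starFun_eq _ (commute_of_mem_cz s.2) hu (by rwa [Subgroup.orderOf_coe]),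
    twistVal_eq_sum hM hB hχ hu hs]

/-- The weighted sums coincide for two ideals. -/
theorem starFun_transfer {M' : Ideal AlgInt} [M'.IsMaximal] {hM' : IsPModular p M'}
    (h : StarCtx hM B P e lam) (h' : StarCtx hM' B P e lam) {χ : IrrCharacter G} (hχ : χ ∈ B) :
    starFun hM B P e lam (χ : G → ℂ) = starFun hM' B P e lam (χ : G → ℂ) := by
  funext g
  obtain ⟨u, s, hu, hs, rfl⟩ := exists_sec_decomp hM.1 g
  rw [starFun_sec h.isPBlockB hχ hu hs, starFun_sec h'.isPBlockB hχ hu hs,
    blockSets_transfer hM hM']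
  exact Finset.sum_congr rfl fun b hb => by rw [wt_transfer h h' (mem_blockSets.1 hb)]

theorem orderOf_conj' (t x : G) : orderOf (t * x * t⁻¹) = orderOf x :=
  (MulAut.conj t).orderOf_eq x

/-- Values are equivariant under all of `G` at a fixed idempotent. -/
theorem twistVal_conj_top [CharP (ResK M) p] {E : MonoidAlgebra (ResK M) G}
    {Λ : G → MonoidAlgebra (ResK M) G → ℂ} (hΛ : IsTwist p E Λ)
    (hEfix : E ∈ fixAlg (ResK M) (⊤ : Subgroup G)) (hEi : IsIdempotentElem E)
    {χ : G → ℂ} (hχ : IsCharacter G χ) {U : Subgroup G}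
    (hU : IsPGroup p U) {x : G} (hx : ¬ p ∣ orderOf x) (hxU : x ∈ cz U) {u : G} (hu : u ∈ U)
    (t : G) :
    twistVal hM Λ χ (t * x * t⁻¹) E (t * u * t⁻¹) = twistVal hM Λ χ x E u := by
  have hEA : E ∈ algAt (ResK M) x U := ⟨fixAlg_anti le_top hEfix, fixAlg_anti le_top hEfix⟩
  have hz : (Subgroup.zpowers u).map (MulAut.conj t).toMonoidHom =
      Subgroup.zpowers (t * u * t⁻¹) := map_conj_zpowers t u
  have hcz : ∀ (g w : G) (b : MonoidAlgebra (ResK M) G),
      IsBlockIdem (cz (Subgroup.zpowers w)) b →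
      IsBlockIdem (cz (Subgroup.zpowers (g * w * g⁻¹))) (conjA g b) := fun g w b hb => by
    have := hb.conjA g
    rwa [← cz_map_conj, map_conj_zpowers] at this
  symm
  refine Finset.sum_nbij' (fun b => conjA t b) (fun b => conjA t⁻¹ b)
    (fun b hb => (mem_blocksAt_iff hM).2 (hcz t u b ((mem_blocksAt_iff hM).1 hb)))
    (fun b hb => (mem_blocksAt_iff hM).2 (by
      have := hcz t⁻¹ _ b ((mem_blocksAt_iff hM).1 hb)
      rwa [show t⁻¹ * (t * u * t⁻¹) * t⁻¹⁻¹ = u by group] at this))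
    (fun b _ => by rw [← conjA_mul_left, inv_mul_cancel, conjA_one_left])
    (fun b _ => by rw [← conjA_mul_left, mul_inv_cancel, conjA_one_left]) fun b hb => ?_
  obtain ⟨hc, hi, -⟩ := piece_spec hM hU hxU hu hEA hb
  rw [hΛ.conj, show t * u * t⁻¹ * (t * x * t⁻¹) = t * (u * x) * t⁻¹ by group, ← hz]
  conv_rhs => rw [show E = conjA t E from (hEfix t (Subgroup.mem_top t)).symm]
  rw [← conjA_brMap, ← conjA_mul, liftVal_conj hM hχ (isPPart_of_mem hU hx hxU hu) (hi hEi) hc t]

theorem isClassFunction_starFun (h : StarCtx hM B P e lam) {χ : IrrCharacter G} :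
    IsClassFunction G (starFun hM B P e lam (χ : G → ℂ)) := by
  have := charP_res hM
  intro g t
  obtain ⟨u, s, hu, hs, rfl⟩ := exists_sec_decomp hM.1 g
  have hs' : ¬ p ∣ orderOf (s : G) := by rwa [Subgroup.orderOf_coe]
  have hc := commute_of_mem_cz s.2
  rw [show t * (u * (s : G)) * t⁻¹ = t * u * t⁻¹ * (t * s * t⁻¹) by group,
    starFun_eq _ (show Commute (t * u * t⁻¹) (t * (s : G) * t⁻¹) from
        hc.map (MulAut.conj t).toMonoidHom) (by simpa [orderOf_conj'] using hu)
      (by rwa [orderOf_conj']),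
    starFun_eq _ hc hu hs']
  have hE := isBlockIdem_eG hM h.isPBlockB
  exact twistVal_conj_top h.isTwist hE.fixed hE.idem (irr_isCharacter χ)
    (isPGroup_zpowers hu) hs' s.2 (Subgroup.mem_zpowers u) t

/-- When all covered weights are `1` the twisted value is the value. -/
theorem starFun_of_weight_one (hB : IsPBlock M B) {χ : IrrCharacter G} (hχ : χ ∈ B) {u : G}
    (hu : ∃ k : ℕ, orderOf u = p ^ k) {s : cz (Subgroup.zpowers u)} (hs : ¬ p ∣ orderOf s)
    (hone : ∀ b : MonoidAlgebra (ResK M) G, IsBlockIdem (cz (Subgroup.zpowers u)) b →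
      brMap (ResK M) (Subgroup.zpowers u) (eG hM B) * b = b → wt hM P e lam u b = 1) :
    starFun hM B P e lam (χ : G → ℂ) (u * (s : G)) = (χ : G → ℂ) (u * (s : G)) := by
  rw [starFun_sec hB hχ hu hs]
  have h1 := sum_blockPart hM (isClassFunction_secFun (irr_isClassFunction χ) u) s
  rw [secFun] at h1
  rw [← h1]
  refine Finset.sum_congr rfl fun b hb => ?_
  have hb' := mem_blockSets.1 hb
  by_cases hcov : brMap (ResK M) (Subgroup.zpowers u) (eG hM B) *
      eA hM (cz (Subgroup.zpowers u)) b = eA hM (cz (Subgroup.zpowers u)) b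
  · rw [hone _ (isBlockIdem_eA hM hb') hcov, one_mul]
  · rw [blockPart_secFun_eq_zero hM hB hχ hu hs hb' hcov, mul_zero]

/-- The twisted function agrees with the character on `p`-regular elements. -/
theorem starFun_regular (h : StarCtx hM B P e lam) {χ : IrrCharacter G} (hχ : χ ∈ B) {g : G}
    (hg : ¬ p ∣ orderOf g) : starFun hM B P e lam (χ : G → ℂ) g = (χ : G → ℂ) g := by
  have hmem : g ∈ cz (Subgroup.zpowers (1 : G)) := by
    rw [Subgroup.zpowers_one_eq_bot, cz_bot]; trivial
  have hu : ∃ k : ℕ, orderOf (1 : G) = p ^ k := ⟨0, by simp⟩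
  have key := starFun_of_weight_one (hM := hM) (P := P) (e := e) (lam := lam) h.isPBlockB hχ hu
    (s := ⟨g, hmem⟩) (by rwa [← Subgroup.orderOf_coe]) fun b hb hcov => ?_
  · simpa using key
  · obtain ⟨t, ht, -, hw⟩ := h.exists_weight (isPGroup_zpowers hu) hb hcov
    rw [hw, show (⟨t * 1 * t⁻¹, ht⟩ : P) = 1 from Subtype.ext (by simp), map_one, Units.val_one]

theorem starFun_one (h : StarCtx hM B P e lam) {χ : IrrCharacter G} (hχ : χ ∈ B) :
    starFun hM B P e lam (χ : G → ℂ) 1 = (χ : G → ℂ) 1 :=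
  starFun_regular h hχ (by rw [orderOf_one]; exact hM.1.not_dvd_one)

end CfsgLib.BPStar
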