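import Cfsg.Agent.Lib.BrauerPairs.Core
import Cfsg.Agent.Lib.KGV.CharTools
import Mathlib.FieldTheory.IsAlgClosed.Basic
import Mathlib.RingTheory.Polynomial.ScaleRoots
import Mathlib.LinearAlgebra.Eigenspace.Minpoly
import Mathlib.RingTheory.Noetherian.Nilpotent

/-!
# Character functionals on the group ring over the local integers

`trC χ` extends a class function linearly to `ℂ[G]`.  For a character it is the sum of the
eigenvalues of the representing operator, so it is governed by the polynomials killing the element.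
-/

set_option autoImplicit false
set_option linter.unusedSectionVars false

namespace CfsgLib.BPStar

open Cfsg MonoidAlgebra Polynomial CfsgLib.Blocks CfsgLib.BrauerPairs

variable {p : ℕ} {M : Ideal AlgInt}

/-- The local ring at `M` is integrally closed in `ℂ`. -/
theorem mem_lRing_of_monic (hM : IsPModular p M) {P : (lRing hM)[X]} (hP : P.Monic) {z : ℂ}
    (hz : P.eval₂ (lRing hM).subtype z = 0) : z ∈ lRing hM := by
  classical
  choose a b hb hab using fun x : lRing hM => x.2
  set s := P.support with hs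
  set β : AlgInt := ∏ i ∈ s, b (P.coeff i) with hβ
  have hβM : β ∉ M := fun h => by
    obtain ⟨i, -, hi⟩ := ((IsPModular.isPrime hM).prod_mem_iff).1 h
    exact hb _ hi
  set Q := (P.map (lRing hM).subtype).scaleRoots (β : ℂ) with hQ
  have hQm : Q.Monic := (monic_scaleRoots_iff _).2 (hP.map _)
  have hcoef : ∀ i, Q.coeff i ∈ Set.range (algebraMap AlgInt ℂ) := by
    intro i
    rw [hQ, coeff_scaleRoots, natDegree_map_eq_of_injective Subtype.val_injective, Polynomial.coeff_map]
    rcases lt_trichotomy i P.natDegree with hi | rfl | hi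
    · by_cases h0 : P.coeff i = 0
      · exact ⟨0, by simp [h0]⟩
      · obtain ⟨m, hm⟩ : ∃ m, P.natDegree - i = m + 1 := ⟨P.natDegree - i - 1, by omega⟩
        refine ⟨a (P.coeff i) * (∏ j ∈ s.erase i, b (P.coeff j)) * β ^ m, ?_⟩
        have hbi := coe_ne_zero_of_notMem (hb (P.coeff i))
        have hprod : (β : ℂ) = (b (P.coeff i) : ℂ) * ((∏ j ∈ s.erase i, b (P.coeff j) : AlgInt) : ℂ) := by
          rw [hβ, ← Finset.mul_prod_erase s _ (mem_support_iff.2 h0)]
          push_cast
          rfl
        rw [Subring.subtype_apply, ← hab (P.coeff i), hm, pow_succ',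
          show ∀ x : AlgInt, algebraMap AlgInt ℂ x = (x : ℂ) from fun _ => rfl]
        push_cast
        field_simp
        rw [hprod]
        push_cast
        ring
    · exact ⟨1, by simp [hP.coeff_natDegree]⟩
    · exact ⟨0, by simp [coeff_eq_zero_of_natDegree_lt hi]⟩
  obtain ⟨Q', hQ', -, hQ'm⟩ := lifts_and_degree_eq_and_monic ((lifts_iff_coeff_lifts _).2 hcoef) hQm
  have hroot : Q.eval₂ (RingHom.id ℂ) ((β : ℂ) * z) = 0 :=
    scaleRoots_eval₂_eq_zero (RingHom.id ℂ) (by rw [eval₂_map, RingHom.id_comp]; exact hz)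
  rw [← hQ', eval₂_map, RingHom.id_comp] at hroot
  have hint : IsIntegral ℤ ((β : ℂ) * z) :=
    isIntegral_trans (R := ℤ) (A := AlgInt) _ ⟨Q', hQ'm, hroot⟩
  exact ⟨⟨_, hint⟩, β, hβM, by rw [mul_div_cancel_left₀ _ (coe_ne_zero_of_notMem hβM)]⟩

variable [M.IsMaximal]

/-- The residue field is algebraically closed. -/
theorem isAlgClosed_res (hM : IsPModular p M) : IsAlgClosed (ResK M) := by
  refine IsAlgClosed.of_exists_root _ fun q hq hirr => ?_
  have hsurj : Function.Surjective (Ideal.Quotient.mk M : AlgInt →+* ResK M) :=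
    Ideal.Quotient.mk_surjective
  obtain ⟨Q, hQ, hQd, hQm⟩ := lifts_and_degree_eq_and_monic
    ((lifts_iff_coeff_lifts _).2 fun n => hsurj (q.coeff n)) hq
  have hdeg : (Q.map (algebraMap AlgInt ℂ)).degree ≠ 0 := by
    rw [hQm.degree_map, hQd]
    exact (degree_pos_of_irreducible hirr).ne'
  obtain ⟨z, hz⟩ := IsAlgClosed.exists_root _ hdeg
  rw [IsRoot.def, eval_map] at hz
  have hint : IsIntegral ℤ z := isIntegral_trans (R := ℤ) (A := AlgInt) _ ⟨Q, hQm, hz⟩
  refine ⟨Ideal.Quotient.mk M ⟨z, hint⟩, ?_⟩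
  suffices h2 : (Q.map (Ideal.Quotient.mk M)).eval (Ideal.Quotient.mk M ⟨z, hint⟩) = 0 by
    rw [← hQ]; exact h2
  have h0 : Q.eval (⟨z, hint⟩ : AlgInt) = 0 := Subtype.ext <| by
    show algebraMap AlgInt ℂ (Q.eval ⟨z, hint⟩) = 0
    rw [← eval₂_hom]
    exact hz
  have h1 := congrArg (Ideal.Quotient.mk M) h0
  rw [map_zero] at h1
  rw [eval_map, eval₂_hom]
  exact h1

variable {G : Type*} [Group G] [Fintype G]

/-- The linear extension of a function on `G` to `ℂ[G]`. -/
noncomputable def trC (χ : G → ℂ) : MonoidAlgebra ℂ G →ₗ[ℂ] ℂ where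
  toFun y := ∑ g, y.coeff g * χ g
  map_add' y z := by simp [add_mul, Finset.sum_add_distrib]
  map_smul' r z := by simp [← Finset.mul_sum, mul_assoc]

theorem trC_single (χ : G → ℂ) (g : G) (r : ℂ) : trC χ (single g r) = r * χ g := by
  classical
  simp [trC, coeff_single, Finsupp.single_apply]

theorem eq_sum_single {R : Type*} [Semiring R] (y : MonoidAlgebra R G) :
    y = ∑ g, single g (y.coeff g) := by
  classical
  ext x
  simp [Finsupp.single_apply]

theorem trC_mul_comm {χ : G → ℂ} (hχ : IsClassFunction G χ) (y z : MonoidAlgebra ℂ G) :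
    trC χ (y * z) = trC χ (z * y) := by
  rw [eq_sum_single y, eq_sum_single z]
  simp only [Finset.sum_mul, Finset.mul_sum, map_sum]
  rw [Finset.sum_comm]
  refine Finset.sum_congr rfl fun h _ => Finset.sum_congr rfl fun g _ => ?_
  rw [single_mul_single, single_mul_single, trC_single, trC_single,
    show χ (g * h) = χ (h * g) from by
      rw [show h * g = h * (g * h) * h⁻¹ from by group]; exact (hχ _ _).symm]
  ring

theorem trC_conj {χ : G → ℂ} (hχ : IsClassFunction G χ) (t : G) (y : MonoidAlgebra ℂ G) :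
    trC χ (single t 1 * y * single t⁻¹ 1) = trC χ y := by
  rw [trC_mul_comm hχ, ← mul_assoc, single_mul_single, inv_mul_cancel, mul_one, ← one_def, one_mul]

/-- The eigenvalues of an element of the group algebra on a representation. -/
theorem exists_roots {χ : G → ℂ} (hχ : IsCharacter G χ) (y : MonoidAlgebra ℂ G) :
    ∃ s : Multiset ℂ, trC χ y = s.sum ∧
      ∀ μ ∈ s, ∀ P : ℂ[X], aeval y P = 0 → P.eval μ = 0 := by
  obtain ⟨n, ρ, rfl⟩ := hχ
  set f : Module.End ℂ (Fin n → ℂ) := Representation.asAlgebraHom ρ y with hf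
  refine ⟨f.charpoly.roots, ?_, fun μ hμ P hP => ?_⟩
  · rw [← KGV.trace_eq_roots_sum, hf]
    conv_rhs => rw [eq_sum_single y, map_sum, map_sum]
    refine Finset.sum_congr rfl fun g _ => ?_
    rw [Representation.asAlgebraHom_single, map_smul, smul_eq_mul]
    rfl
  · have h0 : Module.End.HasEigenvalue f μ := by
      rw [Module.End.hasEigenvalue_iff_isRoot_charpoly]
      exact (mem_roots (LinearMap.charpoly_monic _).ne_zero).1 hμ
    obtain ⟨v, hv⟩ := h0.exists_hasEigenvector
    have h1 := Module.End.aeval_apply_of_hasEigenvector (p := P) hv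
    rw [hf, aeval_algHom_apply, hP, map_zero, LinearMap.zero_apply] at h1
    exact (smul_eq_zero.1 h1.symm).resolve_right hv.2

/-- An element equal to a power of itself has an algebraic integer value. -/
theorem isIntegral_trC_of_pow {χ : G → ℂ} (hχ : IsCharacter G χ) {y : MonoidAlgebra ℂ G} {N : ℕ}
    (hN : 0 < N) (hy : y ^ (N + 1) = y) : IsIntegral ℤ (trC χ y) := by
  obtain ⟨s, hs, hroot⟩ := exists_roots hχ y
  rw [hs]
  refine IsIntegral.multiset_sum fun μ hμ => ?_
  have h := hroot μ hμ (X ^ (N + 1) - X) (by simp [hy])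
  simp only [eval_sub, pow_succ', eval_mul, eval_pow, eval_X, sub_eq_zero] at h
  rcases eq_or_ne μ 0 with h0 | h0
  · rw [h0]; exact isIntegral_zero
  · exact IsIntegral.of_pow hN (by rw [mul_eq_left₀ h0] at h; rw [h]; exact isIntegral_one)

variable (hM : IsPModular p M)

/-- The group ring over the local integers inside `ℂ[G]`. -/
noncomputable def inc : MonoidAlgebra (lRing hM) G →+* MonoidAlgebra ℂ G :=
  MonoidAlgebra.mapRingHom G (lRing hM).subtype

/-- Reduction to the group algebra over the residue field. -/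
noncomputable def red : MonoidAlgebra (lRing hM) G →+* MonoidAlgebra (ResK M) G :=
  MonoidAlgebra.mapRingHom G (resK hM)

@[simp] theorem coeff_inc (a : MonoidAlgebra (lRing hM) G) (g : G) :
    (inc hM a).coeff g = (a.coeff g : ℂ) := by simp [inc]

@[simp] theorem coeff_red (a : MonoidAlgebra (lRing hM) G) (g : G) :
    (red hM a).coeff g = resK hM (a.coeff g) := by simp [red]

theorem inc_single (g : G) (r : lRing hM) : inc hM (single g r) = single g (r : ℂ) := by
  simp [inc]

theorem red_single (g : G) (r : lRing hM) : red hM (single g r) = single g (resK hM r) := by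
  simp [red]

/-- The value of a character on the group ring over the local integers. -/
noncomputable def trR (χ : G → ℂ) (a : MonoidAlgebra (lRing hM) G) : ℂ := trC χ (inc hM a)

theorem trR_mul_comm {χ : G → ℂ} (hχ : IsClassFunction G χ)
    (a b : MonoidAlgebra (lRing hM) G) : trR hM χ (a * b) = trR hM χ (b * a) := by
  rw [trR, trR, map_mul (inc hM), map_mul (inc hM), trC_mul_comm hχ]

theorem trR_add (χ : G → ℂ) (a b : MonoidAlgebra (lRing hM) G) :
    trR hM χ (a + b) = trR hM χ a + trR hM χ b := by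
  rw [trR, map_add, map_add]; rfl

theorem trR_zero (χ : G → ℂ) : trR hM χ 0 = 0 := by
  rw [trR, map_zero, map_zero]

theorem trR_eq_sum (χ : G → ℂ) (a : MonoidAlgebra (lRing hM) G) :
    trR hM χ a = ∑ g, (a.coeff g : ℂ) * χ g := by
  simp [trR, trC]

theorem trR_mem {χ : G → ℂ} (hχ : IsCharacter G χ) (a : MonoidAlgebra (lRing hM) G) :
    trR hM χ a ∈ lRing hM := by
  rw [trR_eq_sum]
  exact Subring.sum_mem _ fun g _ =>
    Subring.mul_mem _ (a.coeff g).2 (isIntegral_mem_lRing hM (KGV.char_isIntegral hχ g))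

/-- A finite set of local integers in the local ideal has a power divisible by `p`. -/
theorem exists_pow_mem {d : lRing hM} (hd : resK hM d = 0) :
    ∃ n : ℕ, d ^ n ∈ Ideal.span {(p : lRing hM)} := by
  classical
  obtain ⟨a, b, ha, hb, hab⟩ := (resK_eq_zero_iff hM d).1 hd
  have : NeZero p := ⟨hM.1.ne_zero⟩
  set q := minpoly ℤ a
  have hint : IsIntegral ℤ a := Algebra.IsIntegral.isIntegral a
  have hq : q.Monic := minpoly.monic hint
  obtain ⟨n, m, hnm, heq⟩ := Finite.exists_ne_map_eq_of_infinite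
    fun n : ℕ => fun i : Fin q.natDegree => (((X ^ n : ℤ[X]) %ₘ q).coeff i : ZMod p)
  wlog hlt : n < m generalizing n m
  · exact this m n hnm.symm heq.symm (by omega)
  obtain ⟨r, hr⟩ : (C (p : ℤ)) ∣ (X ^ m : ℤ[X]) %ₘ q - (X ^ n : ℤ[X]) %ₘ q := by
    rw [C_dvd_iff_dvd_coeff]
    intro i
    by_cases hi : i < q.natDegree
    · rw [Polynomial.coeff_sub]
      exact (ZMod.intCast_zmod_eq_zero_iff_dvd _ _).1 (by
        push_cast
        rw [sub_eq_zero]
        exact (congrFun heq ⟨i, hi⟩).symm)
    · have hlow : ∀ j : ℕ, ((X ^ j : ℤ[X]) %ₘ q).coeff i = 0 := fun j => by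
        by_contra h0
        have h1 := le_natDegree_of_ne_zero h0
        have h2 := natDegree_modByMonic_lt (X ^ j : ℤ[X]) hq (fun h1' => by
          have := minpoly.natDegree_pos hint
          rw [show minpoly ℤ a = q from rfl, h1', natDegree_one] at this
          omega)
        omega
      simp [hlow]
  have hmod : ∀ j : ℕ, aeval a ((X ^ j : ℤ[X]) %ₘ q) = a ^ j := fun j => by
    rw [modByMonic_eq_sub_mul_div, map_sub, map_mul, minpoly.aeval, zero_mul, sub_zero,
      aeval_X_pow]
  have hdiff : a ^ m - a ^ n = (p : AlgInt) * aeval a r := by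
    rw [← hmod m, ← hmod n, ← map_sub, hr, map_mul, aeval_C]
    simp
  have hu : a ^ (m - n) - 1 ∉ M := fun h => IsPModular.one_notMem hM (by
    have h1 := M.pow_mem_of_mem ha (m - n) (by omega)
    simpa using M.sub_mem h1 h)
  refine ⟨n, Ideal.mem_span_singleton.2 ⟨⟨(aeval a r : AlgInt) / ((a ^ (m - n) - 1) * b ^ n : AlgInt),
    ⟨_, _, IsPModular.mul_notMem hM hu (fun h => hb ((IsPModular.isPrime hM).mem_of_pow_mem n h)),
      rfl⟩⟩, Subtype.ext ?_⟩⟩
  have hu0 := coe_ne_zero_of_notMem hu
  have hb0 := coe_ne_zero_of_notMem hb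
  have e : (a : ℂ) ^ n * ((a ^ (m - n) - 1 : AlgInt) : ℂ) = (p : ℂ) * (aeval a r : AlgInt) := by
    have h1 := congrArg (Subtype.val : AlgInt → ℂ) hdiff
    push_cast at h1 ⊢
    rw [mul_sub, mul_one, ← pow_add, Nat.add_sub_cancel' hlt.le]
    exact h1
  push_cast at e ⊢
  rw [← hab, div_pow, mul_div_assoc', div_eq_div_iff (pow_ne_zero _ hb0)
    (mul_ne_zero (by simpa using hu0) (pow_ne_zero _ hb0))]
  linear_combination (b : ℂ) ^ n * e

/-- The ideal of finitely many local integers in the local ideal has a power inside `(p)`. -/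
theorem exists_ideal_pow (d : G → lRing hM) (hd : ∀ g, resK hM (d g) = 0) :
    ∃ N : ℕ, Ideal.span (Set.range d) ^ N ≤ Ideal.span {(p : lRing hM)} := by
  set π := Ideal.Quotient.mk (Ideal.span {(p : lRing hM)})
  have hnil : (Ideal.span (Set.range d)).map π ≤ nilradical _ := by
    rw [Ideal.map_span, Ideal.span_le]
    rintro _ ⟨_, ⟨g, rfl⟩, rfl⟩
    obtain ⟨n, hn⟩ := exists_pow_mem hM (hd g)
    exact ⟨n, Ideal.mem_bot.2 (by rw [← map_pow]; exact Ideal.Quotient.eq_zero_iff_mem.2 hn)⟩
  obtain ⟨N, hN⟩ := ((Ideal.FG.map (Submodule.fg_span (Set.finite_range d)) π)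
    |>.isNilpotent_iff_le_nilradical).2 hnil
  exact ⟨N, fun x hx => Ideal.Quotient.eq_zero_iff_mem.1 (by
    have h1 := Ideal.mem_map_of_mem π hx
    rwa [Ideal.map_pow, hN] at h1)⟩

/-- The value on an element with nilpotent reduction lies in the local ideal. -/
theorem trR_mem_ideal {χ : G → ℂ} (hχ : IsCharacter G χ) {a : MonoidAlgebra (lRing hM) G}
    (ha : IsNilpotent (red hM a)) : MemLocalIdeal M (trR hM χ a) := by
  classical
  obtain ⟨m, hm⟩ := ha
  have hd : ∀ g, resK hM ((a ^ m).coeff g) = 0 := fun g => by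
    rw [← coeff_red, map_pow, hm]; simp
  obtain ⟨N, hN⟩ := exists_ideal_pow hM _ hd
  set I := Ideal.span (Set.range fun g => (a ^ m).coeff g) with hI
  have hpow : ∀ j g, ((a ^ m) ^ j).coeff g ∈ I ^ j := by
    intro j
    induction j with
    | zero => intro g; simp
    | succ j ih =>
      intro g
      rw [pow_succ (a ^ m), MonoidAlgebra.coeff_mul]
      refine Ideal.sum_mem _ fun u _ => Ideal.sum_mem _ fun v _ => ?_
      dsimp only
      split_ifs
      · rw [pow_succ]
        exact Ideal.mul_mem_mul (ih u) (Ideal.subset_span ⟨v, rfl⟩)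
      · exact Ideal.zero_mem _
  choose w hw using fun g => Ideal.mem_span_singleton.1 (hN (hpow N g))
  set W : MonoidAlgebra (lRing hM) G := ∑ g, single g (w g) with hW
  have hWa : (a ^ m) ^ (N + 1) = (p : lRing hM) • (W * a ^ m) := by
    rw [pow_succ, ← smul_mul_assoc]
    congr 1
    ext g
    simp [hW, Finsupp.single_apply, hw g]
  obtain ⟨P, hPm, hP⟩ := Algebra.IsIntegral.isIntegral (R := lRing hM) (W * a ^ m)
  obtain ⟨s, hs, hroot⟩ := exists_roots hχ (inc hM a)
  rw [trR, hs]
  have key : ∀ μ ∈ s, MemLocalIdeal M μ := by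
    intro μ hμ
    set K := m * (N + 1) + 1 with hK
    -- `μ` is a local integer
    obtain ⟨P₀, hP₀m, hP₀⟩ := Algebra.IsIntegral.isIntegral (R := lRing hM) a
    have hcomp : (inc hM).comp (algebraMap (lRing hM) (MonoidAlgebra (lRing hM) G)) =
        (algebraMap ℂ (MonoidAlgebra ℂ G)).comp (lRing hM).subtype := by
      ext r : 1
      simp [inc, coe_algebraMap]
    have hinc : ∀ (Q : (lRing hM)[X]) (y : MonoidAlgebra (lRing hM) G),
        Q.eval₂ (algebraMap _ _) y = 0 → aeval (inc hM y) (Q.map (lRing hM).subtype) = 0 := by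
      intro Q y hy
      rw [aeval_def, eval₂_map, ← hcomp, ← hom_eval₂, hy, map_zero]
    have hμR : μ ∈ lRing hM := by
      have h := hroot μ hμ _ (hinc P₀ a hP₀)
      rw [eval_map] at h
      exact mem_lRing_of_monic hM hP₀m h
    have hp0 : (p : ℂ) ≠ 0 := Nat.cast_ne_zero.2 hM.1.ne_zero
    have hq : μ ^ (m * (N + 1)) / (p : ℂ) ∈ lRing hM := by
      have h := hroot μ hμ ((P.map (lRing hM).subtype).comp
        (C (p : ℂ)⁻¹ * X ^ (m * (N + 1)))) (by
        rw [aeval_comp]
        have e : aeval (inc hM a) (C (p : ℂ)⁻¹ * X ^ (m * (N + 1))) = inc hM (W * a ^ m) := by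
          rw [map_mul, aeval_C, aeval_X_pow, ← map_pow, pow_mul, hWa, Algebra.smul_def, map_mul,
            ← RingHom.comp_apply, hcomp, RingHom.comp_apply, ← mul_assoc, ← map_mul]
          simp [hp0, ← one_def]
        rw [e]
        exact hinc P _ hP)
      rw [eval_comp, eval_map] at h
      have := mem_lRing_of_monic hM hPm h
      simpa [div_eq_inv_mul] using this
    have hmem : MemLocalIdeal M (μ ^ (m * (N + 1))) := by
      have h := MemLocalIdeal.mul_left hM hq (memLocalIdeal_p hM)
      rwa [div_mul_cancel₀ _ hp0] at h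
    by_contra hne
    have h1 : ∀ j, ¬ MemLocalIdeal M (μ ^ j) := by
      intro j
      induction j with
      | zero => rw [pow_zero]; exact not_memLocalIdeal_one hM
      | succ j ih =>
        rw [pow_succ]
        intro h
        rcases MemLocalIdeal.mul_cases hM ((lRing hM).pow_mem hμR j) hμR h with h' | h'
        · exact ih h'
        · exact hne h'
    exact h1 _ hmem
  clear hs hroot
  induction s using Multiset.induction with
  | empty => simpa using memLocalIdeal_zero hM
  | cons μ t ih =>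
    rw [Multiset.sum_cons]
    exact MemLocalIdeal.add hM (key μ (Multiset.mem_cons_self μ t))
      (ih fun ν hν => key ν (Multiset.mem_cons_of_mem hν))

end CfsgLib.BPStar
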