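import Cfsg.Agent.Lib.BPStar.Prim
import Cfsg.Agent.Lib.BrauerPairs.Pairs

/-!
# Local primitive idempotents and the pairs below them

In the algebra of elements of `k[G]` fixed by a `p`-subgroup `U` and by a `p`-regular element `x`
centralising it, the Brauer image at `U` of a local primitive idempotent determines the Brauer
images at all subgroups of `U`; a primitive idempotent killed at `U` is a trace from a maximal
subgroup.
-/

set_option autoImplicit false
set_option linter.unusedSectionVars false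

namespace CfsgLib.BPStar

open MonoidAlgebra CfsgLib.BrauerPairs

variable {k : Type*} [Field k] {G : Type*} [Group G] [Fintype G]
variable {p : ℕ} [CharP k p] [hp : Fact p.Prime]

variable (k) in
/-- The elements fixed by `W` and by `x`. -/
noncomputable def algAt (x : G) (W : Subgroup G) : Subalgebra k (MonoidAlgebra k G) :=
  fixAlg k W ⊓ fixAlg k (Subgroup.zpowers x)

theorem algAt_anti (x : G) {W W' : Subgroup G} (h : W ≤ W') : algAt k x W' ≤ algAt k x W :=
  inf_le_inf_right _ (fixAlg_anti h)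

theorem conjA_supp_self {H : Subgroup G} {a : MonoidAlgebra k G} (ha : a ∈ suppAlg k H) {g : G}
    (hg : g ∈ H) : conjA g a ∈ suppAlg k H := by
  have h := conjA_mem_suppAlg ha g
  rwa [map_conj_eq_self (Subgroup.le_normalizer hg)] at h

theorem mem_fix_zpowers {x : G} {a : MonoidAlgebra k G} (h : conjA x a = a) :
    a ∈ fixAlg k (Subgroup.zpowers x) := by
  intro g hg
  obtain ⟨j, rfl⟩ := Subgroup.mem_zpowers_iff.1 hg
  induction j using Int.induction_on with
  | zero => rw [zpow_zero, conjA_one_left]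
  | succ j ih => rw [zpow_add_one, conjA_mul_left, h, ih ⟨_, rfl⟩]
  | pred j ih =>
    have h' : conjA x⁻¹ a = a := by
      conv_lhs => rw [← h, ← conjA_mul_left, inv_mul_cancel, conjA_one_left]
    rw [zpow_sub_one, conjA_mul_left, h', ih ⟨_, rfl⟩]

theorem conjA_pow_fix {x : G} {a : MonoidAlgebra k G}
    (ha : a ∈ fixAlg k (Subgroup.zpowers x)) (n : ℕ) : conjA (x ^ n) a = a :=
  ha _ (Subgroup.mem_zpowers_iff.2 ⟨n, zpow_natCast x n⟩)

theorem relTr_fix_zpowers {x : G} {R T : Subgroup G} (hxT : x ∈ cz T) {b : MonoidAlgebra k G}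
    (hb : b ∈ fixAlg k (Subgroup.zpowers x)) :
    relTr k R T b ∈ fixAlg k (Subgroup.zpowers x) := by
  classical
  refine mem_fix_zpowers ?_
  rw [relTr_eq_sum, conjA_sum]
  refine Finset.sum_congr rfl fun q _ => ?_
  rw [← conjA_mul_left, ← mem_cz.1 hxT _ (q.out).2, conjA_mul_left,
    hb _ (Subgroup.mem_zpowers x)]

theorem relTr_self {R : Subgroup G} {a : MonoidAlgebra k G} (ha : a ∈ fixAlg k R) :
    relTr k R R a = a := by
  rw [relTr_of_fixed ha, Subgroup.relIndex_self, Nat.cast_one, one_smul]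

/-- The trace decomposition of elements killed by the Brauer map, respecting a `p`-regular element
that centralises the group. -/
theorem mem_of_brMap_eq_zero_fix {x : G} (hx : ¬ p ∣ orderOf x) {Q R : Subgroup G} (hQR : Q ≤ R)
    (hRQ : R ≤ Subgroup.normalizer (Q : Set G)) (hxR : x ∈ cz R)
    (J : AddSubmonoid (MonoidAlgebra k G))
    (hJ : ∀ S : Subgroup G, Q ≤ S → S < R → ∀ b : MonoidAlgebra k G,
      b ∈ suppAlg k (cz Q) → b ∈ algAt k x S → relTr k S R b ∈ J)
    {a : MonoidAlgebra k G} (hsupp : a ∈ suppAlg k (cz Q)) (ha : a ∈ algAt k x R)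
    (hbr : brMap k R a = 0) : a ∈ J := by
  classical
  set m := orderOf x
  have hm : (m : k) ≠ 0 := fun h => hx ((CharP.cast_eq_zero_iff k p m).1 h)
  let avg : MonoidAlgebra k G → MonoidAlgebra k G := fun y =>
    (m : k)⁻¹ • ∑ i ∈ Finset.range m, conjA (x ^ i) y
  have hadd : ∀ y z, avg (y + z) = avg y + avg z := fun y z => by
    simp only [avg, conjA_add, Finset.sum_add_distrib, smul_add]
  have hzero : avg 0 = 0 := by simp [avg, conjA_zero]
  let J' : AddSubmonoid (MonoidAlgebra k G) :=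
    { carrier := {y | avg y ∈ J}
      zero_mem' := by show avg 0 ∈ J; rw [hzero]; exact J.zero_mem
      add_mem' := fun {y z} hy hz => by show avg (y + z) ∈ J; rw [hadd]; exact J.add_mem hy hz }
  have hid : ∀ y ∈ fixAlg k (Subgroup.zpowers x), avg y = y := fun y hy => by
    simp only [avg, Finset.sum_congr rfl fun i _ => conjA_pow_fix hy i, Finset.sum_const,
      Finset.card_range]
    rw [← Nat.cast_smul_eq_nsmul k, smul_smul, inv_mul_cancel₀ hm, one_smul]
  have hkey : a ∈ J' := by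
    refine mem_of_brMap_eq_zero hQR hRQ J' (fun S hQS hSR b hbs hbf => ?_) hsupp ha.1 hbr
    show avg (relTr k S R b) ∈ J
    have hcomm : avg (relTr k S R b) = relTr k S R (avg b) := by
      simp only [avg, relTr_eq_sum, conjA_smul, conjA_sum, ← Finset.smul_sum]
      rw [Finset.sum_comm]
      congr 1
      refine Finset.sum_congr rfl fun q _ => Finset.sum_congr rfl fun i _ => ?_
      rw [← conjA_mul_left, ← conjA_mul_left,
        mem_cz.1 ((cz R).pow_mem hxR i) _ (q.out).2]
    rw [hcomm]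
    refine hJ S hQS hSR _ ?_ ⟨?_, mem_fix_zpowers ?_⟩
    · exact Subalgebra.smul_mem _ (Subalgebra.sum_mem _ fun i _ =>
        conjA_supp_self hbs ((cz Q).pow_mem (cz_anti hQR hxR) i)) _
    · refine Subalgebra.smul_mem _ (Subalgebra.sum_mem _ fun i _ => ?_) _
      intro s hs
      rw [← conjA_mul_left, mem_cz.1 ((cz R).pow_mem hxR i) s (hSR.le hs), conjA_mul_left,
        hbf s hs]
    · simp only [avg, conjA_smul, conjA_sum, ← conjA_mul_left, ← pow_succ']
      congr 1
      have h1 := Finset.sum_range_succ' (fun i => conjA (x ^ i) b) m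
      have h2 := Finset.sum_range_succ (fun i => conjA (x ^ i) b) m
      rw [h2, pow_orderOf_eq_one, pow_zero] at h1
      exact (add_right_cancel h1).symm
  have := hid a ha.2
  exact this ▸ hkey

/-- An element with vanishing Brauer images at all subgroups strictly above `Q`, multiplied by an
element, is a trace from `Q`. -/
theorem exists_relTr_of_kills {x : G} (hx : ¬ p ∣ orderOf x) {Q R : Subgroup G} (hQR : Q ≤ R)
    (hRp : IsPGroup p R)
    (hRQ : R ≤ Subgroup.normalizer (Q : Set G)) (hxR : x ∈ cz R) {r : MonoidAlgebra k G}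
    (hrs : r ∈ suppAlg k (cz Q)) (hr : r ∈ algAt k x R) (hrr : r * r = r)
    (hkill : ∀ S, Q < S → S ≤ R → brMap k S r = 0) :
    ∃ c : MonoidAlgebra k G, c ∈ suppAlg k (cz Q) ∧ c ∈ algAt k x Q ∧ relTr k Q R c = r := by
  have key : ∀ n, ∀ S : Subgroup G, Nat.card S = n → Q ≤ S → S ≤ R →
      ∀ a : MonoidAlgebra k G, a ∈ suppAlg k (cz Q) → a ∈ algAt k x S →
      ∃ c : MonoidAlgebra k G, c ∈ suppAlg k (cz Q) ∧ c ∈ algAt k x Q ∧
        relTr k Q S c = r * a := by
    intro n
    induction n using Nat.strong_induction_on with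
    | _ n ih =>
      intro S hn hQS hSR a has ha
      have hrS : r ∈ algAt k x S := algAt_anti x hSR hr
      have hra : r * a ∈ algAt k x S := mul_mem hrS ha
      by_cases hQ : Q = S
      · subst hQ
        exact ⟨r * a, mul_mem hrs has, hra, relTr_self hra.1⟩
      let J : AddSubmonoid (MonoidAlgebra k G) :=
        { carrier := {y | ∃ c : MonoidAlgebra k G, c ∈ suppAlg k (cz Q) ∧ c ∈ algAt k x Q ∧
            relTr k Q S c = r * y}
          zero_mem' := ⟨0, zero_mem _, zero_mem _, by rw [relTr_zero, mul_zero]⟩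
          add_mem' := by
            rintro y z ⟨c, hc1, hc2, hc⟩ ⟨d, hd1, hd2, hd⟩
            exact ⟨c + d, add_mem hc1 hd1, add_mem hc2 hd2, by rw [relTr_add, hc, hd, mul_add]⟩ }
      have hmem : r * a ∈ J := by
        refine mem_of_brMap_eq_zero_fix hx hQS (hSR.trans hRQ) (cz_anti hSR hxR) J
          (fun S' hQS' hS'S b hbs hb => ?_) (mul_mem hrs has) hra ?_
        · have hlt : Nat.card S' < n := hn ▸ lt_of_le_of_ne (Subgroup.card_le_of_le hS'S.le)
            fun h => hS'S.ne (Subgroup.eq_of_le_of_card_ge hS'S.le h.ge)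
          obtain ⟨c, hc1, hc2, hc⟩ := ih _ hlt S' rfl hQS' (hS'S.le.trans hSR) b hbs hb
          exact ⟨c, hc1, hc2, by rw [relTr_mul_left hrS.1, ← hc, relTr_relTr hQS' hS'S.le hc2.1]⟩
        · rw [brMap_mul (hRp.to_le hSR) hrS.1 ha.1, hkill S (lt_of_le_of_ne hQS hQ) hSR, zero_mul]
      obtain ⟨c, hc1, hc2, hc⟩ := hmem
      exact ⟨c, hc1, hc2, by rw [hc, ← mul_assoc, hrr]⟩
  obtain ⟨c, hc1, hc2, hc⟩ := key _ R rfl hQR le_rfl 1 (one_mem _) (one_mem _)
  exact ⟨c, hc1, hc2, by rw [hc, mul_one]⟩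

section Prim

variable {x : G} {U : Subgroup G}

theorem prim_cases {i : algAt k x U} (hi : IsPrim i) {z : MonoidAlgebra k G}
    (hz : z ∈ algAt k x U) (h1 : (i : MonoidAlgebra k G) * z = z)
    (h2 : z * (i : MonoidAlgebra k G) = z) :
    IsNilpotent z ∨ ∃ w ∈ algAt k x U, z * w = i ∧ w * z = i ∧
      (i : MonoidAlgebra k G) * w = w ∧ w * (i : MonoidAlgebra k G) = w := by
  rcases hi.local' k (z := ⟨z, hz⟩) (Subtype.ext h1) (Subtype.ext h2) with ⟨n, hn⟩ | ⟨w, a, b, c, d⟩
  · exact Or.inl ⟨n, congrArg Subtype.val hn⟩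
  · exact Or.inr ⟨w, w.2, congrArg Subtype.val c, congrArg Subtype.val d, congrArg Subtype.val a,
      congrArg Subtype.val b⟩

/-- The Brauer image of a local primitive idempotent lies in one block. -/
theorem exists_block_local (hk : HasBlocks k G) (hU : IsPGroup p U) (hxU : x ∈ cz U)
    {i : algAt k x U} (hi : IsPrim i) (hne : brMap k U (i : MonoidAlgebra k G) ≠ 0) :
    ∃ f, IsBlockIdem (cz U) f ∧ brMap k U (i : MonoidAlgebra k G) * f = brMap k U i := by
  obtain ⟨s, hs, hsum⟩ := hk (cz U)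
  obtain ⟨f, hf, hne'⟩ : ∃ f ∈ s, brMap k U (i : MonoidAlgebra k G) * f ≠ 0 := by
    by_contra hcon
    simp only [not_exists, not_and, not_not] at hcon
    exact hne (by rw [← mul_one (brMap k U (i : MonoidAlgebra k G)), ← hsum, Finset.mul_sum,
      Finset.sum_eq_zero hcon])
  refine ⟨f, hs f hf, ?_⟩
  have hb := hs f hf
  set r := brMap k U (i : MonoidAlgebra k G) with hr
  have hrs := brMap_mem_suppAlg U (i : MonoidAlgebra k G)
  have hcomm : Commute r f := commute_of_supp_fix hrs hb.fixed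
  have hfU : f ∈ fixAlg k U := fun u hu => fixed_of_supp_cz hb.supp u hu
  have hfA : f ∈ algAt k x U :=
    ⟨hfU, fun g hg => hb.fixed g ((Subgroup.zpowers_le.2 hxU) hg)⟩
  have hii : (i : MonoidAlgebra k G) * i = i := congrArg Subtype.val hi.idem.eq
  have hrr : r * r = r := by rw [hr, ← brMap_mul hU i.2.1 i.2.1, hii]
  set z := (i : MonoidAlgebra k G) * f * i with hz
  have hbrz : brMap k U z = r * f := by
    rw [hz, brMap_mul hU (mul_mem i.2.1 hfU) i.2.1, brMap_mul hU i.2.1 hfU,
      brMap_eq_self hb.supp, ← hr, hcomm.eq, mul_assoc, hrr]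
  rcases prim_cases hi (z := z) (mul_mem (mul_mem i.2 hfA) i.2)
      (by rw [hz, ← mul_assoc, ← mul_assoc, hii]) (by rw [hz, mul_assoc, hii]) with
    ⟨n, hn⟩ | ⟨w, hw, hzw, -, -, -⟩
  · exfalso
    apply hne'
    refine eq_zero_of_nilpotent_idem ⟨n, ?_⟩ ?_
    · rw [← hbrz, ← brMap_pow hU (mul_mem (mul_mem i.2.1 hfU) i.2.1), hn, map_zero]
    · rw [mul_assoc, ← mul_assoc f, ← hcomm.eq, mul_assoc r f f, hb.idem, ← mul_assoc, hrr]
  · have h1 := congrArg (brMap k U) hzw
    rw [brMap_mul hU (mul_mem (mul_mem i.2.1 hfU) i.2.1) hw.1, hbrz, ← hr] at h1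
    calc r * f = f * r := hcomm.eq
      _ = f * (r * f * brMap k U w) := by rw [h1]
      _ = r * f * brMap k U w := by
        rw [hcomm.eq, ← mul_assoc, ← mul_assoc, hb.idem]
      _ = r := h1

/-- The Brauer images of a local primitive idempotent follow the pairs below its pair. -/
theorem brMap_mul_of_pairLE (hk : HasBlocks k G) (hx : ¬ p ∣ orderOf x) (hU : IsPGroup p U)
    (hxU : x ∈ cz U) {i : algAt k x U} (hi : IsPrim i)
    (hne : brMap k U (i : MonoidAlgebra k G) ≠ 0) {f : MonoidAlgebra k G}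
    (hf : IsBlockIdem (cz U) f) (hif : brMap k U (i : MonoidAlgebra k G) * f = brMap k U i)
    {Q : Subgroup G} {b : MonoidAlgebra k G} (hQb : PairLE p (Q, b) (U, f)) :
    brMap k Q (i : MonoidAlgebra k G) * b = brMap k Q i := by
  induction hn : Nat.card U - Nat.card Q using Nat.strong_induction_on generalizing Q b with
  | _ n ih =>
  have hQU : Q ≤ U := hQb.le
  by_cases hQ : Q = U
  · subst hQ
    rw [pairLE_unique hk (b := (Q, f)) hf hU hQb Relation.ReflTransGen.refl]
    exact hif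
  set R := U ⊓ Subgroup.normalizer (Q : Set G) with hR
  have hlt : Q < R := by
    refine lt_of_le_of_ne (le_inf hQU Subgroup.le_normalizer) fun heq => ?_
    have := hU.isNilpotent
    have hlt' : Q.subgroupOf U < ⊤ := by
      refine lt_top_iff_ne_top.2 fun htop => hQ (le_antisymm hQU ?_)
      rwa [Subgroup.subgroupOf_eq_top] at htop
    obtain ⟨y, hyn, hyQ⟩ := SetLike.exists_of_lt
      (Group.normalizerCondition_of_isNilpotent (G := U) _ hlt')
    apply hyQ
    rw [Subgroup.mem_subgroupOf]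
    suffices hn' : (y : G) ∈ Subgroup.normalizer (Q : Set G) from
      heq.symm ▸ (⟨y.2, hn'⟩ : (y : G) ∈ R)
    intro z
    simp only [SetLike.mem_coe]
    constructor
    · intro hz
      exact (hyn ⟨z, hQU hz⟩).1 hz
    · intro hz
      have hzU : z ∈ U := by
        have h3 := U.mul_mem (U.mul_mem (U.inv_mem y.2) (hQU hz)) y.2
        simpa [mul_assoc] using h3
      exact (hyn ⟨z, hzU⟩).2 hz
  have hRp : IsPGroup p R := hU.to_le inf_le_left
  have habove : ∀ S, Q < S → S ≤ R → ∃ g, IsBlockIdem (cz S) g ∧ NormalSub p (Q, b) (S, g) ∧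
      brMap k S (i : MonoidAlgebra k G) * g = brMap k S i := by
    intro S hQS hSR
    obtain ⟨g, hg, hgle⟩ := exists_pairLE hk (hSR.trans inf_le_left) hU hf
    obtain ⟨b', hb'⟩ := exists_normalSub hk hQS.le (hSR.trans inf_le_right) (hRp.to_le hSR) hg
    have hbb : b' = b := pairLE_unique hk (b := (U, f)) hf hU
      (Relation.ReflTransGen.head hb' hgle) hQb
    subst hbb
    have h1 : Nat.card Q < Nat.card S := lt_of_le_of_ne (Subgroup.card_le_of_le hQS.le)
      fun hh => hQS.ne (Subgroup.eq_of_le_of_card_ge hQS.le hh.ge)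
    have h2 : Nat.card S ≤ Nat.card U := Subgroup.card_le_of_le (hSR.trans inf_le_left)
    exact ⟨g, hg, hb', ih _ (by omega) hgle rfl⟩
  obtain ⟨gR, hgR, hnR, -⟩ := habove R hlt le_rfl
  have hbQ : IsBlockIdem (cz Q) b := hnR.block_left
  have hQp : IsPGroup p Q := hU.to_le hQU
  have hxQ : x ∈ cz Q := cz_anti hQU hxU
  set B₀ := brMap k Q (i : MonoidAlgebra k G) with hB₀
  have hB₀s : B₀ ∈ suppAlg k (cz Q) := brMap_mem_suppAlg Q _
  have hB₀R : B₀ ∈ fixAlg k R :=
    brMap_mem_fixAlg inf_le_right (fixAlg_anti inf_le_left i.2.1)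
  have hB₀x : B₀ ∈ fixAlg k (Subgroup.zpowers x) := brMap_mem_fixAlg
    (Subgroup.zpowers_le.2 (cz_le_normalizer Q hxQ)) i.2.2
  have hii : (i : MonoidAlgebra k G) * i = i := congrArg Subtype.val hi.idem.eq
  have hB₀B₀ : B₀ * B₀ = B₀ := by
    rw [hB₀, ← brMap_mul hQp (fixAlg_anti hQU i.2.1) (fixAlg_anti hQU i.2.1), hii]
  have hcomm : Commute B₀ b := commute_of_supp_fix hB₀s hbQ.fixed
  set r := B₀ * (1 - b) with hr
  have hrs : r ∈ suppAlg k (cz Q) := mul_mem hB₀s (sub_mem (one_mem _) hbQ.supp)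
  have hrA : r ∈ algAt k x R :=
    mul_mem ⟨hB₀R, hB₀x⟩ (sub_mem (one_mem _)
      ⟨hnR.fixed, fun g hg => hbQ.fixed g ((Subgroup.zpowers_le.2 hxQ) hg)⟩)
  have hcomm' : Commute B₀ (1 - b) := (Commute.one_right _).sub_right hcomm
  have hrr : r * r = r := by
    rw [hr, show B₀ * (1 - b) * (B₀ * (1 - b)) = B₀ * B₀ * ((1 - b) * (1 - b)) by
      simp only [mul_assoc]; rw [← mul_assoc (1 - b) B₀, ← hcomm'.eq, mul_assoc],
      hB₀B₀, (show IsIdempotentElem b from hbQ.idem).one_sub.eq]
  have hkill : ∀ S, Q < S → S ≤ R → brMap k S r = 0 := by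
    intro S hQS hSR
    obtain ⟨g, hg, hN, hig⟩ := habove S hQS hSR
    rw [hr, brMap_mul (hRp.to_le hSR) (fixAlg_anti hSR hB₀R) (sub_mem (one_mem _) hN.fixed),
      hB₀, brMap_brMap_of_le hQS.le, map_sub, brMap_one, ← hig, mul_assoc, mul_sub, mul_one,
      ← (commute_of_supp_fix (brMap_mem_suppAlg S b) hg.fixed).eq, hN.cover, sub_self, mul_zero]
  obtain ⟨c, hcs, hc, hcr⟩ := exists_relTr_of_kills hx hlt.le hRp inf_le_right
    (cz_anti inf_le_left hxU) hrs hrA hrr hkill
  set z := relTr k Q U c with hz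
  have hzA : z ∈ algAt k x U := ⟨relTr_mem_fixAlg hc.1, relTr_fix_zpowers hxU hc.2⟩
  have hbrQ : brMap k Q z = r := by
    rw [hz, brMap_relTr_self hQp hQU hc.1, brMap_eq_self hcs]
    exact hcr
  set z' := (i : MonoidAlgebra k G) * z * i with hz'
  have hz'A : z' ∈ algAt k x U := mul_mem (mul_mem i.2 hzA) i.2
  have hbrz' : brMap k Q z' = r := by
    rw [hz', brMap_mul hQp (fixAlg_anti hQU (mul_mem i.2.1 hzA.1)) (fixAlg_anti hQU i.2.1),
      brMap_mul hQp (fixAlg_anti hQU i.2.1) (fixAlg_anti hQU hzA.1), hbrQ, ← hB₀, hr,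
      ← mul_assoc, hB₀B₀, mul_assoc, ← hcomm'.eq, ← mul_assoc, hB₀B₀]
  have hUz : brMap k U z = 0 := brMap_relTr_eq_zero hU le_rfl hc.1 fun t _ hle => hQ
    (Subgroup.eq_of_le_of_card_ge hQU (by
      calc Nat.card U ≤ Nat.card (Q.map (MulAut.conj t).toMonoidHom) := Subgroup.card_le_of_le hle
        _ = Nat.card Q := Subgroup.card_map_of_injective (MulAut.conj t).injective))
  rcases prim_cases hi hz'A (by rw [hz', ← mul_assoc, ← mul_assoc, hii])
      (by rw [hz', mul_assoc, hii]) with ⟨m, hm⟩ | ⟨w, hw, hzw, -⟩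
  · have hr0 : r = 0 := eq_zero_of_nilpotent_idem
      ⟨m, by rw [← hbrz', ← brMap_pow hQp (fixAlg_anti hQU hz'A.1), hm, map_zero]⟩ hrr
    rw [hr, mul_sub, mul_one, sub_eq_zero] at hr0
    exact hr0.symm
  · exfalso
    apply hne
    have h1 := congrArg (brMap k U) hzw
    rw [brMap_mul hU hz'A.1 hw.1, hz', brMap_mul hU (mul_mem i.2.1 hzA.1) i.2.1,
      brMap_mul hU i.2.1 hzA.1, hUz, mul_zero, zero_mul, zero_mul] at h1
    exact h1.symm

/-- A primitive idempotent killed at `U` is a trace from a maximal subgroup. -/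
theorem exists_trace_of_br_zero (hx : ¬ p ∣ orderOf x) (hU : IsPGroup p U) (hxU : x ∈ cz U)
    {i : algAt k x U} (hi : IsPrim i) (hbr : brMap k U (i : MonoidAlgebra k G) = 0) :
    ∃ W : Subgroup G, W < U ∧ (W.subgroupOf U).Normal ∧ W.relIndex U = p ∧
      ∃ a ∈ algAt k x W, relTr k W U a = i := by
  classical
  have hii : (i : MonoidAlgebra k G) * i = i := congrArg Subtype.val hi.idem.eq
  let J : AddSubmonoid (MonoidAlgebra k G) :=
    AddSubmonoid.closure {y | ∃ S : Subgroup G, S < U ∧ ∃ b ∈ algAt k x S, relTr k S U b = y}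
  have hmem : (i : MonoidAlgebra k G) ∈ J := by
    refine mem_of_brMap_eq_zero_fix (Q := ⊥) hx bot_le (fun g _ q => by simp) hxU J
      (fun S _ hS b _ hb => AddSubmonoid.subset_closure ⟨S, hS, b, hb, rfl⟩) ?_ i.2 hbr
    rw [cz_bot]
    exact mem_suppAlg_top _
  obtain ⟨l, hl, hsum⟩ := AddSubmonoid.exists_list_of_mem_closure hmem
  let f : Fin l.length → algAt k x U := fun n =>
    i * ⟨l.get n, by
      obtain ⟨S, hS, b, hb, hy⟩ := hl _ (List.get_mem l n)
      rw [← hy]
      exact ⟨relTr_mem_fixAlg hb.1, relTr_fix_zpowers hxU hb.2⟩⟩ * i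
  have hfsum : ∑ n, f n = i := by
    apply Subtype.ext
    simp only [f, AddSubmonoidClass.coe_finsetSum, MulMemClass.coe_mul]
    rw [← Finset.sum_mul, ← Finset.mul_sum]
    have : ∑ n : Fin l.length, l.get n = (i : MonoidAlgebra k G) := by
      rw [← List.sum_ofFn, List.ofFn_get, hsum]
    rw [this, hii, hii]
  obtain ⟨n, -, w, hw1, hw2, hfw, -⟩ := hi.exists_unit_of_sum k Finset.univ f
    (fun n _ => by simp only [f, ← mul_assoc, hi.idem.eq])
    (fun n _ => by simp only [f, mul_assoc, hi.idem.eq]) hfsum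
  obtain ⟨S, hS, b, hb, hy⟩ := hl _ (List.get_mem l n)
  have := hU.isNilpotent
  have hne : S.subgroupOf U ≠ ⊤ := fun h => hS.not_ge ((Subgroup.subgroupOf_eq_top).1 h)
  obtain ⟨K, hK, hSK⟩ := (eq_top_or_exists_le_coatom (S.subgroupOf U)).resolve_left hne
  have hKn : K.Normal :=
    Subgroup.NormalizerCondition.normal_of_coatom K Group.normalizerCondition_of_isNilpotent hK
  set W := K.map U.subtype with hW
  have hWU : W ≤ U := Subgroup.map_subtype_le K
  have hSW : S ≤ W := fun s hs => ⟨⟨s, hS.le hs⟩, hSK (Subgroup.mem_subgroupOf.2 hs), rfl⟩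
  have hWK : W.subgroupOf U = K := Subgroup.comap_map_eq_self_of_injective U.subtype_injective K
  have hWlt : W < U := lt_of_le_of_ne hWU fun h => hK.1 (by
    rw [← hWK, h, Subgroup.subgroupOf_self])
  have hidx : W.relIndex U = p := by
    rw [Subgroup.relIndex, hWK]
    obtain ⟨m, hm⟩ := hU.index (H := K)
    have hm0 : m ≠ 0 := fun h => hK.1 (Subgroup.index_eq_one.1 (by rw [hm, h, pow_zero]))
    have : Nontrivial (U ⧸ K) := by
      rw [← Finite.one_lt_card_iff_nontrivial, ← Subgroup.index_eq_card, hm]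
      exact Nat.one_lt_pow hm0 hp.out.one_lt
    obtain ⟨y, hy⟩ := exists_prime_orderOf_dvd_card' (G := U ⧸ K) p
      (by rw [← Subgroup.index_eq_card, hm]; exact dvd_pow_self p hm0)
    have htop : (Subgroup.zpowers y).comap (QuotientGroup.mk' K) = ⊤ := by
      refine hK.2 _ (lt_of_le_of_ne (fun z hz => ?_) fun heq => ?_)
      · rw [Subgroup.mem_comap, QuotientGroup.mk'_apply, (QuotientGroup.eq_one_iff z).2 hz]
        exact one_mem _
      · obtain ⟨z, rfl⟩ := QuotientGroup.mk'_surjective K y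
        have hzK : z ∈ K := heq ▸ (Subgroup.mem_comap.2 (Subgroup.mem_zpowers _))
        rw [QuotientGroup.mk'_apply, (QuotientGroup.eq_one_iff z).2 hzK, orderOf_one] at hy
        exact hp.out.one_lt.ne hy
    rw [Subgroup.index_eq_card]
    have h2 : Subgroup.zpowers y = ⊤ := by
      refine Subgroup.comap_injective (QuotientGroup.mk'_surjective K) ?_
      rw [htop, Subgroup.comap_top]
    rw [← hy, ← Nat.card_zpowers, h2, Subgroup.card_top]
  refine ⟨W, hWlt, by rw [hWK]; exact hKn, hidx,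
    relTr k S W ((i : MonoidAlgebra k G) * b * ((i : MonoidAlgebra k G) * (w : MonoidAlgebra k G))),
    ?_, ?_⟩
  · have hS' := hSW.trans hWU
    have hmemS : (i : MonoidAlgebra k G) * b * ((i : MonoidAlgebra k G) * (w : MonoidAlgebra k G)) ∈
        algAt k x S :=
      mul_mem (mul_mem (algAt_anti x hS' i.2) hb) (mul_mem (algAt_anti x hS' i.2) (algAt_anti x hS' w.2))
    exact ⟨relTr_mem_fixAlg hmemS.1, relTr_fix_zpowers (cz_anti hWU hxU) hmemS.2⟩
  · have hS' := hSW.trans hWU
    rw [relTr_relTr hSW hWU (mul_mem (mul_mem (fixAlg_anti hS' i.2.1) hb.1)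
      (mul_mem (fixAlg_anti hS' i.2.1) (fixAlg_anti hS' w.2.1))),
      ← relTr_mul_right (mul_mem i.2.1 w.2.1), ← relTr_mul_left i.2.1, hy]
    have := congrArg Subtype.val hfw
    simp only [f, MulMemClass.coe_mul] at this
    simpa only [mul_assoc] using this

end Prim

end CfsgLib.BPStar
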