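import Cfsg.Agent.Lib.BPStar.Lift
import Cfsg.Agent.Lib.BPStar.Local
import Cfsg.Agent.Lib.BrauerPairs.Bridge
import Cfsg.Agent.Lib.Blocks.BlockParts

/-!
# The twisted sum over a `p`-subgroup is divisible by its order

For a weight on pairs `(u, b)` that restricts to a linear character along every pair of the block,
the weighted values of a character on `u x ê_b` form a generalised character on every `p`-subgroup
centralised by the `p`-regular element `x`, with coefficients local integers.
-/

set_option autoImplicit false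
set_option linter.unusedSectionVars false

namespace CfsgLib.BPStar

open Cfsg MonoidAlgebra CfsgLib.Blocks CfsgLib.BrauerPairs
open scoped Classical

variable {p : ℕ} {M : Ideal AlgInt} [M.IsMaximal] {G : Type*} [Group G] [Fintype G]

theorem cz_zpowers (u : G) : cz (Subgroup.zpowers u) = Subgroup.centralizer ({u} : Set G) := by
  rw [cz, Subgroup.zpowers_eq_closure, Subgroup.centralizer_closure]

theorem commute_single_of_conjA {k : Type*} [Field k] {h : G} {a : MonoidAlgebra k G}
    (ha : conjA h a = a) : Commute (single h (1 : k)) a := by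
  rw [commute_single_iff]
  intro x
  conv_lhs => rw [← ha, coeff_conjA]
  simp [mul_assoc]

/-- The block idempotents of the centraliser of `u`. -/
noncomputable def blocksAt (hM : IsPModular p M) (u : G) : Finset (MonoidAlgebra (ResK M) G) :=
  (hasBlocks (G := G) hM (cz (Subgroup.zpowers u))).choose

theorem isBlockIdem_of_mem_blocksAt (hM : IsPModular p M) {u : G}
    {b : MonoidAlgebra (ResK M) G} (hb : b ∈ blocksAt hM u) :
    IsBlockIdem (cz (Subgroup.zpowers u)) b :=
  (hasBlocks (G := G) hM (cz (Subgroup.zpowers u))).choose_spec.1 b hb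

theorem sum_blocksAt (hM : IsPModular p M) (u : G) : ∑ b ∈ blocksAt hM u, b = 1 :=
  (hasBlocks (G := G) hM (cz (Subgroup.zpowers u))).choose_spec.2

theorem mem_blocksAt_iff (hM : IsPModular p M) {u : G} {b : MonoidAlgebra (ResK M) G} :
    b ∈ blocksAt hM u ↔ IsBlockIdem (cz (Subgroup.zpowers u)) b := by
  refine ⟨isBlockIdem_of_mem_blocksAt hM, fun hb => ?_⟩
  by_contra hcon
  refine hb.ne_zero ?_
  rw [← mul_one b, ← sum_blocksAt hM u, Finset.mul_sum]
  exact Finset.sum_eq_zero fun e he =>
    hb.mul_eq_zero (isBlockIdem_of_mem_blocksAt hM he) fun h => hcon (h ▸ he)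

/-- The twisted value of the element `e` at `u x`. -/
noncomputable def twistVal (hM : IsPModular p M) (Λ : G → MonoidAlgebra (ResK M) G → ℂ)
    (χ : G → ℂ) (x : G) (e : MonoidAlgebra (ResK M) G) (u : G) : ℂ :=
  ∑ b ∈ blocksAt hM u, Λ u b * liftVal hM χ (u * x) (brMap (ResK M) (Subgroup.zpowers u) e * b)

/-- A weight on pairs that is a linear character along each pair over `E`. -/
structure IsTwist (p : ℕ) {M : Ideal AlgInt} [M.IsMaximal] (E : MonoidAlgebra (ResK M) G)
    (Λ : G → MonoidAlgebra (ResK M) G → ℂ) : Prop where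
  conj : ∀ (g u : G) (b : MonoidAlgebra (ResK M) G), Λ (g * u * g⁻¹) (conjA g b) = Λ u b
  hom : ∀ (U : Subgroup G), IsPGroup p U → ∀ f : MonoidAlgebra (ResK M) G,
    IsBlockIdem (cz U) f → brMap (ResK M) U E * f = f →
    ∃ μ : U →* ℂˣ, ∀ (u : U) (b : MonoidAlgebra (ResK M) G),
      PairLE p (Subgroup.zpowers (u : G), b) (U, f) → Λ u b = μ u

/-- The local integer multiples of `c`. -/
def multOf (hM : IsPModular p M) (c : ℕ) : AddSubgroup ℂ where
  carrier := {z | ∃ w, MemLocalRing M w ∧ z = (c : ℂ) * w}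
  zero_mem' := ⟨0, (lRing hM).zero_mem, by simp⟩
  add_mem' := by
    rintro _ _ ⟨v, hv, rfl⟩ ⟨w, hw, rfl⟩
    exact ⟨v + w, (lRing hM).add_mem hv hw, by ring⟩
  neg_mem' := by
    rintro _ ⟨v, hv, rfl⟩
    exact ⟨-v, (lRing hM).neg_mem hv, by ring⟩

section

variable [hp : Fact p.Prime] (hM : IsPModular p M)

theorem isPPart_of_mem {U : Subgroup G} (hU : IsPGroup p U) {x : G} (hx : ¬ p ∣ orderOf x)
    (hxU : x ∈ cz U) {u : G} (hu : u ∈ U) : IsPPart p (u * x) u := by
  obtain ⟨j, hj⟩ := IsPGroup.iff_orderOf.1 hU ⟨u, hu⟩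
  exact ⟨x, rfl, (mem_cz.1 hxU u hu), ⟨j, by rw [← hj, ← Subgroup.orderOf_coe]⟩, hx⟩

/-- The pieces `Br_u(e) b` are idempotents commuting with `u x`. -/
theorem piece_spec [CharP (ResK M) p] {U : Subgroup G} (hU : IsPGroup p U) {x : G}
    (hxU : x ∈ cz U) {u : G} (hu : u ∈ U) {e : MonoidAlgebra (ResK M) G}
    (he : e ∈ algAt (ResK M) x U) {b : MonoidAlgebra (ResK M) G} (hb : b ∈ blocksAt hM u) :
    Commute (single (u * x) 1) (brMap (ResK M) (Subgroup.zpowers u) e * b) ∧
      (IsIdempotentElem e → IsIdempotentElem (brMap (ResK M) (Subgroup.zpowers u) e * b)) ∧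
      Commute b (brMap (ResK M) (Subgroup.zpowers u) e) := by
  have hbb := isBlockIdem_of_mem_blocksAt hM hb
  have huU : Subgroup.zpowers u ≤ U := Subgroup.zpowers_le.2 hu
  have hxu : x ∈ cz (Subgroup.zpowers u) := cz_anti huU hxU
  have hc : Commute (brMap (ResK M) (Subgroup.zpowers u) e) b :=
    commute_of_supp_fix (brMap_mem_suppAlg _ e) hbb.fixed
  refine ⟨commute_single_of_conjA ?_, fun h => ?_, hc.symm⟩
  · rw [conjA_mul_left, conjA_mul x, conjA_brMap, map_conj_eq_self (cz_le_normalizer _ hxu),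
      he.2 x (Subgroup.mem_zpowers x), hbb.fixed x hxu]
    exact fixed_of_supp_cz (mul_mem (brMap_mem_suppAlg _ e) hbb.supp) u (Subgroup.mem_zpowers u)
  · refine IsIdempotentElem.mul_of_commute hc ?_ hbb.idem
    rw [IsIdempotentElem, ← brMap_mul (hU.to_le huU) (fixAlg_anti huU he.1) (fixAlg_anti huU he.1),
      h.eq]

variable {χ : G → ℂ} (Λ : G → MonoidAlgebra (ResK M) G → ℂ)

theorem twistVal_of_br_zero (hχ : IsCharacter G χ) {U : Subgroup G} (hU : IsPGroup p U) {x : G}
    (hx : ¬ p ∣ orderOf x) (hxU : x ∈ cz U) {u : G} (hu : u ∈ U) {e : MonoidAlgebra (ResK M) G}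
    (he : brMap (ResK M) (Subgroup.zpowers u) e = 0) : twistVal hM Λ χ x e u = 0 := by
  refine Finset.sum_eq_zero fun b _ => ?_
  rw [he, zero_mul, liftVal_zero hM hχ (isPPart_of_mem hU hx hxU hu), mul_zero]

theorem twistVal_add [CharP (ResK M) p] (hχ : IsCharacter G χ) {U : Subgroup G}
    (hU : IsPGroup p U) {x : G} (hx : ¬ p ∣ orderOf x) (hxU : x ∈ cz U) {u : G} (hu : u ∈ U)
    {e f : MonoidAlgebra (ResK M) G} (heA : e ∈ algAt (ResK M) x U)
    (hfA : f ∈ algAt (ResK M) x U) (he : IsIdempotentElem e) (hf : IsIdempotentElem f)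
    (hef : e * f = 0) (hfe : f * e = 0) :
    twistVal hM Λ χ x (e + f) u = twistVal hM Λ χ x e u + twistVal hM Λ χ x f u := by
  simp only [twistVal, ← Finset.sum_add_distrib, map_add, add_mul]
  refine Finset.sum_congr rfl fun b hb => ?_
  obtain ⟨hce, hie, hbe⟩ := piece_spec hM hU hxU hu heA hb
  obtain ⟨hcf, hif, hbf⟩ := piece_spec hM hU hxU hu hfA hb
  have huU : Subgroup.zpowers u ≤ U := Subgroup.zpowers_le.2 hu
  have hmul : ∀ {e f : MonoidAlgebra (ResK M) G}, e ∈ algAt (ResK M) x U →
      f ∈ algAt (ResK M) x U → Commute b (brMap (ResK M) (Subgroup.zpowers u) f) → e * f = 0 →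
      brMap (ResK M) (Subgroup.zpowers u) e * b * (brMap (ResK M) (Subgroup.zpowers u) f * b) =
        0 := fun {e f} he hf hc h => by
    rw [mul_assoc (brMap (ResK M) (Subgroup.zpowers u) e), ← mul_assoc b, hc.eq, ← mul_assoc,
      ← mul_assoc, ← brMap_mul (hU.to_le huU) (fixAlg_anti huU he.1) (fixAlg_anti huU hf.1), h,
      map_zero, zero_mul, zero_mul]
  rw [liftVal_add hM hχ (isPPart_of_mem hU hx hxU hu) (hie he) (hif hf) hce hcf
    (hmul heA hfA hbf hef) (hmul hfA heA hbe hfe), mul_add]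

theorem twistVal_eqv [CharP (ResK M) p] (hχ : IsCharacter G χ) {U : Subgroup G}
    (hU : IsPGroup p U) {x : G} (hx : ¬ p ∣ orderOf x) (hxU : x ∈ cz U) {u : G} (hu : u ∈ U)
    {e f a c : MonoidAlgebra (ResK M) G} (heA : e ∈ algAt (ResK M) x U)
    (hfA : f ∈ algAt (ResK M) x U) (haA : a ∈ algAt (ResK M) x U)
    (hcA : c ∈ algAt (ResK M) x U) (he : IsIdempotentElem e) (hf : IsIdempotentElem f)
    (hac : a * c = e) (hca : c * a = f) : twistVal hM Λ χ x e u = twistVal hM Λ χ x f u := by
  refine Finset.sum_congr rfl fun b hb => ?_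
  obtain ⟨-, hie, -⟩ := piece_spec hM hU hxU hu heA hb
  obtain ⟨-, hif, -⟩ := piece_spec hM hU hxU hu hfA hb
  obtain ⟨hcmA, -, hbA⟩ := piece_spec hM hU hxU hu haA hb
  obtain ⟨hcmC, -, hbC⟩ := piece_spec hM hU hxU hu hcA hb
  have huU : Subgroup.zpowers u ≤ U := Subgroup.zpowers_le.2 hu
  have hbb := (isBlockIdem_of_mem_blocksAt hM hb).idem
  have hmul : ∀ {a c e : MonoidAlgebra (ResK M) G}, a ∈ algAt (ResK M) x U →
      c ∈ algAt (ResK M) x U → Commute b (brMap (ResK M) (Subgroup.zpowers u) c) → a * c = e →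
      brMap (ResK M) (Subgroup.zpowers u) a * b * (brMap (ResK M) (Subgroup.zpowers u) c * b) =
        brMap (ResK M) (Subgroup.zpowers u) e * b := fun {a c e} ha hc hbc h => by
    rw [mul_assoc (brMap (ResK M) (Subgroup.zpowers u) a), ← mul_assoc b, hbc.eq,
      mul_assoc (brMap (ResK M) (Subgroup.zpowers u) c), hbb, ← mul_assoc,
      ← brMap_mul (hU.to_le huU) (fixAlg_anti huU ha.1) (fixAlg_anti huU hc.1), h]
  rw [liftVal_equiv hM hχ (isPPart_of_mem hU hx hxU hu) (hie he) (hif hf) hcmA hcmC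
    (hmul haA hcA hbC hac) (hmul hcA haA hbA hca)]

theorem twistVal_conj [CharP (ResK M) p] {E : MonoidAlgebra (ResK M) G} (hΛ : IsTwist p E Λ)
    (hχ : IsCharacter G χ) {U : Subgroup G} (hU : IsPGroup p U) {x : G} (hx : ¬ p ∣ orderOf x)
    (hxU : x ∈ cz U) {u : G} (hu : u ∈ U) {e : MonoidAlgebra (ResK M) G}
    (heA : e ∈ algAt (ResK M) x U) (he : IsIdempotentElem e) {t : G}
    (htx : t * x * t⁻¹ = x) :
    twistVal hM Λ χ x (conjA t e) (t * u * t⁻¹) = twistVal hM Λ χ x e u := by
  have hz : (Subgroup.zpowers u).map (MulAut.conj t).toMonoidHom =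
      Subgroup.zpowers (t * u * t⁻¹) := by
    rw [MonoidHom.map_zpowers]; rfl
  have hcz : ∀ b : MonoidAlgebra (ResK M) G, IsBlockIdem (cz (Subgroup.zpowers u)) b →
      IsBlockIdem (cz (Subgroup.zpowers (t * u * t⁻¹))) (conjA t b) := fun b hb => by
    have := hb.conjA t
    rwa [← cz_map_conj, hz] at this
  have hcz' : ∀ b : MonoidAlgebra (ResK M) G,
      IsBlockIdem (cz (Subgroup.zpowers (t * u * t⁻¹))) b →
      IsBlockIdem (cz (Subgroup.zpowers u)) (conjA t⁻¹ b) := fun b hb => by
    have := hb.conjA t⁻¹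
    rwa [← cz_map_conj, ← hz, Subgroup.map_map, show ((MulAut.conj t⁻¹).toMonoidHom.comp
      (MulAut.conj t).toMonoidHom) = MonoidHom.id G from MonoidHom.ext fun y => by simp [mul_assoc],
      Subgroup.map_id] at this
  symm
  refine Finset.sum_nbij' (fun b => conjA t b) (fun b => conjA t⁻¹ b)
    (fun b hb => (mem_blocksAt_iff hM).2 (hcz b ((mem_blocksAt_iff hM).1 hb)))
    (fun b hb => (mem_blocksAt_iff hM).2 (hcz' b ((mem_blocksAt_iff hM).1 hb)))
    (fun b _ => by rw [← conjA_mul_left, inv_mul_cancel, conjA_one_left])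
    (fun b _ => by rw [← conjA_mul_left, mul_inv_cancel, conjA_one_left]) fun b hb => ?_
  obtain ⟨hc, hi, -⟩ := piece_spec hM hU hxU hu heA hb
  rw [hΛ.conj, show t * u * t⁻¹ * x = t * (u * x) * t⁻¹ by
      conv_lhs => rw [← htx]
      group,
    ← hz, ← conjA_brMap, ← conjA_mul,
    liftVal_conj hM hχ (isPPart_of_mem hU hx hxU hu) (hi he) hc t]

/-- The local case: the value is the coefficient of a linear character. -/
theorem sum_local_mem (hχ : IsCharacter G χ) {U : Subgroup G} {x : G} (hx : ¬ p ∣ orderOf x)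
    (hxU : x ∈ cz U) (ν : U →* ℂˣ) {E₀ : MonoidAlgebra (lRing hM) G} (hE₀ : IsIdempotentElem E₀)
    (hEc : ∀ u : U, Commute (single (u : G) 1) E₀) (hEx : Commute (single x 1) E₀) :
    ∑ u : U, (ν u : ℂ) * trR hM χ (single ((u : G) * x) 1 * E₀) ∈ multOf hM (Nat.card U) := by
  classical
  set c : ℂ := (Nat.card U : ℂ) with hc
  have hc0 : c ≠ 0 := Nat.cast_ne_zero.2 Nat.card_pos.ne'
  set S : MonoidAlgebra ℂ G := ∑ u : U, single (u : G) (ν u : ℂ) with hS
  set X : MonoidAlgebra ℂ G := single x 1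
  set Y : MonoidAlgebra ℂ G := inc hM E₀ with hY
  have hYi : IsIdempotentElem Y := hE₀.map _
  have hYu : ∀ u : U, ∀ r : ℂ, Commute (single (u : G) r) Y := fun u r => by
    have h1 := (hEc u).map (inc hM)
    rw [inc_single] at h1
    have e : single (u : G) r = r • single (u : G) (1 : ℂ) := by simp
    rw [e]
    simpa using h1.smul_left r
  have hYX : Commute X Y := by
    have h1 := hEx.map (inc hM)
    rw [inc_single] at h1
    simpa using h1
  have hSX : Commute S X := by
    rw [hS]
    refine Commute.sum_left _ _ _ fun u _ => ?_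
    rw [Commute, SemiconjBy, single_mul_single, single_mul_single, mul_one, one_mul,
      mem_cz.1 hxU u u.2]
  have hSS : S * S = c • S := by
    rw [hS, Finset.sum_mul_sum]
    have h1 : ∀ u : U, ∑ v : U, single (u : G) (ν u : ℂ) * single (v : G) (ν v : ℂ) =
        ∑ w : U, single (w : G) (ν w : ℂ) := fun u => by
      refine Fintype.sum_equiv (Equiv.mulLeft u) _ _ fun v => ?_
      simp [single_mul_single]
    rw [Finset.sum_congr rfl fun u _ => h1 u, Finset.sum_const, Finset.card_univ,
      ← Nat.card_eq_fintype_card, hc, Nat.cast_smul_eq_nsmul]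
  set P := c⁻¹ • S with hP
  have hPi : IsIdempotentElem P := by
    rw [IsIdempotentElem, hP, smul_mul_smul_comm, hSS, smul_smul, mul_assoc, inv_mul_cancel₀ hc0,
      mul_one]
  have hPX : Commute P X := hSX.smul_left _
  have hPY : Commute P Y := (Commute.sum_left _ _ _ fun u _ => hYu u _).smul_left _
  have hXord : X ^ (orderOf x + 1) = X := by
    rw [show X = MonoidAlgebra.of ℂ G x from rfl, ← map_pow, pow_succ, pow_orderOf_eq_one, one_mul]
  have hpow : (P * X * Y) ^ (orderOf x + 1) = P * X * Y := by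
    rw [(hPY.mul_left hYX).mul_pow, hPX.mul_pow, hPi.pow_succ_eq, hXord, hYi.pow_succ_eq]
  refine ⟨trC χ (P * X * Y), memLocalRing_of_isIntegral hM
    (isIntegral_trC_of_pow hχ (isOfFinOrder_of_finite x).orderOf_pos hpow), ?_⟩
  rw [hP, smul_mul_assoc, smul_mul_assoc, map_smul, smul_eq_mul, ← hc, ← mul_assoc,
    mul_inv_cancel₀ hc0, one_mul, hS, Finset.sum_mul, Finset.sum_mul, map_sum]
  refine Finset.sum_congr rfl fun u _ => ?_
  have e : single (u : G) (ν u : ℂ) * X * Y = (ν u : ℂ) • inc hM (single ((u : G) * x) 1 * E₀) := by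
    rw [map_mul, inc_single, single_mul_single, ← smul_mul_assoc]
    simp [hY]
  rw [e, map_smul, smul_eq_mul]
  rfl

/-- The main divisibility. -/
theorem sum_twistVal_mem [CharP (ResK M) p] (hχ : IsCharacter G χ)
    {E : MonoidAlgebra (ResK M) G} (hEfix : E ∈ fixAlg (ResK M) (⊤ : Subgroup G))
    (hEi : E * E = E) (hΛ : IsTwist p E Λ) {x : G} (hx : ¬ p ∣ orderOf x) (U : Subgroup G) (hU : IsPGroup p U)
    (hxU : x ∈ cz U) (α : U →* ℂˣ) {e : MonoidAlgebra (ResK M) G}
    (heA : e ∈ algAt (ResK M) x U) (he : IsIdempotentElem e) (heE : e * E = e) :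
    ∑ u : U, (α u : ℂ) * twistVal hM Λ χ x e u ∈ multOf hM (Nat.card U) := by
  classical
  have := isAlgClosed_res hM
  induction hn : Nat.card U using Nat.strong_induction_on generalizing U e with
  | _ n ih =>
  subst hn
  obtain ⟨J, hJ, horth, hsum⟩ := exists_prim_decomp (ResK M)
    (A := algAt (ResK M) x U) (i := ⟨e, heA⟩) (Subtype.ext he.eq)
  -- the decomposition
  have hdec : ∀ u ∈ U, twistVal hM Λ χ x e u =
      ∑ j ∈ J, twistVal hM Λ χ x (j : MonoidAlgebra (ResK M) G) u := by
    intro u hu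
    have key : ∀ t ⊆ J, twistVal hM Λ χ x ((∑ j ∈ t, j : algAt (ResK M) x U) :
        MonoidAlgebra (ResK M) G) u = ∑ j ∈ t, twistVal hM Λ χ x (j : MonoidAlgebra (ResK M) G) u ∧
        IsIdempotentElem (∑ j ∈ t, j : algAt (ResK M) x U) := by
      intro t
      induction t using Finset.induction with
      | empty =>
        intro _
        refine ⟨?_, by simp [IsIdempotentElem]⟩
        simp only [Finset.sum_empty, ZeroMemClass.coe_zero]
        exact twistVal_of_br_zero hM Λ hχ hU hx hxU hu (map_zero _)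
      | insert a t hat iht =>
        intro hts
        obtain ⟨h1, h2⟩ := iht fun y hy => hts (Finset.mem_insert_of_mem hy)
        have haJ := hts (Finset.mem_insert_self a t)
        have o1 : a * ∑ j ∈ t, j = 0 := by
          rw [Finset.mul_sum]
          exact Finset.sum_eq_zero fun y hy => horth a haJ y (hts (Finset.mem_insert_of_mem hy))
            fun h => hat (h ▸ hy)
        have o2 : (∑ j ∈ t, j) * a = 0 := by
          rw [Finset.sum_mul]
          exact Finset.sum_eq_zero fun y hy => horth y (hts (Finset.mem_insert_of_mem hy)) a haJ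
            fun h => hat (h ▸ hy)
        have ha := (hJ a haJ).1.idem
        rw [Finset.sum_insert hat, Finset.sum_insert hat]
        refine ⟨?_, by rw [IsIdempotentElem, add_mul, mul_add, mul_add, o1, o2, ha.eq, h2.eq,
          add_zero, zero_add]⟩
        rw [AddMemClass.coe_add, twistVal_add hM Λ hχ hU hx hxU hu a.2 (∑ j ∈ t, j : algAt (ResK M) x U).2
          (congrArg Subtype.val ha.eq) (congrArg Subtype.val h2.eq) (congrArg Subtype.val o1)
          (congrArg Subtype.val o2), h1]
    have h := (key J subset_rfl).1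
    rwa [hsum] at h
  rw [Finset.sum_congr rfl fun u _ => by rw [hdec u u.2, Finset.mul_sum], Finset.sum_comm]
  refine AddSubgroup.sum_mem _ fun i hi => ?_
  obtain ⟨hiP, -, hie⟩ := hJ i hi
  have hiE : (i : MonoidAlgebra (ResK M) G) * E = i := by
    have h1 : (i : MonoidAlgebra (ResK M) G) * e = i := congrArg Subtype.val hie
    rw [← h1, mul_assoc, heE]
  by_cases hne : brMap (ResK M) U (i : MonoidAlgebra (ResK M) G) = 0
  · -- a trace from a maximal subgroup
    obtain ⟨W, hWU, hWn, hWp, a, haA, hai⟩ := exists_trace_of_br_zero hx hU hxU hiP hne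
    obtain ⟨t, htU, htW⟩ := SetLike.exists_of_lt hWU
    have hWnorm : U ≤ Subgroup.normalizer (W : Set G) :=
      (Subgroup.normal_subgroupOf_iff_le_normalizer hWU.le).1 hWn
    have htn : t ∈ Subgroup.normalizer (W : Set G) := hWnorm htU
    have htx : t * x * t⁻¹ = x := by rw [mem_cz.1 hxU t htU, mul_inv_cancel_right]
    have hpow : t ^ p ∈ W := by
      have := hWn
      have h1 := Subgroup.pow_index_mem (W.subgroupOf U) ⟨t, htU⟩
      rw [show (W.subgroupOf U).index = p from hWp] at h1
      exact h1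
    have hmap : ∀ g : G, g ∈ U → ∀ y ∈ algAt (ResK M) x W,
        conjA g y ∈ algAt (ResK M) x W := by
      intro g hg y hy
      refine ⟨?_, mem_fix_zpowers ?_⟩
      · have h1 := conjA_mem_fixAlg hy.1 g
        rwa [map_conj_eq_self (hWnorm hg)] at h1
      · rw [← conjA_mul_left, ← mem_cz.1 hxU g hg, conjA_mul_left, hy.2 x (Subgroup.mem_zpowers x)]
    let σ : algAt (ResK M) x W ≃ₐ[ResK M] algAt (ResK M) x W :=
      AlgEquiv.ofAlgHom
        (((conjHom t).comp (algAt (ResK M) x W).val).codRestrict _ fun y => hmap t htU y y.2)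
        (((conjHom t⁻¹).comp (algAt (ResK M) x W).val).codRestrict _ fun y =>
          hmap t⁻¹ (U.inv_mem htU) y y.2)
        (AlgHom.ext fun y => Subtype.ext (show conjA t (conjA t⁻¹ (y : MonoidAlgebra (ResK M) G)) = y by
          rw [← conjA_mul_left, mul_inv_cancel, conjA_one_left]))
        (AlgHom.ext fun y => Subtype.ext (show conjA t⁻¹ (conjA t (y : MonoidAlgebra (ResK M) G)) = y by
          rw [← conjA_mul_left, inv_mul_cancel, conjA_one_left]))
    have hσ : ∀ y : algAt (ResK M) x W, ((σ y : algAt (ResK M) x W) : MonoidAlgebra (ResK M) G) =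
        conjA t y := fun y => rfl
    have hiter : ∀ m (y : algAt (ResK M) x W),
        ((((σ : _ → _)^[m]) y : algAt (ResK M) x W) : MonoidAlgebra (ResK M) G) = conjA (t ^ m) y := by
      intro m
      induction m with
      | zero => intro y; simp
      | succ m ihm =>
        intro y
        rw [Function.iterate_succ', Function.comp_apply, hσ, ihm, ← conjA_mul_left, ← pow_succ']
    have hiW : (i : MonoidAlgebra (ResK M) G) ∈ algAt (ResK M) x W := algAt_anti x hWU.le i.2
    set iW : algAt (ResK M) x W := ⟨i, hiW⟩ with hiW'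
    have hii : IsIdempotentElem iW := Subtype.ext (congrArg Subtype.val hiP.idem.eq :)
    -- the trace as a sum over powers of `t`
    have htr : ∑ m ∈ Finset.range p, ((σ : _ → _)^[m]) (⟨a, haA⟩ : algAt (ResK M) x W) = iW := by
      apply Subtype.ext
      rw [AddSubmonoidClass.coe_finsetSum]
      simp only [hiter]
      show _ = (i : MonoidAlgebra (ResK M) G)
      rw [← hai, relTr_eq_sum]
      have := hWn
      let f : Fin p → U ⧸ W.subgroupOf U := fun m =>
        QuotientGroup.mk ((⟨t, htU⟩ : U) ^ (m : ℕ))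
      have hord : orderOf (QuotientGroup.mk (⟨t, htU⟩ : U) : U ⧸ W.subgroupOf U) = p := by
        refine orderOf_eq_prime ?_ fun h => htW (Subgroup.mem_subgroupOf.1 ((QuotientGroup.eq_one_iff (⟨t, htU⟩ : U)).1 h))
        rw [← QuotientGroup.mk_pow, QuotientGroup.eq_one_iff]
        exact hpow
      have hf : Function.Bijective f := by
        refine (Fintype.bijective_iff_injective_and_card f).2 ⟨fun m l h => Fin.ext ?_, ?_⟩
        · simp only [f, QuotientGroup.mk_pow] at h
          have h' := pow_inj_mod.1 h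
          rwa [hord, Nat.mod_eq_of_lt m.2, Nat.mod_eq_of_lt l.2] at h'
        · rw [Fintype.card_fin, ← Nat.card_eq_fintype_card, ← Subgroup.index_eq_card]
          exact hWp.symm
      rw [← Fin.sum_univ_eq_sum_range (fun m => conjA (t ^ m) a)]
      refine Fintype.sum_equiv (Equiv.ofBijective f hf) _ _ fun m => ?_
      rw [Equiv.ofBijective_apply, conjA_out_eq haA.1]
      simp
    -- vanishing off `W`
    have hzero : ∀ u : U, (u : G) ∉ W →
        twistVal hM Λ χ x (i : MonoidAlgebra (ResK M) G) u = 0 := fun u hu => by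
      refine twistVal_of_br_zero hM Λ hχ hU hx hxU u.2 ?_
      rw [← hai]
      refine brMap_relTr_eq_zero (hU.to_le (Subgroup.zpowers_le.2 u.2)) (Subgroup.zpowers_le.2 u.2)
        haA.1 fun g hg hle => hu ?_
      rw [map_conj_eq_self (hWnorm hg)] at hle
      exact hle (Subgroup.mem_zpowers _)
    set αW : W →* ℂˣ := α.comp (Subgroup.inclusion hWU.le)
    let S : algAt (ResK M) x W → ℂ := fun y =>
      ∑ u : W, (αW u : ℂ) * twistVal hM Λ χ x (y : MonoidAlgebra (ResK M) G) u
    have hSi : ∑ u : U, (α u : ℂ) * twistVal hM Λ χ x (i : MonoidAlgebra (ResK M) G) u = S iW := by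
      symm
      refine Fintype.sum_of_injective (Subgroup.inclusion hWU.le)
        (Subgroup.inclusion_injective hWU.le) _ _ (fun u hu => ?_) fun u => rfl
      rw [hzero u fun h => hu ⟨⟨u, h⟩, rfl⟩, mul_zero]
    rw [hSi]
    have hWp' : IsPGroup p W := hU.to_le hWU.le
    have hxW : x ∈ cz W := cz_anti hWU.le hxU
    have hlt : Nat.card W < Nat.card U := lt_of_le_of_ne (Subgroup.card_le_of_le hWU.le)
      fun h => hWU.ne (Subgroup.eq_of_le_of_card_ge hWU.le h.ge)
    obtain ⟨w, hw, hwS⟩ := exists_nsmul_of_trace (k := ResK M) (p := p) σ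
      (fun y => Subtype.ext (by rw [hiter]; exact y.2.1 _ hpow)) hii
      (Subtype.ext (by rw [hσ]; exact i.2.1 t htU)) htr (multOf hM (Nat.card W)) S
      (by
        refine Finset.sum_eq_zero fun u _ => ?_
        rw [twistVal_of_br_zero hM Λ hχ hWp' hx hxW u.2 (by simp), mul_zero])
      (fun e₁ e₂ h1 h2 _ _ _ _ h12 h21 => by
        rw [← Finset.sum_add_distrib]
        refine Finset.sum_congr rfl fun u _ => ?_
        rw [AddMemClass.coe_add, twistVal_add hM Λ hχ hWp' hx hxW u.2 e₁.2 e₂.2
          (congrArg Subtype.val h1.eq) (congrArg Subtype.val h2.eq) (congrArg Subtype.val h12)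
          (congrArg Subtype.val h21), mul_add])
      (fun e₁ e₂ h1 h2 _ _ _ _ h => by
        obtain ⟨a', c', hac, hca⟩ := h
        refine Finset.sum_congr rfl fun u _ => ?_
        rw [twistVal_eqv hM Λ hχ hWp' hx hxW u.2 e₁.2 e₂.2 a'.2 c'.2 (congrArg Subtype.val h1.eq)
          (congrArg Subtype.val h2.eq) (congrArg Subtype.val hac) (congrArg Subtype.val hca)])
      (fun e₁ h1 _ _ => by
        let c : W ≃ W :=
          { toFun := fun u => ⟨t * u * t⁻¹, (Subgroup.mem_normalizer_iff.1 htn u).1 u.2⟩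
            invFun := fun u => ⟨t⁻¹ * u * t, by
              simpa using (Subgroup.mem_normalizer_iff.1 (inv_mem htn) u).1 u.2⟩
            left_inv := fun u => Subtype.ext (by simp [mul_assoc])
            right_inv := fun u => Subtype.ext (by simp [mul_assoc]) }
        refine (Fintype.sum_equiv c _ _ fun u => ?_).symm
        have hα : αW (c u) = αW u := by
          show α _ = α _
          rw [show (Subgroup.inclusion hWU.le (c u)) =
            (⟨t, htU⟩ : U) * Subgroup.inclusion hWU.le u * (⟨t, htU⟩ : U)⁻¹ from Subtype.ext rfl,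
            map_mul, map_mul, map_inv, mul_comm (α ⟨t, htU⟩), mul_inv_cancel_right]
        rw [hα, hσ]
        exact congrArg _ (twistVal_conj hM Λ hΛ hχ hWp' hx hxW u.2 e₁.2
          (congrArg Subtype.val h1.eq) htx).symm)
      (fun j hjP hij hji => by
        refine ih _ hlt W hWp' hxW αW j.2 (congrArg Subtype.val hjP.idem.eq) ?_ rfl
        have h1 : (j : MonoidAlgebra (ResK M) G) * i = j := congrArg Subtype.val hji
        rw [← h1, mul_assoc, hiE])
    obtain ⟨v, hv, rfl⟩ := hw
    refine ⟨v, hv, ?_⟩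
    have hcard : Nat.card U = p * Nat.card W := by
      rw [← Subgroup.relIndex_bot_left, ← Subgroup.relIndex_bot_left,
        ← Subgroup.relIndex_mul_relIndex ⊥ W U bot_le hWU.le, hWp, mul_comm]
    rw [hwS, nsmul_eq_mul, hcard, Nat.cast_mul, mul_assoc]
  · -- a local idempotent
    obtain ⟨f, hf, hif⟩ := exists_block_local (hasBlocks hM) hU hxU hiP hne
    have hcov : brMap (ResK M) U E * f = f := by
      have h1 := congrArg (brMap (ResK M) U) hiE
      rw [brMap_mul hU i.2.1 (fixAlg_anti le_top hEfix)] at h1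
      refine (hf.mul_idem (brMap_mem_suppAlg U E)
        (brMap_mem_fixAlg (cz_le_normalizer U) (fixAlg_anti le_top hEfix)) ?_).resolve_left
        fun h0 => hne ?_
      · rw [← brMap_mul hU (fixAlg_anti le_top hEfix) (fixAlg_anti le_top hEfix), hEi]
      · rw [← hif, ← h1, mul_assoc, h0, mul_zero]
    obtain ⟨μ, hμ⟩ := hΛ.hom U hU f hf hcov
    obtain ⟨E₀, hE₀, hE₀r, hE₀c⟩ := exists_idem_lift hM
      (show IsIdempotentElem (i : MonoidAlgebra (ResK M) G) from congrArg Subtype.val hiP.idem.eq)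
    have hval : ∀ u : U, twistVal hM Λ χ x (i : MonoidAlgebra (ResK M) G) u =
        (μ u : ℂ) * trR hM χ (single ((u : G) * x) 1 * E₀) := by
      intro u
      have huU : Subgroup.zpowers (u : G) ≤ U := Subgroup.zpowers_le.2 u.2
      obtain ⟨b, hb, hle⟩ := exists_pairLE (hasBlocks hM) huU hU hf
      have hib := brMap_mul_of_pairLE (hasBlocks hM) hx hU hxU hiP hne hf hif hle
      have hbm : b ∈ blocksAt hM (u : G) := (mem_blocksAt_iff hM).2 hb
      rw [twistVal, Finset.sum_eq_single b]
      · rw [hμ u b hle, hib]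
        have hpp := isPPart_of_mem hU hx hxU u.2
        have hcomm : Commute (single ((u : G) * x) 1) (i : MonoidAlgebra (ResK M) G) := by
          refine commute_single_of_conjA ?_
          rw [conjA_mul_left, i.2.2 x (Subgroup.mem_zpowers x), i.2.1 u u.2]
        obtain ⟨hpc, hpi, -⟩ := piece_spec hM hU hxU u.2 i.2 hbm
        rw [hib] at hpc hpi
        rw [liftVal_eq hM hχ hpp (hpi (congrArg Subtype.val hiP.idem.eq)) hpc hE₀ (hE₀c _ hcomm)
          (fun y hy => by rw [hE₀r, coeff_brMap_of_mem _ (by rwa [cz_zpowers])])]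
      · intro b' hb' hne'
        rw [← hib, mul_assoc, hb.mul_eq_zero (isBlockIdem_of_mem_blocksAt hM hb') hne'.symm,
          mul_zero, liftVal_zero hM hχ (isPPart_of_mem hU hx hxU u.2), mul_zero]
      · exact fun h => absurd hbm h
    have key := sum_local_mem hM hχ hx hxU (α * μ) hE₀
      (fun u => hE₀c _ (commute_single_of_conjA (i.2.1 u u.2)))
      (hE₀c _ (commute_single_of_conjA (i.2.2 x (Subgroup.mem_zpowers x))))
    convert key using 1
    refine Finset.sum_congr rfl fun u _ => ?_
    rw [hval, MonoidHom.mul_apply, Units.val_mul, mul_assoc]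

end

end CfsgLib.BPStar
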