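import Cfsg.Agent.Lib.BPStar.Construct

/-!
# The twisted class function is a generalised character
-/

set_option autoImplicit false
set_option linter.unusedSectionVars false

namespace CfsgLib.BPStar

open Cfsg MonoidAlgebra CfsgLib.Blocks CfsgLib.BrauerPairs CfsgLib.Characters
open scoped Classical ComplexConjugate

universe u

variable {p : ℕ} [Fact p.Prime] {M : Ideal AlgInt} [M.IsMaximal]
variable {G : Type u} [Group G] [Fintype G]
variable {B : Set (IrrCharacter G)} {P : Subgroup G}
variable {e : Set (IrrCharacter (Subgroup.centralizer (P : Set G)))} {lam : P →* ℂˣ}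

/-- A nilpotent subgroup splits into its `p`-part and its `p'`-part. -/
theorem exists_nilpotent_split (p : ℕ) [Fact p.Prime] {H : Type u} [Group H] [Finite H]
    (hH : Group.IsNilpotent H) :
    ∃ U K : Subgroup H, IsPGroup p U ∧ ¬ p ∣ Nat.card K ∧ (∀ u ∈ U, ∀ k ∈ K, Commute u k) ∧
      Subgroup.IsComplement' U K := by
  obtain ⟨U⟩ : Nonempty (Sylow p H) := inferInstance
  have hUn : (U : Subgroup H).Normal :=
    Sylow.normal_of_normalizerCondition Group.normalizerCondition_of_isNilpotent U
  set K := pPrimeCore p H with hK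
  have hKn : K.Normal := inferInstance
  have hKp : ¬ p ∣ Nat.card K := CfsgLib.PCore.not_dvd_card_pPrimeCore
  obtain ⟨m, hm⟩ : ∃ m : ℕ, K.index = p ^ m := by
    refine ⟨K.index.primeFactorsList.length,
      Nat.eq_prime_pow_of_unique_prime_dvd Subgroup.index_ne_zero_of_finite fun {q} hq hdvd => ?_⟩
    by_contra hne
    have := Fact.mk hq
    obtain ⟨Q⟩ : Nonempty (Sylow q H) := inferInstance
    have hQn : (Q : Subgroup H).Normal :=
      Sylow.normal_of_normalizerCondition Group.normalizerCondition_of_isNilpotent Q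
    have hQle : (Q : Subgroup H) ≤ K := by
      refine CfsgLib.PCore.le_pPrimeCore_of_not_dvd hQn fun h2 => ?_
      obtain ⟨j, hj⟩ := IsPGroup.iff_card.mp Q.isPGroup'
      rw [hj] at h2
      exact hne ((Nat.prime_dvd_prime_iff_eq Fact.out hq).mp
        ((Fact.out : p.Prime).dvd_of_dvd_pow h2)).symm
    exact Q.not_dvd_index (hdvd.trans (Subgroup.index_dvd_of_le hQle))
  have hdisj : Disjoint (U : Subgroup H) K := disjoint_iff.2
    (CfsgLib.PCore.inf_eq_bot_of_isPGroup_coprime U.isPGroup'
      (CfsgLib.PCore.coprime_of_not_dvd_card hKp))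
  refine ⟨U, K, U.isPGroup', hKp, fun u hu k hk =>
    Subgroup.commute_of_normal_of_disjoint _ _ hUn hKn hdisj u k hu hk,
    Subgroup.isComplement'_of_card_mul_and_disjoint ?_ hdisj⟩
  -- orders
  have h1 := K.card_mul_index
  rw [hm] at h1
  have h2 : Nat.card (U : Subgroup H) = p ^ m := by
    rw [U.card_eq_multiplicity, ← h1, Nat.factorization_mul Nat.card_pos.ne'
      (pow_ne_zero _ (Fact.out : p.Prime).ne_zero), Finsupp.add_apply,
      Nat.factorization_eq_zero_of_not_dvd hKp, zero_add,
      (Fact.out : p.Prime).factorization_pow]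
    simp
  rw [h2, mul_comm, h1]

variable (hM : IsPModular p M)

/-- The weights are roots of unity or zero. -/
theorem wt_spec (h : StarCtx hM B P e lam) (u : G) (b : MonoidAlgebra (ResK M) G) :
    wt hM P e lam u b = 0 ∨ wt hM P e lam u b ^ Nat.card G = 1 := by
  by_cases hex : ∃ g : G, PairLE p (conjPair g (Subgroup.zpowers u, b)) (P, eA hM (cz P) e)
  · obtain ⟨g, hg⟩ := hex
    right
    rw [wt, wA_eq h.wd hg, ← Units.val_pow_eq_pow_val, ← map_pow,
      show (⟨g * u * g⁻¹, mem_of_pairLE hg⟩ : P) ^ Nat.card G = 1 from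
        Subtype.ext pow_card_eq_one', map_one, Units.val_one]
  · exact Or.inl (wA_eq_zero hex)

theorem isIntegral_wt (h : StarCtx hM B P e lam) (u : G) (b : MonoidAlgebra (ResK M) G) :
    IsIntegral ℤ (wt hM P e lam u b) := by
  rcases wt_spec hM h u b with h0 | h1
  · rw [h0]; exact isIntegral_zero
  · exact IsIntegral.of_pow Nat.card_pos (h1 ▸ isIntegral_one)

theorem wt_mem_rootField (h : StarCtx hM B P e lam) (u : G) (b : MonoidAlgebra (ResK M) G) :
    wt hM P e lam u b ∈ KGV.rootField (Nat.card G) := by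
  rcases wt_spec hM h u b with h0 | h1
  · rw [h0]; exact zero_mem _
  · exact KGV.mem_rootField_of_pow_eq_one h1

/-- The multiplicity of `ξ` in `χ` on the section of `u`. -/
noncomputable def secMult (u : G) (χ : G → ℂ) (ξ : IrrCharacter (cz (Subgroup.zpowers u))) : ℂ :=
  classInner (secFun u χ) (ξ : cz (Subgroup.zpowers u) → ℂ)

theorem secMult_spec (u : G) (χ : IrrCharacter G) (ξ : IrrCharacter (cz (Subgroup.zpowers u))) :
    IsIntegral ℤ (secMult u (χ : G → ℂ) ξ) ∧
      secMult u (χ : G → ℂ) ξ ∈ KGV.rootField (Nat.card G) := by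
  have hz : (⟨u, mem_cz_self u⟩ : cz (Subgroup.zpowers u)) ∈ Subgroup.center _ :=
    Subgroup.mem_center_iff.2 fun c => Subtype.ext (commute_of_mem_cz c.2).eq.symm
  obtain ⟨n, hn⟩ := SubsectionSq.exists_mult_res (C := cz (Subgroup.zpowers u)) χ ξ
  have key := SubsectionSq.classInner_shift (C := cz (Subgroup.zpowers u)) hz χ ξ
  rw [hn] at key
  have hpow : ((ξ : cz (Subgroup.zpowers u) → ℂ) ⟨u, mem_cz_self u⟩ /
      (ξ : cz (Subgroup.zpowers u) → ℂ) 1) ^ Nat.card G = 1 := by
    rw [← SubsectionSq.apply_central_pow ξ hz, show (⟨u, mem_cz_self u⟩ :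
      cz (Subgroup.zpowers u)) ^ Nat.card G = 1 from Subtype.ext pow_card_eq_one',
      div_self (irr_one_ne_zero ξ)]
  rw [secMult, show secFun u (χ : G → ℂ) = fun c : cz (Subgroup.zpowers u) =>
    (χ : G → ℂ) (((⟨u, mem_cz_self u⟩ : cz (Subgroup.zpowers u)) : G) * c) from rfl, key]
  exact ⟨(IsIntegral.of_pow Nat.card_pos (hpow ▸ isIntegral_one)).mul
    (isIntegral_algebraMap (R := ℤ) (x := (n : ℤ))),
    mul_mem (KGV.mem_rootField_of_pow_eq_one hpow) (natCast_mem _ _)⟩

/-- The values on a section through the multiplicities. -/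
theorem starFun_sec_expand (h : StarCtx hM B P e lam) {χ : IrrCharacter G} (hχ : χ ∈ B) {u : G}
    (hu : ∃ k : ℕ, orderOf u = p ^ k) {s : cz (Subgroup.zpowers u)} (hs : ¬ p ∣ orderOf s) :
    starFun hM B P e lam (χ : G → ℂ) (u * (s : G)) =
      ∑ b ∈ blockSets M (cz (Subgroup.zpowers u)), ∑ ξ ∈ Finset.univ.filter (· ∈ b),
        wt hM P e lam u (eA hM (cz (Subgroup.zpowers u)) b) * secMult u (χ : G → ℂ) ξ *
          (ξ : cz (Subgroup.zpowers u) → ℂ) s := by
  rw [starFun_sec h.isPBlockB hχ hu hs]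
  refine Finset.sum_congr rfl fun b _ => ?_
  rw [blockPart_eq_sum, Finset.mul_sum]
  exact Finset.sum_congr rfl fun ξ _ => (mul_assoc _ _ _).symm

theorem char_mem_rootField_sub {H : Subgroup G} {φ : H → ℂ} (hφ : IsCharacter H φ) (x : H) :
    φ x ∈ KGV.rootField (Nat.card G) := by
  obtain ⟨n, ρ, rfl⟩ := hφ
  exact KGV.trace_mem_rootField_of_pow
    (by rw [← map_pow, show x ^ Nat.card G = 1 from Subtype.ext pow_card_eq_one', map_one])

theorem starFun_mem_rootField (h : StarCtx hM B P e lam) {χ : IrrCharacter G} (hχ : χ ∈ B)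
    (g : G) : starFun hM B P e lam (χ : G → ℂ) g ∈ KGV.rootField (Nat.card G) := by
  obtain ⟨u, s, hu, hs, rfl⟩ := exists_sec_decomp hM.1 g
  rw [starFun_sec_expand hM h hχ hu hs]
  exact sum_mem fun b _ => sum_mem fun ξ _ => mul_mem (mul_mem (wt_mem_rootField hM h u _)
    (secMult_spec u χ ξ).2) (char_mem_rootField_sub (irr_isCharacter ξ) s)

section Elementary

variable {H : Subgroup G} [Fintype H] (l : H →* ℂˣ)

/-- Inner products with linear characters of nilpotent subgroups. -/
theorem classInner_res_nilpotent (h : StarCtx hM B P e lam) {χ : IrrCharacter G} (hχ : χ ∈ B)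
    (hH : Group.IsNilpotent H) :
    MemLocalRing M (classInner (fun x : H => starFun hM B P e lam (χ : G → ℂ) x)
        (fun x => (l x : ℂ))) ∧
      IsIntegral ℤ ((p : ℂ) ^ (Nat.card G).factorization p *
        classInner (fun x : H => starFun hM B P e lam (χ : G → ℂ) x) (fun x => (l x : ℂ))) := by
  have := charP_res hM
  obtain ⟨U, K, hUp, hKp, hcomm, hcompl⟩ := exists_nilpotent_split p hH
  set f : H → ℂ := fun x => starFun hM B P e lam (χ : G → ℂ) x with hf
  -- the sum over the two factors
  have hsum : classInner f (fun x => (l x : ℂ)) = (Nat.card U : ℂ)⁻¹ * (Nat.card K : ℂ)⁻¹ *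
      ∑ k : K, ∑ u : U, conj (l (k : H) : ℂ) * (conj (l (u : H) : ℂ) * f ((u : H) * k)) := by
    rw [classInner, ← hcompl.card_mul_card, Nat.cast_mul, mul_inv]
    congr 1
    rw [Finset.sum_comm, ← Fintype.sum_prod_type']
    refine (Fintype.sum_equiv (Equiv.ofBijective (fun x : U × K => (x.1 : H) * x.2) hcompl) _ _
      fun x => ?_).symm
    show _ = f ((x.1 : H) * x.2) * conj (l ((x.1 : H) * x.2) : ℂ)
    rw [map_mul, Units.val_mul, map_mul]
    ring
  have hord : ∀ k : K, ¬ p ∣ orderOf ((k : H) : G) := fun k hk => hKp (hk.trans (by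
    rw [Subgroup.orderOf_coe, Subgroup.orderOf_coe]; exact orderOf_dvd_natCard k))
  have hordu : ∀ u : U, ∃ j : ℕ, orderOf ((u : H) : G) = p ^ j := fun u => by
    rw [Subgroup.orderOf_coe, Subgroup.orderOf_coe]
    exact IsPGroup.iff_orderOf.1 hUp u
  have hcG : ∀ (u : U) (k : K), Commute ((u : H) : G) ((k : H) : G) := fun u k =>
    congrArg Subtype.val (hcomm u u.2 k k.2).eq
  refine ⟨?_, ?_⟩
  · -- locally at `M`
    have hU' : IsPGroup p (U.map H.subtype) := hUp.map _
    set U' := U.map H.subtype with hU'def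
    let ι : U' →* H := Subgroup.inclusion (Subgroup.map_subtype_le U)
    have hloc : ∀ k : K, ∃ w, MemLocalRing M w ∧
        ∑ u : U, conj (l (u : H) : ℂ) * f ((u : H) * k) = (Nat.card U : ℂ) * w := by
      intro k
      have hkU : ((k : H) : G) ∈ cz U' := mem_cz.2 fun v hv => by
        obtain ⟨w, hw, rfl⟩ := hv
        exact (hcG ⟨w, hw⟩ k).eq
      have hE := isBlockIdem_eG hM h.isPBlockB
      obtain ⟨w, hw, he⟩ := sum_twistVal_mem hM (wt hM P e lam) (irr_isCharacter χ) hE.fixed hE.idem
        h.isTwist (hord k) U' hU' hkU ((l.comp ι)⁻¹)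
        ⟨fixAlg_anti le_top hE.fixed, fixAlg_anti le_top hE.fixed⟩ hE.idem hE.idem
      refine ⟨w, hw, ?_⟩
      rw [show (Nat.card U : ℂ) = (Nat.card U' : ℂ) by
        rw [hU'def, Subgroup.card_map_of_injective H.subtype_injective], ← he]
      refine Fintype.sum_equiv (U.equivMapOfInjective H.subtype H.subtype_injective).toEquiv _ _
        fun u => ?_
      have hι : ι (U.equivMapOfInjective H.subtype H.subtype_injective u) = (u : H) :=
        Subtype.ext rfl
      congr 1
      · simp only [MulEquiv.toEquiv_eq_coe, EquivLike.coe_coe, MonoidHom.inv_apply, MonoidHom.comp_apply, hι]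
        rw [← Characters.irr_apply_inv ⟨_, isIrrCharacter_of_hom l⟩]
        simp
      · simp only [hf, Subgroup.coe_mul]
        exact starFun_eq _ (hcG u k) (hordu u) (hord k)
    choose w hw hwe using hloc
    have e1 : classInner f (fun x => (l x : ℂ)) =
        (Nat.card K : ℂ)⁻¹ * ∑ k : K, conj (l (k : H) : ℂ) * w k := by
      rw [hsum, Finset.mul_sum, Finset.mul_sum]
      refine Finset.sum_congr rfl fun k _ => ?_
      rw [← Finset.mul_sum, hwe]
      have : (Nat.card U : ℂ) ≠ 0 := Nat.cast_ne_zero.2 Nat.card_pos.ne'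
      field_simp
    rw [e1]
    refine (lRing hM).mul_mem (inv_natCast_mem_lRing hM hKp) (Subring.sum_mem _ fun k _ =>
      (lRing hM).mul_mem (isIntegral_mem_lRing hM ?_) (hw k))
    rw [← Characters.irr_apply_inv ⟨_, isIrrCharacter_of_hom l⟩]
    exact KGV.char_isIntegral (isCharacter_of_irr (isIrrCharacter_of_hom l)) _
  · -- away from `p`
    obtain ⟨j, hj⟩ := IsPGroup.iff_card.1 hUp
    have hjle : j ≤ (Nat.card G).factorization p :=
      (Nat.Prime.pow_dvd_iff_le_factorization Fact.out Nat.card_pos.ne').1 (hj ▸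
        ((Subgroup.card_subgroup_dvd_card U).trans (Subgroup.card_subgroup_dvd_card H)))
    have e2 : (p : ℂ) ^ (Nat.card G).factorization p * classInner f (fun x => (l x : ℂ)) =
        (p : ℂ) ^ ((Nat.card G).factorization p - j) * ∑ u : U, conj (l (u : H) : ℂ) *
          ((Nat.card K : ℂ)⁻¹ * ∑ k : K, f ((u : H) * k) * conj (l (k : H) : ℂ)) := by
      rw [hsum, hj, Nat.cast_pow]
      conv_lhs => rw [← Nat.sub_add_cancel hjle, pow_add, Finset.sum_comm]
      have : (p : ℂ) ≠ 0 := Nat.cast_ne_zero.2 hM.1.ne_zero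
      simp only [Finset.mul_sum]
      refine Finset.sum_congr rfl fun u _ => Finset.sum_congr rfl fun k _ => ?_
      field_simp
    rw [e2]
    refine ((isIntegral_algebraMap (R := ℤ) (x := (p : ℤ))).pow _).mul
      (IsIntegral.sum _ fun u _ => IsIntegral.mul ?_ ?_)
    · rw [← Characters.irr_apply_inv ⟨_, isIrrCharacter_of_hom l⟩]
      exact KGV.char_isIntegral (isCharacter_of_irr (isIrrCharacter_of_hom l)) _
    set C := cz (Subgroup.zpowers ((u : H) : G)) with hC
    have hK : ∀ k : K, ((k : H) : G) ∈ C := fun k => mem_cz.2 fun v hv => by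
      obtain ⟨i, rfl⟩ := Subgroup.mem_zpowers_iff.1 hv
      exact ((hcG u k).zpow_left i).eq
    let κ : K →* C := (H.subtype.comp K.subtype).codRestrict C hK
    have hl : IsCharacter K (fun k : K => (l (k : H) : ℂ)) :=
      CharGalois.isCharacter_comp (isCharacter_of_irr (isIrrCharacter_of_hom l)) K.subtype
    have e3 : (Nat.card K : ℂ)⁻¹ * ∑ k : K, f ((u : H) * k) * conj (l (k : H) : ℂ) =
        ∑ b ∈ blockSets M C, ∑ ξ ∈ Finset.univ.filter (· ∈ b),
          wt hM P e lam ((u : H) : G) (eA hM C b) * secMult ((u : H) : G) (χ : G → ℂ) ξ *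
            classInner (fun k : K => (ξ : C → ℂ) (κ k)) (fun k : K => (l (k : H) : ℂ)) := by
      have e4 : ∀ k : K, f ((u : H) * k) = ∑ b ∈ blockSets M C,
          ∑ ξ ∈ Finset.univ.filter (· ∈ b), wt hM P e lam ((u : H) : G) (eA hM C b) *
            secMult ((u : H) : G) (χ : G → ℂ) ξ * (ξ : C → ℂ) (κ k) := fun k =>
        starFun_sec_expand hM h hχ (hordu u) (s := κ k) (by
          rw [← Subgroup.orderOf_coe]; exact hord k)
      simp only [e4, classInner, Finset.mul_sum, Finset.sum_mul]
      rw [Finset.sum_comm]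
      refine Finset.sum_congr rfl fun b _ => ?_
      rw [Finset.sum_comm]
      exact Finset.sum_congr rfl fun ξ _ => Finset.sum_congr rfl fun k _ => by ring
    rw [e3]
    refine IsIntegral.sum _ fun b _ => IsIntegral.sum _ fun ξ _ =>
      ((isIntegral_wt hM h _ _).mul (secMult_spec _ χ ξ).1).mul ?_
    obtain ⟨n, hn⟩ := classInner_char_nat (CharGalois.isCharacter_comp (irr_isCharacter ξ) κ) hl
    rw [hn]
    exact isIntegral_algebraMap (R := ℤ) (x := (n : ℤ))

end Elementary

/-- The inner products with irreducible characters, at one ideal. -/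
theorem classInner_starFun_local (h : StarCtx hM B P e lam) {χ : IrrCharacter G} (hχ : χ ∈ B)
    {ψ : G → ℂ} (hψ : IsCharacter G ψ) :
    MemLocalRing M (classInner (starFun hM B P e lam (χ : G → ℂ)) ψ) ∧
      IsIntegral ℤ ((p : ℂ) ^ (Nat.card G).factorization p *
        classInner (starFun hM B P e lam (χ : G → ℂ)) ψ) := by
  set θ := starFun hM B P e lam (χ : G → ℂ) with hθ
  suffices H : ∀ f ∈ Brauer.brauerSpan G, MemLocalRing M (classInner θ f) ∧
      IsIntegral ℤ ((p : ℂ) ^ (Nat.card G).factorization p * classInner θ f) from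
    H ψ (Brauer.character_mem_brauerSpan hψ)
  intro f hf
  induction hf using AddSubgroup.closure_induction with
  | mem x hx =>
    obtain ⟨E, q, l, hq, hE, rfl⟩ := hx
    rw [Induction.classInner_indFun_right E _ (isClassFunction_starFun h)]
    exact classInner_res_nilpotent hM l h hχ
      (Involutions.isNilpotent_of_isElementary hq hE)
  | zero => simp only [classInner_zero_right, mul_zero]; exact ⟨(lRing hM).zero_mem, isIntegral_zero⟩
  | add a b _ _ ha hb =>
    rw [classInner_add_right, mul_add]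
    exact ⟨(lRing hM).add_mem ha.1 hb.1, ha.2.add hb.2⟩
  | neg a _ ha =>
    rw [classInner_neg_right, mul_neg]
    exact ⟨(lRing hM).neg_mem ha.1, ha.2.neg⟩

/-- The inner products with irreducible characters are algebraic integers. -/
theorem isIntegral_classInner_starFun (h : StarCtx hM B P e lam) {χ : IrrCharacter G}
    (hχ : χ ∈ B) (ψ : IrrCharacter G) :
    IsIntegral ℤ (classInner (starFun hM B P e lam (χ : G → ℂ)) (ψ : G → ℂ)) := by
  refine isIntegral_of_local hM.1 (classInner_starFun_local hM h hχ (irr_isCharacter ψ)).2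
    fun M' hM' => ?_
  have := hM'.2.1
  rw [starFun_transfer h (h.transfer hM') hχ]
  exact (classInner_starFun_local hM' (h.transfer hM') hχ (irr_isCharacter ψ)).1

theorem classInner_starFun_mem_rootField (h : StarCtx hM B P e lam) {χ : IrrCharacter G}
    (hχ : χ ∈ B) (ψ : IrrCharacter G) :
    classInner (starFun hM B P e lam (χ : G → ℂ)) (ψ : G → ℂ) ∈ KGV.rootField (Nat.card G) :=
  mul_mem (inv_mem (natCast_mem _ _)) (sum_mem fun g _ =>
    mul_mem (starFun_mem_rootField hM h hχ g)
      (KGV.conj_mem_rootField (KGV.char_mem_rootField (irr_isCharacter ψ) g)))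

end CfsgLib.BPStar
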