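import Cfsg.Agent.Lib.BPStar.GroupRing
import Cfsg.Agent.Lib.Blocks.TupleVanish
import Mathlib.Algebra.CharP.Lemmas
import Mathlib.NumberTheory.Basic

/-!
# Lifted idempotents and their values at group elements

An idempotent of `k[G]` fixed by `h` lifts to the group ring over the local integers; the value of a
character at `h` times a lift depends only on the Brauer image at the `p`-part of `h`.
-/

set_option autoImplicit false
set_option linter.unusedSectionVars false

namespace CfsgLib.BPStar

open Cfsg MonoidAlgebra Polynomial CfsgLib.Blocks CfsgLib.BrauerPairs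

/-- An invariant sum is divisible by `p ^ c` if on points of period `p ^ j`, `j ≤ c`, the summand
is divisible by `p ^ (c - j)`. -/
theorem dvd_sum_of_perm' {k X : Type*} [CommSemiring k] [Fintype X] {p n c : ℕ} (hp : p.Prime)
    (σ : Equiv.Perm X) (hσ : σ ^ p ^ n = 1) (F : X → k) (hF : ∀ x, F (σ x) = F x)
    (hdvd : ∀ x j, j ≤ c → (σ ^ p ^ j) x = x → (p : k) ^ (c - j) ∣ F x) :
    (p : k) ^ c ∣ ∑ x, F x := by
  classical
  let K := Subgroup.zpowers σ
  have hinv : ∀ (g : K) (x : X), F (g • x) = F x := by
    have : ∀ g ∈ K, ∀ x, F ((g : Equiv.Perm X) x) = F x := by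
      intro g hg
      obtain ⟨j, rfl⟩ := Subgroup.mem_zpowers_iff.1 hg
      induction j using Int.induction_on with
      | zero => simp
      | succ j ih =>
        intro x
        rw [zpow_add_one, Equiv.Perm.mul_apply, ih ⟨_, rfl⟩, hF]
      | pred j ih =>
        intro x
        rw [zpow_sub_one, Equiv.Perm.mul_apply, ih ⟨_, rfl⟩]
        have := hF (σ⁻¹ x)
        rw [show σ (σ⁻¹ x) = x from Equiv.apply_symm_apply σ x] at this
        exact this.symm
    exact fun g x => this g g.2 x
  rw [← (MulAction.selfEquivSigmaOrbits K X).symm.sum_comp, Fintype.sum_sigma]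
  refine Finset.dvd_sum fun ω _ => ?_
  set x₀ := ω.out
  have hval : ∀ y : MulAction.orbit K x₀, F (y : X) = F x₀ := by
    rintro ⟨y, g, rfl⟩
    exact hinv g x₀
  have hsum : ∀ y : MulAction.orbit K x₀,
      F ((MulAction.selfEquivSigmaOrbits K X).symm ⟨ω, y⟩) = F x₀ := fun y => hval y
  rw [Finset.sum_congr rfl (fun y _ => hsum y), Finset.sum_const, Finset.card_univ, nsmul_eq_mul,
    ← Nat.card_eq_fintype_card]
  change _ ∣ (Nat.card (MulAction.orbit K x₀) : k) * F x₀
  have hK : Nat.card K ∣ p ^ n := by
    rw [Nat.card_zpowers]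
    exact orderOf_dvd_of_pow_eq_one hσ
  have hidx : (MulAction.stabilizer K x₀).index = Nat.card (MulAction.orbit K x₀) := by
    rw [MulAction.index_stabilizer, Nat.card_coe_set_eq]
  obtain ⟨i, hi, hcard⟩ := (Nat.dvd_prime_pow hp).1
    ((hidx ▸ Subgroup.index_dvd_card (MulAction.stabilizer K x₀)).trans hK)
  rw [hcard, Nat.cast_pow]
  rcases le_or_gt c i with h | h
  · exact (pow_dvd_pow _ h).mul_right _
  · have hfix : (σ ^ p ^ i) x₀ = x₀ := by
      have hmem : (⟨σ, Subgroup.mem_zpowers σ⟩ : K) ^ p ^ i ∈ MulAction.stabilizer K x₀ := by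
        rw [← hcard, ← hidx]
        exact Subgroup.pow_index_mem (MulAction.stabilizer K x₀) _
      exact hmem
    conv_lhs => rw [← Nat.add_sub_cancel' h.le, pow_add]
    exact mul_dvd_mul_left _ (hdvd _ _ h.le hfix)

/-- Two periods give their greatest common divisor as a period. -/
theorem periodic_gcd {α : Type*} (f : ℕ → α) {a b : ℕ} (ha : Function.Periodic f a)
    (hb : Function.Periodic f b) : Function.Periodic f (Nat.gcd a b) := by
  induction a, b using Nat.gcd.induction with
  | H0 n => simpa using hb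
  | H1 m n _ ih =>
    rw [Nat.gcd_rec]
    refine ih (fun i => ?_) ha
    have h1 := ha.nat_mul (n / m) (i + n % m)
    simp only [Nat.cast_id] at h1
    rw [← h1, add_assoc, show n % m + n / m * m = n from Nat.mod_add_div' n m, hb]

theorem prod_range_periodic {α : Type*} [CommMonoid α] (f : ℕ → α) {P : ℕ}
    (hf : Function.Periodic f P) (r : ℕ) :
    ∏ i ∈ Finset.range (r * P), f i = (∏ i ∈ Finset.range P, f i) ^ r := by
  induction r with
  | zero => simp
  | succ r ih =>
    rw [Nat.succ_mul, Finset.prod_range_add, ih, pow_succ]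
    congr 1
    refine Finset.prod_congr rfl fun i _ => ?_
    rw [add_comm]
    exact hf.nat_mul r i

section Generic

variable {R : Type*} [Semiring R] {G : Type*} [Group G]

theorem commute_single_iff {h : G} {a : MonoidAlgebra R G} :
    Commute (single h (1 : R)) a ↔ ∀ x, a.coeff (h * x * h⁻¹) = a.coeff x := by
  have h1 : ∀ x, (single h (1 : R) * a).coeff (h * x) = a.coeff x := fun x => by
    rw [coeff_single_mul_eq_mul_coeff (x := a) x
      (fun m _ => ⟨fun e => mul_left_cancel e, fun e => by rw [e]⟩), one_mul]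
  have h2 : ∀ x, (a * single h (1 : R)).coeff (h * x) = a.coeff (h * x * h⁻¹) := fun x => by
    rw [coeff_mul_single_eq_coeff_mul (x := a) (h * x * h⁻¹)
      (fun m _ => ⟨fun e => by rw [← e]; simp [mul_assoc], fun e => by rw [e]; simp [mul_assoc]⟩),
      mul_one]
  constructor
  · intro hc x
    rw [← h2, ← hc.eq, h1]
  · intro hx
    ext y
    obtain ⟨x, rfl⟩ : ∃ x, y = h * x := ⟨h⁻¹ * y, by simp⟩
    rw [h1, h2, hx]

end Generic

section Poly

variable {R A : Type*} [CommRing R] [Ring A] [Algebra R A]

theorem commute_aeval {c a : A} (h : Commute c a) (g : R[X]) : Commute c (aeval a g) := by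
  induction g using Polynomial.induction_on' with
  | add f g hf hg => rw [map_add]; exact hf.add_right hg
  | monomial n r =>
    rw [aeval_monomial]
    exact (Algebra.commute_algebraMap_right r c).mul_right (h.pow_right n)

theorem mul_aeval_mul_comm (a b : A) (g : R[X]) :
    a * aeval (b * a) g = aeval (a * b) g * a := by
  induction g using Polynomial.induction_on' with
  | add f g hf hg => rw [map_add, map_add, mul_add, add_mul, hf, hg]
  | monomial n r =>
    rw [aeval_monomial, aeval_monomial, ← mul_assoc, ← Algebra.commutes r a, mul_assoc, mul_assoc]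
    congr 1
    exact (SemiconjBy.pow_right (show SemiconjBy a (b * a) (a * b) by
      rw [SemiconjBy, mul_assoc]) n).eq

theorem aeval_idem {e : A} (he : IsIdempotentElem e) (g : R[X]) :
    aeval e g = g.eval 0 • (1 - e) + g.eval 1 • e := by
  induction g using Polynomial.induction_on' with
  | add f g hf hg => rw [map_add, hf, hg, eval_add, eval_add, add_smul, add_smul]; abel
  | monomial n r =>
    rcases n with _ | n
    · simp [aeval_monomial, smul_sub, Algebra.algebraMap_eq_smul_one]
    · simp [aeval_monomial, he.pow_eq n.succ_ne_zero, ← Algebra.smul_def]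

end Poly

variable {p : ℕ} {M : Ideal AlgInt} [M.IsMaximal] {G : Type*} [Group G] [Fintype G]
variable (hM : IsPModular p M)

/-- The congruence for high `p`-power powers. -/
theorem trR_pow_congr {χ : G → ℂ} (hχc : IsCharacter G χ) {h u : G} (hu : IsPPart p h u)
    {γ δ : MonoidAlgebra (lRing hM) G} (hγ : Commute (single h 1) γ) (hδ : Commute (single h 1) δ)
    (hcong : ∀ x ∈ Subgroup.centralizer ({u} : Set G), resK hM (γ.coeff x - δ.coeff x) = 0) :
    ∃ s : ℕ, ∀ n : ℕ, ∃ w : ℂ, MemLocalRing M w ∧
      trR hM χ (γ ^ p ^ (n + s) * single h 1) - trR hM χ (δ ^ p ^ (n + s) * single h 1) =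
        (p : ℂ) ^ n * w := by
  classical
  have hcl : IsClassFunction G χ := CfsgLib.Characters.isClassFunction_of_isCharacter hχc
  let d : G → lRing hM := fun x =>
    if x ∈ Subgroup.centralizer ({u} : Set G) then γ.coeff x - δ.coeff x else 0
  obtain ⟨s, hs⟩ := exists_ideal_pow hM d (fun x => by
    simp only [d]
    split_ifs with hx
    · exact hcong x hx
    · exact map_zero _)
  refine ⟨s, fun n => ?_⟩
  set N := p ^ (n + s) with hN
  have : NeZero N := ⟨pow_ne_zero _ hM.1.ne_zero⟩
  let Xc : G → lRing hM := fun x => ⟨χ x, isIntegral_mem_lRing hM (KGV.char_isIntegral hχc x)⟩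
  let F : (G → lRing hM) → (Fin N → G) → lRing hM := fun c t =>
    (∏ i, c (t i)) * Xc (seqProd (twistSeq h t) N * h)
  have hsum : ∀ ε : MonoidAlgebra (lRing hM) G,
      trR hM χ (ε ^ N * single h 1) = ((∑ t, F (ε.coeff ·) t : lRing hM) : ℂ) := by
    intro ε
    conv_lhs => rw [eq_sum_single ε, sum_pow_single, Finset.sum_mul, trR, map_sum, map_sum]
    rw [AddSubmonoidClass.coe_finsetSum]
    refine Finset.sum_congr rfl fun t _ => ?_
    rw [single_mul_single, mul_one, inc_single, trC_single]
    simp only [F, Xc, MulMemClass.coe_mul]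
    rw [show seqProd (periodicSeq t) N = seqProd (twistSeq h t) N from seqProd_congr fun i hi => by
      rw [twistSeq, Nat.div_eq_of_lt hi, pow_zero, one_mul, inv_one, mul_one]]
  have hrot : ∀ c : G → lRing hM, (∀ x, c (h * x * h⁻¹) = c x) →
      ∀ t, F c (twistRot h t) = F c t := by
    intro c hc t
    have hprod : ∏ i, c (twistRot h t i) = ∏ i, c (t i) := by
      refine Fintype.prod_equiv (Equiv.addRight (1 : Fin N)) _ _ fun i => ?_
      simp only [twistRot, Equiv.coe_fn_mk, Equiv.coe_addRight, twistSeq]
      have hj : ∀ j : ℕ, ∀ x, c (h ^ j * x * (h ^ j)⁻¹) = c x := by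
        intro j
        induction j with
        | zero => simp
        | succ j ih =>
          intro x
          rw [pow_succ', show h * h ^ j * x * (h * h ^ j)⁻¹ = h * (h ^ j * x * (h ^ j)⁻¹) * h⁻¹ by
            group, hc, ih]
      rw [hj, periodicSeq]
      congr 2
      exact Fin.ext (by simp [Fin.val_add, Fin.val_ofNat])
    have hshift : seqProd (twistSeq h (twistRot h t)) N =
        seqProd (fun i => twistSeq h t (i + 1)) N :=
      congrArg (seqProd · N) (funext fun j => twistSeq_twistRot h t j)
    have hlast : twistSeq h t N = h * twistSeq h t 0 * h⁻¹ := by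
      rw [twistSeq, twistSeq, Nat.div_self (NeZero.pos N), Nat.zero_div, pow_one, pow_zero, one_mul,
        inv_one, mul_one]
      congr 2
      have := periodicSeq_add_self t 0
      rwa [zero_add] at this
    have hconj : seqProd (fun i => twistSeq h t (i + 1)) N * h =
        (twistSeq h t 0)⁻¹ * (seqProd (twistSeq h t) N * h) * twistSeq h t 0 := by
      have h1 := seqProd_succ' (twistSeq h t) N
      rw [seqProd, hlast] at h1
      rw [eq_inv_mul_of_mul_eq h1.symm]
      group
    simp only [F, hprod]
    congr 1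
    refine Subtype.ext ?_
    simp only [Xc]
    rw [hshift, hconj]
    exact CfsgLib.Characters.classFunction_eq_of_isConj hcl (isConj_iff.2 ⟨twistSeq h t 0, by group⟩)
  -- the exponents
  set ord := orderOf h
  set a := ord.factorization p
  set q := ord / p ^ a
  obtain ⟨e, he, hqe⟩ := exists_pPart_exponent hM.1 (isOfFinOrder_of_finite h)
  have hue : u = h ^ e := IsPPart.unique hM.1 hu he
  have hτ : ((twistRot (N := N) h) ^ q) ^ p ^ (n + s + a) = 1 := by
    ext t i
    rw [← pow_mul, show q * p ^ (n + s + a) = N * (p ^ a * q) by rw [hN, pow_add]; ring,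
      twistRot_pow_mul, Equiv.Perm.one_apply, show p ^ a * q = ord from
        Nat.ordProj_mul_ordCompl_eq_self ord p, pow_orderOf_eq_one]
    simp
  have hqp : Nat.Coprime q p :=
    ((hM.1.coprime_iff_not_dvd).2 (Nat.not_dvd_ordCompl hM.1
      (isOfFinOrder_of_finite h).orderOf_pos.ne')).symm
  have hdvd : (p : lRing hM) ^ n ∣ ∑ t, (F (γ.coeff ·) t - F (δ.coeff ·) t) := by
    refine dvd_sum_of_perm' hM.1 ((twistRot h) ^ q) hτ _ ?_ ?_
    · intro t
      have h1 : ∀ (c : G → lRing hM), (∀ x, c (h * x * h⁻¹) = c x) →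
          ∀ k, F c ((twistRot h ^ k) t) = F c t := fun c hc k => by
        induction k with
        | zero => simp
        | succ k ih => rw [pow_succ', Equiv.Perm.mul_apply, hrot c hc, ih]
      rw [h1 _ (commute_single_iff.1 hγ) q, h1 _ (commute_single_iff.1 hδ) q]
    · intro t j hj ht
      rw [← pow_mul] at ht
      -- the entries of a short orbit centralise `u`
      have hper : ∀ i, twistSeq h t (i + q * p ^ j) = twistSeq h t i := fun i => by
        rw [← twistSeq_twistRot_pow, ht]
      have hjN : q * p ^ j * p ^ (n + s - j) = N * q := by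
        rw [mul_assoc, ← pow_add, Nat.add_sub_cancel' (by omega), hN, mul_comm]
      have hN' : (twistRot (N := N) h ^ (N * q)) t = t := by
        rw [← hjN, pow_mul]
        exact Equiv.Perm.pow_apply_eq_self_of_apply_eq_self ht _
      have hmem : ∀ i, t i ∈ Subgroup.centralizer ({u} : Set G) := by
        intro i
        have h0 := congrFun hN' i
        rw [twistRot_pow_mul] at h0
        have hc : Commute (h ^ q) (t i) := mul_inv_eq_iff_eq_mul.1 h0
        obtain ⟨d', hd'⟩ := hqe
        rw [Subgroup.mem_centralizer_iff]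
        intro v hv
        rw [Set.mem_singleton_iff.1 hv, hue, hd', pow_mul]
        exact (hc.pow_left d').eq
      -- the products are powers
      have hpow : ∀ c : G → lRing hM, (∀ x, c (h * x * h⁻¹) = c x) →
          ∏ i, c (t i) = (∏ i ∈ Finset.range (p ^ j), c (twistSeq h t i)) ^ p ^ (n + s - j) := by
        intro c hc
        have e1 : ∏ i, c (t i) = ∏ i ∈ Finset.range N, c (twistSeq h t i) := by
          rw [← Fin.prod_univ_eq_prod_range]
          exact Finset.prod_congr rfl fun i _ => by rw [twistSeq_lt h t i.2]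
        have hgN : Function.Periodic (fun i => c (twistSeq h t i)) N := fun i => by
          simp only [twistSeq, Nat.add_div_right _ (NeZero.pos N), periodicSeq_add_self, pow_succ']
          rw [show h * h ^ (i / N) * periodicSeq t i * (h * h ^ (i / N))⁻¹ =
            h * (h ^ (i / N) * periodicSeq t i * (h ^ (i / N))⁻¹) * h⁻¹ by group, hc]
        have hgj : Function.Periodic (fun i => c (twistSeq h t i)) (p ^ j) := by
          have hg := periodic_gcd _ (a := q * p ^ j) (fun i => congrArg c (hper i)) hgN
          rwa [show Nat.gcd (q * p ^ j) N = p ^ j from by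
            rw [Nat.Coprime.gcd_mul_left_cancel (p ^ j) (hqp.pow_right _)]
            exact Nat.gcd_eq_left (pow_dvd_pow p (by omega))] at hg
        have hN2 : N = p ^ (n + s - j) * p ^ j := by
          rw [← pow_add, Nat.sub_add_cancel (by omega)]
        have hpr := prod_range_periodic _ hgj (p ^ (n + s - j))
        rw [← hN2] at hpr
        rw [e1, hpr]
      simp only [F, ← sub_mul]
      refine Dvd.dvd.mul_right ?_ _
      rw [hpow _ (commute_single_iff.1 hγ), hpow _ (commute_single_iff.1 hδ)]
      set A := ∏ i ∈ Finset.range (p ^ j), γ.coeff (twistSeq h t i)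
      set C := ∏ i ∈ Finset.range (p ^ j), δ.coeff (twistSeq h t i)
      have hI : A - C ∈ Ideal.span (Set.range d) := by
        rw [← Ideal.Quotient.eq_zero_iff_mem, map_sub, map_prod, map_prod, sub_eq_zero]
        refine Finset.prod_congr rfl fun i _ => ?_
        rw [← sub_eq_zero, ← map_sub, Ideal.Quotient.eq_zero_iff_mem]
        refine Ideal.subset_span ⟨twistSeq h t i, ?_⟩
        have : twistSeq h t i ∈ Subgroup.centralizer ({u} : Set G) := by
          simp only [twistSeq, periodicSeq]
          have hh : h ∈ Subgroup.centralizer ({u} : Set G) := by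
            rw [Subgroup.mem_centralizer_iff]
            intro v hv
            rw [Set.mem_singleton_iff.1 hv, hue]
            exact ((Commute.refl h).pow_left e).eq
          exact mul_mem (mul_mem (pow_mem hh _) (hmem _)) (inv_mem (pow_mem hh _))
        simp only [d, if_pos this]
      have hps : s ≤ p ^ s := (Nat.lt_pow_self hM.1.one_lt).le
      have h1 : (p : lRing hM) ∣ (A - C) ^ p ^ s :=
        Ideal.mem_span_singleton.1 (hs (Ideal.pow_le_pow_right hps (Ideal.pow_mem_pow hI _)))
      have h2 : (p : lRing hM) ∣ A ^ p ^ s - C ^ p ^ s := by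
        obtain ⟨r, hr⟩ := exists_add_pow_prime_pow_eq hM.1 (A - C) C s
        rw [sub_add_cancel] at hr
        rw [hr]
        obtain ⟨w, hw⟩ := h1
        exact ⟨w + (A - C) * C * r, by rw [hw]; ring⟩
      obtain ⟨m, hm⟩ : ∃ m, n + s - j = s + m := ⟨n - j, by omega⟩
      rw [hm, pow_add, pow_mul, pow_mul]
      exact (pow_dvd_pow _ (by omega)).trans (dvd_sub_pow_of_dvd_sub h2 m)
  obtain ⟨w, hw⟩ := hdvd
  refine ⟨w, w.2, ?_⟩
  rw [hsum γ, hsum δ, ← AddSubgroupClass.coe_sub, ← Finset.sum_sub_distrib, hw]
  simp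

/-- Idempotent elements congruent on the centraliser of the `p`-part have the same value. -/
theorem trR_idem_congr {χ : G → ℂ} (hχc : IsCharacter G χ) {h u : G} (hu : IsPPart p h u)
    {E E' : MonoidAlgebra (lRing hM) G} (hE : IsIdempotentElem E) (hE' : IsIdempotentElem E')
    (hc : Commute (single h 1) E) (hc' : Commute (single h 1) E')
    (hcong : ∀ x ∈ Subgroup.centralizer ({u} : Set G),
      (red hM E).coeff x = (red hM E').coeff x) :
    trR hM χ (single h 1 * E) = trR hM χ (single h 1 * E') := by
  obtain ⟨s, hs⟩ := trR_pow_congr hM hχc hu hc hc' (fun x hx => by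
    rw [map_sub, sub_eq_zero]; simpa using hcong x hx)
  have hpow : ∀ {E₀ : MonoidAlgebra (lRing hM) G}, IsIdempotentElem E₀ →
      Commute (single h 1) E₀ → ∀ n, trR hM χ (E₀ ^ p ^ n * single h 1) =
        trR hM χ (single h 1 * E₀) := fun {E₀} h0 hc0 n => by
    rw [h0.pow_eq (pow_ne_zero _ hM.1.ne_zero), hc0.eq]
  rw [← sub_eq_zero]
  refine eq_zero_of_forall_pow_dvd hM
    ((lRing hM).sub_mem (trR_mem hM hχc _) (trR_mem hM hχc _)) fun n => ?_
  obtain ⟨w, hw, h1⟩ := hs n
  rw [hpow hE hc, hpow hE' hc'] at h1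
  exact ⟨w, hw, h1⟩

theorem red_aeval (a : MonoidAlgebra (lRing hM) G) (g : (lRing hM)[X]) :
    red hM (aeval a g) = aeval (red hM a) (g.map (resK hM)) := by
  rw [aeval_def, aeval_def, eval₂_map, hom_eval₂]
  congr 1
  ext r : 1
  simp [red, coe_algebraMap]

/-- A polynomial without constant term turning two lifts of idempotents into idempotents. -/
theorem exists_lift_poly {a a' : MonoidAlgebra (lRing hM) G}
    (ha : IsIdempotentElem (red hM a)) (ha' : IsIdempotentElem (red hM a')) :
    ∃ g : (lRing hM)[X], IsIdempotentElem (aeval a (X * g)) ∧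
      IsIdempotentElem (aeval a' (X * g)) ∧ red hM (aeval a (X * g)) = red hM a ∧
        red hM (aeval a' (X * g)) = red hM a' := by
  classical
  obtain ⟨P, hPm, hP⟩ := Algebra.IsIntegral.isIntegral (R := lRing hM) a
  obtain ⟨P', hP'm, hP'⟩ := Algebra.IsIntegral.isIntegral (R := lRing hM) a'
  set Q : (lRing hM)[X] := P * P' * X * (X - C 1) with hQ
  have hQm : Q.Monic := ((hPm.mul hP'm).mul monic_X).mul (monic_X_sub_C 1)
  set T := (Q.map (lRing hM).subtype).roots with hT
  have hmem : ∀ r ∈ T, r ∈ lRing hM := fun r hr =>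
    mem_lRing_of_monic hM hQm (by
      rw [← eval_map]; exact (mem_roots'.1 hr).2)
  set S : Multiset (lRing hM) := T.pmap (fun r hr => ⟨r, hr⟩) hmem with hS
  have hQS : Q = (S.map fun r => Polynomial.X - C r).prod := by
    refine Polynomial.map_injective (lRing hM).subtype Subtype.val_injective ?_
    rw [Polynomial.map_multiset_prod, Multiset.map_map]
    conv_lhs => rw [(IsAlgClosed.splits _).eq_prod_roots_of_monic (hQm.map _)]
    congr 1
    simp only [hS, Multiset.map_pmap, Function.comp_apply, Polynomial.map_sub, Polynomial.map_X,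
      Polynomial.map_C, Subring.subtype_apply]
    rw [Multiset.pmap_eq_map]
  set A := ((S.filter fun r => resK hM r ≠ 1).map fun r => Polynomial.X - C r).prod with hA
  set B := ((S.filter fun r => ¬ resK hM r ≠ 1).map fun r => Polynomial.X - C r).prod with hB
  have hAB : Q = A * B := by
    rw [hQS, hA, hB, ← Multiset.prod_add, ← Multiset.map_add, Multiset.filter_add_not]
  have hroot : ∀ r : lRing hM, Q.eval r = 0 → r ∈ S := by
    intro r hr
    rw [hS, Multiset.mem_pmap]
    refine ⟨(r : ℂ), mem_roots'.2 ⟨(hQm.map _).ne_zero, ?_⟩, rfl⟩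
    rw [IsRoot.def, eval_map, show (r : ℂ) = (lRing hM).subtype r from rfl, eval₂_hom, hr, map_zero]
  have hXA : (Polynomial.X : (lRing hM)[X]) ∣ A := by
    have h0 : (0 : lRing hM) ∈ S.filter fun r => resK hM r ≠ 1 :=
      Multiset.mem_filter.2 ⟨hroot 0 (by simp [hQ]), by simp⟩
    have h1 : Polynomial.X - C (0 : lRing hM) ∣ A :=
      Multiset.dvd_prod (Multiset.mem_map_of_mem (fun r => Polynomial.X - C r) h0)
    rwa [C_0, sub_zero] at h1
  have hB1 : B.eval 1 = 0 := by
    have h0 : (1 : lRing hM) ∈ S.filter fun r => ¬ resK hM r ≠ 1 :=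
      Multiset.mem_filter.2 ⟨hroot 1 (by simp [hQ]), by simp⟩
    rw [← IsRoot.def, ← dvd_iff_isRoot]
    exact Multiset.dvd_prod (Multiset.mem_map_of_mem (fun r => Polynomial.X - C r) h0)
  have hcop : IsCoprime A B := by
    refine Multiset.prod_induction (IsCoprime · B) _ (fun x y hx hy => hx.mul_left hy)
      isCoprime_one_left fun x hx => ?_
    obtain ⟨r, hr, rfl⟩ := Multiset.mem_map.1 hx
    refine Multiset.prod_induction (IsCoprime (Polynomial.X - C r)) _
      (fun x y hx hy => hx.mul_right hy) isCoprime_one_right fun y hy => ?_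
    obtain ⟨t, ht, rfl⟩ := Multiset.mem_map.1 hy
    refine isCoprime_X_sub_C_of_isUnit_sub ?_
    have hne : resK hM (r - t) ≠ 0 := by
      rw [map_sub, sub_ne_zero, not_not.1 (Multiset.mem_filter.1 ht).2]
      exact (Multiset.mem_filter.1 hr).2
    have hni : ¬ MemLocalIdeal M ((r - t : lRing hM) : ℂ) :=
      fun h0 => hne ((resK_eq_zero_iff hM _).2 h0)
    refine IsUnit.of_mul_eq_one ⟨_, inv_mem_lRing hM (r - t).2 hni⟩ (Subtype.ext ?_)
    refine mul_inv_cancel₀ fun h0 => hni ?_
    rw [h0]
    exact memLocalIdeal_zero hM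
  obtain ⟨u, v, huv⟩ := hcop
  obtain ⟨A₁, hA₁⟩ := hXA
  refine ⟨u * A₁, ?_⟩
  have hg : Polynomial.X * (u * A₁) = u * A := by rw [hA₁]; ring
  rw [hg]
  have hkill : ∀ c : MonoidAlgebra (lRing hM) G, aeval c Q = 0 →
      IsIdempotentElem (aeval c (u * A)) := by
    intro c hc
    have e : (u * A) * (u * A) = u * A - Q * (u * v) := by
      rw [hAB]
      linear_combination (u * A) * huv
    rw [IsIdempotentElem, ← map_mul, e, map_sub, map_mul (aeval c) Q, hc, zero_mul, sub_zero]
  have hQa : aeval a Q = 0 := by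
    rw [hQ, map_mul, map_mul, map_mul, aeval_def (p := P), hP, zero_mul, zero_mul, zero_mul]
  have hQa' : aeval a' Q = 0 := by
    rw [hQ, map_mul, map_mul, map_mul, aeval_def (p := P'), hP', mul_zero, zero_mul, zero_mul]
  have hred : ∀ c : MonoidAlgebra (lRing hM) G, IsIdempotentElem (red hM c) →
      red hM (aeval c (u * A)) = red hM c := by
    intro c hc
    have h0 : (u * A).eval 0 = 0 := by rw [hA₁]; simp
    have h1 : (u * A).eval 1 = 1 := by
      have := congrArg (Polynomial.eval (1 : lRing hM)) huv
      simpa [hB1] using this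
    rw [red_aeval, aeval_idem hc, show (0 : ResK M) = resK hM 0 from (map_zero _).symm,
      show (1 : ResK M) = resK hM 1 from (map_one _).symm, eval_map, eval_map, eval₂_hom, eval₂_hom,
      h0, h1, map_zero, map_one, zero_smul, zero_add, one_smul]
  exact ⟨hkill a hQa, hkill a' hQa', hred a ha, hred a' ha'⟩

/-- Invariant lift with coefficients chosen by a section of the residue map. -/
theorem exists_lift_inv (e : MonoidAlgebra (ResK M) G) :
    ∃ a : MonoidAlgebra (lRing hM) G, red hM a = e ∧
      ∀ h : G, Commute (single h 1) e → Commute (single h 1) a := by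
  classical
  refine ⟨Blocks.ofFun fun g => Function.surjInv (resK_surjective hM) (e.coeff g), ?_, fun h he => ?_⟩
  · ext x
    simp [Function.surjInv_eq (resK_surjective hM)]
  · rw [commute_single_iff] at he ⊢
    intro x
    simp [he x]

/-- A lift of an idempotent commuting with everything in the group that commutes with it. -/
theorem exists_idem_lift {e : MonoidAlgebra (ResK M) G} (he : IsIdempotentElem e) :
    ∃ E : MonoidAlgebra (lRing hM) G, IsIdempotentElem E ∧ red hM E = e ∧
      ∀ h : G, Commute (single h 1) e → Commute (single h 1) E := by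
  obtain ⟨a, ha, hac⟩ := exists_lift_inv hM e
  obtain ⟨g, hg, -, hgr, -⟩ := exists_lift_poly hM (a := a) (a' := a) (ha ▸ he) (ha ▸ he)
  exact ⟨_, hg, hgr.trans ha, fun h hh => commute_aeval (hac h hh) _⟩

open scoped Classical in
/-- The value of a character at `h` times the idempotent lifting `e`. -/
noncomputable def liftVal (χ : G → ℂ) (h : G) (e : MonoidAlgebra (ResK M) G) : ℂ :=
  if H : ∃ E : MonoidAlgebra (lRing hM) G,
      IsIdempotentElem E ∧ Commute (single h 1) E ∧ red hM E = e
    then trR hM χ (single h 1 * H.choose) else 0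

variable {χ : G → ℂ}

theorem liftVal_eq (hχc : IsCharacter G χ) {h u : G} (hu : IsPPart p h u)
    {e : MonoidAlgebra (ResK M) G} (he : IsIdempotentElem e) (hec : Commute (single h 1) e)
    {E : MonoidAlgebra (lRing hM) G} (hE : IsIdempotentElem E) (hEc : Commute (single h 1) E)
    (hcong : ∀ x ∈ Subgroup.centralizer ({u} : Set G), (red hM E).coeff x = e.coeff x) :
    liftVal hM χ h e = trR hM χ (single h 1 * E) := by
  classical
  obtain ⟨E₀, hE₀, hE₀r, hE₀c⟩ := exists_idem_lift hM he
  have H : ∃ E : MonoidAlgebra (lRing hM) G,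
      IsIdempotentElem E ∧ Commute (single h 1) E ∧ red hM E = e := ⟨E₀, hE₀, hE₀c h hec, hE₀r⟩
  rw [liftVal, dif_pos H]
  obtain ⟨h1, h2, h3⟩ := H.choose_spec
  exact trR_idem_congr hM hχc hu h1 hE h2 hEc fun x hx => by rw [h3, hcong x hx]

theorem liftVal_congr (hχc : IsCharacter G χ) {h u : G} (hu : IsPPart p h u)
    {e e' : MonoidAlgebra (ResK M) G} (he : IsIdempotentElem e) (hec : Commute (single h 1) e)
    (he' : IsIdempotentElem e') (hec' : Commute (single h 1) e')
    (hcong : ∀ x ∈ Subgroup.centralizer ({u} : Set G), e.coeff x = e'.coeff x) :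
    liftVal hM χ h e = liftVal hM χ h e' := by
  obtain ⟨E, hE, hEr, hEc⟩ := exists_idem_lift hM he'
  rw [liftVal_eq hM hχc hu he hec hE (hEc h hec') (fun x hx => by rw [hEr, hcong x hx]),
    liftVal_eq hM hχc hu he' hec' hE (hEc h hec') (fun x _ => by rw [hEr])]

theorem liftVal_zero (hχc : IsCharacter G χ) {h u : G} (hu : IsPPart p h u) :
    liftVal hM χ h (0 : MonoidAlgebra (ResK M) G) = 0 := by
  rw [liftVal_eq hM hχc hu IsIdempotentElem.zero (Commute.zero_right _) (E := 0)
    IsIdempotentElem.zero (Commute.zero_right _) (fun x _ => by simp), mul_zero, trR_zero]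

/-- Equivalent idempotents have the same value. -/
theorem liftVal_equiv (hχc : IsCharacter G χ) {h u : G} (hu : IsPPart p h u)
    {e e' a b : MonoidAlgebra (ResK M) G} (he : IsIdempotentElem e) (he' : IsIdempotentElem e')
    (ha : Commute (single h 1) a) (hb : Commute (single h 1) b) (hab : a * b = e)
    (hba : b * a = e') : liftVal hM χ h e = liftVal hM χ h e' := by
  have hcl : IsClassFunction G χ := CfsgLib.Characters.isClassFunction_of_isCharacter hχc
  obtain ⟨α, hα, hαc⟩ := exists_lift_inv hM a
  obtain ⟨β, hβ, hβc⟩ := exists_lift_inv hM b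
  have hr : red hM (α * β) = e := by rw [map_mul, hα, hβ, hab]
  have hr' : red hM (β * α) = e' := by rw [map_mul, hα, hβ, hba]
  obtain ⟨g, hg, hg', hgr, hgr'⟩ := exists_lift_poly hM (a := α * β) (a' := β * α)
    (hr ▸ he) (hr' ▸ he')
  have hca := hαc h ha
  have hcb := hβc h hb
  rw [liftVal_eq hM hχc hu he (hab ▸ ha.mul_right hb) hg (commute_aeval (hca.mul_right hcb) _)
      (fun x _ => by rw [hgr, hr]),
    liftVal_eq hM hχc hu he' (hba ▸ hb.mul_right ha) hg' (commute_aeval (hcb.mul_right hca) _)
      (fun x _ => by rw [hgr', hr'])]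
  simp only [map_mul, aeval_X]
  rw [show (α * β) * aeval (α * β) g = (α * aeval (β * α) g) * β by
      rw [mul_aeval_mul_comm, mul_assoc (aeval (α * β) g)]
      exact (commute_aeval (Commute.refl (α * β)) g).eq,
    ← mul_assoc (single h 1), trR_mul_comm hM hcl, ← mul_assoc, ← hcb.eq]
  simp only [mul_assoc]

/-- Orthogonal idempotents add. -/
theorem liftVal_add (hχc : IsCharacter G χ) {h u : G} (hu : IsPPart p h u)
    {e f : MonoidAlgebra (ResK M) G} (he : IsIdempotentElem e) (hf : IsIdempotentElem f)
    (hec : Commute (single h 1) e) (hfc : Commute (single h 1) f) (hef : e * f = 0)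
    (hfe : f * e = 0) : liftVal hM χ h (e + f) = liftVal hM χ h e + liftVal hM χ h f := by
  obtain ⟨E, hE, hEr, hEc⟩ := exists_idem_lift hM he
  obtain ⟨φ, hφ, hφc⟩ := exists_lift_inv hM f
  set x := (1 - E) * φ * (1 - E) with hx
  have hxr : red hM x = f := by
    rw [hx, map_mul, map_mul, map_sub, map_one, hEr, hφ, sub_mul, one_mul, hef, sub_zero, mul_sub,
      mul_one, hfe, sub_zero]
  obtain ⟨g, hg, -, hgr, -⟩ := exists_lift_poly hM (a := x) (a' := x) (hxr ▸ hf) (hxr ▸ hf)
  set F := aeval x (Polynomial.X * g) with hF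
  have e0 : E * (1 - E) = 0 := by rw [mul_sub, mul_one, hE.eq, sub_self]
  have e1 : (1 - E) * E = 0 := by rw [sub_mul, one_mul, hE.eq, sub_self]
  have hEx : E * x = 0 := by rw [hx, ← mul_assoc, ← mul_assoc, e0, zero_mul, zero_mul]
  have hxE : x * E = 0 := by rw [hx, mul_assoc, e1, mul_zero]
  have hEF : E * F = 0 := by rw [hF, map_mul, aeval_X, ← mul_assoc, hEx, zero_mul]
  have hFE : F * E = 0 := by
    rw [hF, map_mul, aeval_X, (commute_aeval (Commute.refl x) g).eq, mul_assoc, hxE, mul_zero]
  have hEh := hEc h hec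
  have hFh : Commute (single h 1) F := commute_aeval
    ((((Commute.one_right _).sub_right hEh).mul_right (hφc h hfc)).mul_right
      ((Commute.one_right _).sub_right hEh)) _
  have hidem : IsIdempotentElem (E + F) := by
    rw [IsIdempotentElem, add_mul, mul_add, mul_add, hEF, hFE, hE.eq, hg.eq, add_zero, zero_add]
  rw [liftVal_eq hM hχc hu he hec hE hEh (fun x _ => by rw [hEr]),
    liftVal_eq hM hχc hu hf hfc hg hFh (fun y _ => by rw [hgr, hxr]),
    liftVal_eq hM hχc hu (by
      rw [IsIdempotentElem, add_mul, mul_add, mul_add, hef, hfe, he.eq, hf.eq, add_zero, zero_add])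
      (hec.add_right hfc) hidem (hEh.add_right hFh)
      (fun y _ => by rw [map_add, hEr, hgr, hxr]),
    mul_add, trR_add]

/-- Values are equivariant under conjugation. -/
theorem liftVal_conj (hχc : IsCharacter G χ) {h u : G} (hu : IsPPart p h u)
    {e : MonoidAlgebra (ResK M) G} (he : IsIdempotentElem e) (hec : Commute (single h 1) e)
    (t : G) : liftVal hM χ (t * h * t⁻¹) (conjA t e) = liftVal hM χ h e := by
  have hcl : IsClassFunction G χ := CfsgLib.Characters.isClassFunction_of_isCharacter hχc
  obtain ⟨E, hE, hEr, hEc⟩ := exists_idem_lift hM he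
  have hEh := hEc h hec
  have key : ∀ {R : Type} [Semiring R] (x y : MonoidAlgebra R G),
      (single t 1 * x * single t⁻¹ 1) * (single t 1 * y * single t⁻¹ 1) =
        single t 1 * (x * y) * single t⁻¹ 1 := fun x y => by
    rw [mul_assoc (single t 1 * x), ← mul_assoc (single t⁻¹ 1), ← mul_assoc (single t⁻¹ 1),
      single_mul_single, inv_mul_cancel, mul_one, ← one_def, one_mul]
    simp only [mul_assoc]
  have hs : ∀ {R : Type} [Semiring R], (single (t * h * t⁻¹) 1 : MonoidAlgebra R G) =
      single t 1 * single h 1 * single t⁻¹ 1 := fun {R} _ => by simp [single_mul_single]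
  rw [liftVal_eq hM hχc hu he hec hE hEh (fun x _ => by rw [hEr]),
    liftVal_eq hM hχc (IsPPart.conj hu t) (E := single t 1 * E * single t⁻¹ 1)
      (by rw [IsIdempotentElem, conjA, key, he.eq])
      (by rw [Commute, SemiconjBy, hs, conjA, key, key, hec.eq])
      (by rw [IsIdempotentElem, key, hE.eq])
      (by rw [Commute, SemiconjBy, hs, key, key, hEh.eq])
      (fun x _ => by rw [map_mul, map_mul, red_single, red_single, hEr, map_one, conjA])]
  rw [hs, key, trR, map_mul (inc hM), map_mul (inc hM), inc_single, inc_single]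
  exact trC_conj hcl t _

end CfsgLib.BPStar
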