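import Cfsg.Agent.Lib.Blocks.BlockGalois
import Cfsg.Agent.Lib.Blocks.BlockParts
import Cfsg.Prelude.Def_BlockFusion

/-!
# Brauer pairs do not depend on the maximal ideal over `p`

The number compared with `1` in the definition of a Brauer pair is rational, so all notions of
Brauer pairs, their inclusion and their fusion are the same for every maximal ideal over `p`.
-/

set_option autoImplicit false
set_option linter.unusedSectionVars false

namespace CfsgLib.BPStar

open Cfsg CfsgLib.Blocks CfsgLib.Characters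
open scoped ComplexConjugate Classical

variable {p : ℕ} {M M' : Ideal AlgInt}

/-- An element integral away from `p` and local integral at every ideal over `p` is an algebraic
integer. -/
theorem isIntegral_of_local (hp : p.Prime) {z : ℂ} {N : ℕ} (hN : IsIntegral ℤ ((p : ℂ) ^ N * z))
    (h : ∀ M' : Ideal AlgInt, IsPModular p M' → MemLocalRing M' z) : IsIntegral ℤ z := by
  let I : Ideal AlgInt :=
    { carrier := {b | IsIntegral ℤ ((b : ℂ) * z)}
      add_mem' := fun {a b} ha hb => by
        show IsIntegral ℤ (((a + b : AlgInt) : ℂ) * z)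
        rw [show ((a + b : AlgInt) : ℂ) = (a : ℂ) + b from rfl, add_mul]
        exact ha.add hb
      zero_mem' := by simp [isIntegral_zero]
      smul_mem' := fun c b hb => by
        show IsIntegral ℤ (((c * b : AlgInt) : ℂ) * z)
        rw [show ((c * b : AlgInt) : ℂ) = (c : ℂ) * b from rfl, mul_assoc]
        exact c.2.mul hb }
  by_cases htop : I = ⊤
  · have h1 : (1 : AlgInt) ∈ I := htop ▸ trivial
    simpa [I] using h1
  · obtain ⟨M', hM', hle⟩ := Ideal.exists_le_maximal I htop
    have hpN : (p : AlgInt) ^ N ∈ I := by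
      show IsIntegral ℤ (((p : AlgInt) ^ N : AlgInt) * z : ℂ)
      simpa using hN
    have hmod : IsPModular p M' := ⟨hp, hM', hM'.isPrime.mem_of_pow_mem N (hle hpN)⟩
    obtain ⟨a, b, hb, hab⟩ := h M' hmod
    refine absurd (hle (show b ∈ I from ?_)) hb
    show IsIntegral ℤ ((b : ℂ) * z)
    rw [← hab, mul_div_cancel₀ _ (coe_ne_zero_of_notMem hb)]
    exact a.2

theorem memLocalIdeal_ratCast_iff (hM : IsPModular p M) (q : ℚ) :
    MemLocalIdeal M (q : ℂ) ↔ (p : ℤ) ∣ q.num := by
  have hn : ∀ n : ℤ, MemLocalIdeal M (n : ℂ) ↔ (p : ℤ) ∣ n := fun n => by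
    rw [← intCast_mem_iff hM n, ← memLocalIdeal_coe_iff hM]
    simp
  have hd0 : (q.den : ℂ) ≠ 0 := Nat.cast_ne_zero.2 q.den_nz
  have hq : (q : ℂ) = (q.num : ℂ) / (q.den : ℂ) := Rat.cast_def q
  by_cases hd : p ∣ q.den
  · have hnum : ¬ (p : ℤ) ∣ q.num := fun h => hM.1.ne_one (Nat.dvd_one.1 (by
      rw [← q.reduced.gcd_eq_one]
      exact Nat.dvd_gcd (Int.natCast_dvd.1 h) hd))
    refine iff_of_false (fun h => hnum ((hn _).1 ?_)) hnum
    have h1 := MemLocalIdeal.mul_right hM h (natCast_mem (lRing hM) q.den)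
    rwa [hq, div_mul_cancel₀ _ hd0] at h1
  · rw [← hn q.num, hq, div_eq_mul_inv]
    refine ⟨fun h => ?_, fun h => MemLocalIdeal.mul_right hM h (inv_natCast_mem_lRing hM hd)⟩
    have h1 := MemLocalIdeal.mul_right hM h (natCast_mem (lRing hM) q.den)
    rwa [inv_mul_cancel_right₀ hd0] at h1

theorem memLocalIdeal_rat_transfer (hM : IsPModular p M) (hM' : IsPModular p M') {v : ℂ}
    (hv : ∃ q : ℚ, v = (q : ℂ)) (h : MemLocalIdeal M (v - 1)) : MemLocalIdeal M' (v - 1) := by
  obtain ⟨q, rfl⟩ := hv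
  have e : ((q : ℂ) - 1) = ((q - 1 : ℚ) : ℂ) := by push_cast; rfl
  rw [e] at h ⊢
  exact (memLocalIdeal_ratCast_iff hM' _).2 ((memLocalIdeal_ratCast_iff hM _).1 h)

universe u

variable {G : Type u} [Group G] [Fintype G]

theorem sameBlock_transfer (hM : IsPModular p M) (hM' : IsPModular p M') {χ ψ : IrrCharacter G}
    (h : SameBlock M (χ : G → ℂ) (ψ : G → ℂ)) : SameBlock M' (χ : G → ℂ) (ψ : G → ℂ) := fun g => by
  obtain ⟨r, hr, hre⟩ := centralChar_sub_mem_of_sameBlock hM hM' h g
  exact hre ▸ memLocalIdeal_coe hM' hr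

theorem isPBlock_transfer (hM : IsPModular p M) (hM' : IsPModular p M')
    {B : Set (IrrCharacter G)} (hB : IsPBlock M B) : IsPBlock M' B := by
  obtain ⟨χ, rfl⟩ := hB
  exact ⟨χ, Set.ext fun ψ => ⟨sameBlock_transfer hM hM', sameBlock_transfer hM' hM⟩⟩

/-- The Brauer image of a sum of character idempotents has rational central character. -/
theorem exists_rat_brauerOmega {P K : Subgroup G} (hPK : Subgroup.centralizer (P : Set G) ≤ K)
    (A : Set (IrrCharacter K)) {β : G → ℂ} (hβ : ∀ x : K, β x = blockCoeff A x)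
    (ξ : IrrCharacter (Subgroup.centralizer (P : Set G))) :
    ∃ q : ℚ, brauerOmega P β (ξ : Subgroup.centralizer (P : Set G) → ℂ) = (q : ℂ) := by
  let ι : (Subgroup.centralizer (P : Set G)) →* K := Subgroup.inclusion hPK
  have hres : ∀ η : IrrCharacter K, IsCharacter (Subgroup.centralizer (P : Set G)) (fun c => (η : K → ℂ) (ι c)) := fun η =>
    CharGalois.isCharacter_comp (irr_isCharacter η) ι
  choose m hm using fun η => classInner_char_nat (irr_isCharacter ξ) (hres η)
  choose d hd _ using fun η : IrrCharacter K => irr_degree_dvd_card η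
  obtain ⟨d₀, hd₀, -⟩ := irr_degree_dvd_card ξ
  refine ⟨((Nat.card (Subgroup.centralizer (P : Set G)) : ℚ) / ((Nat.card K : ℚ) * d₀)) *
    ∑ η ∈ Finset.univ.filter (· ∈ A), (d η : ℚ) * (m η : ℚ), ?_⟩
  rw [brauerOmega, finsum_eq_sum_of_fintype]
  have hx : ∀ x : (Subgroup.centralizer (P : Set G)), β (x : G) = blockCoeff A (ι x) := fun x => hβ (ι x)
  simp only [hx, blockCoeff_eq_sum, Finset.mul_sum, Finset.sum_mul, Finset.sum_div]
  rw [Finset.sum_comm]
  push_cast
  refine Finset.sum_congr rfl fun η _ => ?_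
  rw [← hm η, classInner, ← hd₀, ← hd η, Finset.mul_sum, Finset.mul_sum, Finset.mul_sum]
  refine Finset.sum_congr rfl fun x _ => ?_
  have hC : (Nat.card (Subgroup.centralizer (P : Set G)) : ℂ) ≠ 0 := Nat.cast_ne_zero.2 Nat.card_pos.ne'
  field_simp

theorem subgroupBlockCoeff_apply (K : Subgroup G) (f : Set (IrrCharacter K)) (x : K) :
    subgroupBlockCoeff K f (x : G) = blockCoeff f x := by
  rw [subgroupBlockCoeff, dif_pos x.2]

theorem isBrauerPair_transfer (hM : IsPModular p M) (hM' : IsPModular p M') {Q : Subgroup G}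
    {e : Set (IrrCharacter (Subgroup.centralizer (Q : Set G)))} (h : IsBrauerPair p M Q e) :
    IsBrauerPair p M' Q e := ⟨h.1, isPBlock_transfer hM hM' h.2⟩

theorem isBrauerPairOf_transfer (hM : IsPModular p M) (hM' : IsPModular p M')
    {B : Set (IrrCharacter G)} {Q : Subgroup G}
    {e : Set (IrrCharacter (Subgroup.centralizer (Q : Set G)))}
    (h : IsBrauerPairOf p M B Q e) : IsBrauerPairOf p M' B Q e := by
  obtain ⟨h1, hB, h3⟩ := h
  refine ⟨isBrauerPair_transfer hM hM' h1, isPBlock_transfer hM hM' hB, fun ξ hξ =>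
    memLocalIdeal_rat_transfer hM hM' ?_ (h3 ξ hξ)⟩
  have hres : ∀ η : IrrCharacter G, IsCharacter (Subgroup.centralizer (Q : Set G)) (fun c => (η : G → ℂ) c) := fun η =>
    CharGalois.isCharacter_comp (irr_isCharacter η) (Subgroup.centralizer (Q : Set G)).subtype
  choose m hm using fun η => classInner_char_nat (irr_isCharacter ξ) (hres η)
  choose d hd _ using fun η : IrrCharacter G => irr_degree_dvd_card η
  obtain ⟨d₀, hd₀, -⟩ := irr_degree_dvd_card ξ
  refine ⟨((Nat.card (Subgroup.centralizer (Q : Set G)) : ℚ) / ((Nat.card G : ℚ) * d₀)) *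
    ∑ η ∈ Finset.univ.filter (· ∈ B), (d η : ℚ) * (m η : ℚ), ?_⟩
  rw [brauerOmega, finsum_eq_sum_of_fintype]
  simp only [blockCoeff_eq_sum, Finset.mul_sum, Finset.sum_mul, Finset.sum_div]
  rw [Finset.sum_comm]
  push_cast
  refine Finset.sum_congr rfl fun η _ => ?_
  rw [← hm η, classInner, ← hd₀, ← hd η, Finset.mul_sum, Finset.mul_sum, Finset.mul_sum]
  refine Finset.sum_congr rfl fun x _ => ?_
  have hC : (Nat.card (Subgroup.centralizer (Q : Set G)) : ℂ) ≠ 0 := Nat.cast_ne_zero.2 Nat.card_pos.ne'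
  field_simp

theorem isNormalSubpair_transfer (hM : IsPModular p M) (hM' : IsPModular p M') {Q P : Subgroup G}
    {f : Set (IrrCharacter (Subgroup.centralizer (Q : Set G)))}
    {e : Set (IrrCharacter (Subgroup.centralizer (P : Set G)))}
    (h : IsNormalSubpair p M Q f P e) : IsNormalSubpair p M' Q f P e := by
  obtain ⟨h1, h2, hle, hn, hst, h6⟩ := h
  exact ⟨isBrauerPair_transfer hM hM' h1, isBrauerPair_transfer hM hM' h2, hle, hn, hst,
    fun ξ hξ => memLocalIdeal_rat_transfer hM hM'
      (exists_rat_brauerOmega (Subgroup.centralizer_le hle) f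
        (subgroupBlockCoeff_apply _ f) ξ) (h6 ξ hξ)⟩

theorem subpairLE_transfer (hM : IsPModular p M) (hM' : IsPModular p M') {Q P : Subgroup G}
    {f : Set (IrrCharacter (Subgroup.centralizer (Q : Set G)))}
    {e : Set (IrrCharacter (Subgroup.centralizer (P : Set G)))}
    (h : SubpairLE p M Q f P e) : SubpairLE p M' Q f P e := by
  unfold SubpairLE at h ⊢
  generalize (⟨P, e⟩ : BrauerPairIdx G) = z at h ⊢
  induction h with
  | refl => exact Relation.ReflTransGen.refl
  | tail _ hab ih => exact ih.tail (isNormalSubpair_transfer hM hM' hab)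

theorem isMaximalBrauerPair_transfer (hM : IsPModular p M) (hM' : IsPModular p M')
    {B : Set (IrrCharacter G)} {P : Subgroup G}
    {e : Set (IrrCharacter (Subgroup.centralizer (P : Set G)))}
    (h : IsMaximalBrauerPair p M B P e) : IsMaximalBrauerPair p M' B P e :=
  ⟨isBrauerPairOf_transfer hM hM' h.1, fun R g hR hle =>
    h.2 R g (isBrauerPairOf_transfer hM' hM hR) (subpairLE_transfer hM' hM hle)⟩

theorem isBlockFusionSystemOn_transfer (hM : IsPModular p M) (hM' : IsPModular p M')
    {B : Set (IrrCharacter G)} {P : Subgroup G}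
    {e : Set (IrrCharacter (Subgroup.centralizer (P : Set G)))} {F : FusionSystem P}
    (h : IsBlockFusionSystemOn p M B P e F) : IsBlockFusionSystemOn p M' B P e F := by
  refine ⟨isMaximalBrauerPair_transfer hM hM' h.1, fun Q φ => (h.2 Q φ).trans ?_⟩
  constructor
  · rintro ⟨hQ, g, hg, hgP, f, hf1, hf2⟩
    exact ⟨hQ, g, hg, hgP, f, subpairLE_transfer hM hM' hf1, subpairLE_transfer hM hM' hf2⟩
  · rintro ⟨hQ, g, hg, hgP, f, hf1, hf2⟩
    exact ⟨hQ, g, hg, hgP, f, subpairLE_transfer hM' hM hf1, subpairLE_transfer hM' hM hf2⟩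

end CfsgLib.BPStar
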