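import Cfsg.Agent.Lib.BPStar.Star
import Cfsg.Agent.Lib.Blk7.MajorUnit

/-!
# Block parts that do not vanish

For a character of height zero the block part at every pair `(u, b)` below a maximal pair is nonzero
somewhere; for every character this holds at the value on `u` itself when `u` is central in the
defect group.
-/

set_option autoImplicit false
set_option linter.unusedSectionVars false
set_option linter.style.haveILetI false

namespace CfsgLib.BPStar

open Cfsg MonoidAlgebra CfsgLib.Blocks CfsgLib.BrauerPairs CfsgLib.Characters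
open scoped Classical

universe u

variable {p : ℕ} [Fact p.Prime] {M : Ideal AlgInt} [M.IsMaximal]
variable {G : Type u} [Group G] [Fintype G]
variable (hM : IsPModular p M) {χ : G → ℂ}

/-- The reduced character, extended linearly. -/
noncomputable def phi (hχ : IsCharacter G χ) : MonoidAlgebra (ResK M) G →ₗ[ResK M] ResK M where
  toFun y := ∑ g, y.coeff g *
    resK hM ⟨χ g, isIntegral_mem_lRing hM (KGV.char_isIntegral hχ g)⟩
  map_add' y z := by simp [add_mul, Finset.sum_add_distrib]
  map_smul' r z := by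
    simp only [coeff_smul_apply, smul_eq_mul, RingHom.id_apply, mul_assoc]
    exact (Finset.mul_sum _ _ _).symm

theorem phi_red (hχ : IsCharacter G χ) (a : MonoidAlgebra (lRing hM) G) :
    phi hM hχ (red hM a) = resK hM ⟨trR hM χ a, trR_mem hM hχ a⟩ := by
  show ∑ g, _ = _
  simp only [coeff_red, ← map_mul, ← map_sum]
  congr 1
  refine Subtype.ext ?_
  show _ = trR hM χ a
  rw [AddSubmonoidClass.coe_finsetSum, trR_eq_sum]
  rfl

theorem phi_of_nilpotent (hχ : IsCharacter G χ) {y : MonoidAlgebra (ResK M) G}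
    (hy : IsNilpotent y) : phi hM hχ y = 0 := by
  obtain ⟨a, ha, -⟩ := exists_lift_inv hM y
  rw [← ha, phi_red, resK_eq_zero_iff]
  exact trR_mem_ideal hM hχ (ha.symm ▸ hy)

theorem phi_mul_comm (hχ : IsCharacter G χ) (y z : MonoidAlgebra (ResK M) G) :
    phi hM hχ (y * z) = phi hM hχ (z * y) := by
  obtain ⟨a, ha, -⟩ := exists_lift_inv hM y
  obtain ⟨b, hb, -⟩ := exists_lift_inv hM z
  rw [← ha, ← hb, ← map_mul, ← map_mul, phi_red, phi_red]
  congr 1
  exact Subtype.ext (trR_mul_comm hM (isClassFunction_of_isCharacter hχ) a b)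

theorem phi_conjA (hχ : IsCharacter G χ) (g : G) (y : MonoidAlgebra (ResK M) G) :
    phi hM hχ (conjA g y) = phi hM hχ y := by
  rw [conjA, phi_mul_comm, ← mul_assoc, single_mul_single, inv_mul_cancel, mul_one, ← one_def,
    one_mul]

theorem phi_relTr (hχ : IsCharacter G χ) (S T : Subgroup G) (y : MonoidAlgebra (ResK M) G) :
    phi hM hχ (relTr (ResK M) S T y) = (S.relIndex T : ResK M) * phi hM hχ y := by
  rw [relTr_eq_sum, map_sum, Finset.sum_congr rfl fun q _ => phi_conjA hM hχ _ y, Finset.sum_const,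
    nsmul_eq_mul, Finset.card_univ, ← Nat.card_eq_fintype_card, ← Subgroup.index_eq_card,
    Subgroup.relIndex]

/-- The value of `φ` at `h` times a block idempotent of a centraliser. -/
theorem phi_single_eA (hχ : IsCharacter G χ) {u : G} (hu : ∃ k : ℕ, orderOf u = p ^ k)
    {s : cz (Subgroup.zpowers u)} (hs : ¬ p ∣ orderOf s)
    {b : Set (IrrCharacter (cz (Subgroup.zpowers u)))} (hb : IsPBlock M b)
    (h0 : blockPart b (secFun u χ) s = 0) :
    phi hM hχ (single (u * (s : G)) 1 * eA hM (cz (Subgroup.zpowers u)) b) = 0 := by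
  have hus : u * (s : G) ∈ cz (Subgroup.zpowers u) := mul_mem (mem_cz_self u) s.2
  have hbi := isBlockIdem_eA hM hb
  have e : single (u * (s : G)) (1 : ResK M) * eA hM (cz (Subgroup.zpowers u)) b =
      red hM (single (u * (s : G)) 1 * idemR hM hb) := by
    rw [map_mul, red_single, map_one, red_idemR]
  rw [e, phi_red, resK_eq_zero_iff]
  show MemLocalIdeal M (trR hM χ (single (u * (s : G)) 1 * idemR hM hb))
  rw [← liftVal_eq hM hχ (isPPart_sec hu hs) hbi.idem (commute_single_of_conjA (hbi.fixed _ hus))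
    (isIdempotentElem_idemR hM hb) (commute_idemR hM hb hus) (fun x _ => by rw [red_idemR]),
    liftVal_eA hM hχ hu hs hb, h0]
  exact memLocalIdeal_zero hM

section Alg

variable {k : Type*} [Field k] [CharP k p]

/-- `w - 1` is nilpotent for a `p`-element `w`. -/
theorem isNilpotent_single_sub_one {w : G} (hw : ∃ j : ℕ, orderOf w = p ^ j) :
    IsNilpotent (single w (1 : k) - 1) := by
  obtain ⟨j, hj⟩ := hw
  haveI : CharP (MonoidAlgebra k G) p :=
    charP_of_injective_algebraMap (algebraMap k (MonoidAlgebra k G)).injective p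
  refine ⟨p ^ j, ?_⟩
  rw [sub_pow_char_pow_of_commute (p := p) (n := j) (h := Commute.one_right _), single_pow, one_pow, one_pow, ← hj,
    pow_orderOf_eq_one, one_def, sub_self]

/-- A combination of central nilpotent elements is nilpotent. -/
theorem isNilpotent_sum_central {A : Type*} [Ring A] {ι : Type*} (s : Finset ι) (z y : ι → A)
    (hz : ∀ i ∈ s, IsNilpotent (z i)) (hc : ∀ i ∈ s, ∀ a : A, Commute (z i) a) :
    IsNilpotent (∑ i ∈ s, z i * y i) := by
  induction s using Finset.induction with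
  | empty => simp
  | insert a t hat ih =>
    rw [Finset.sum_insert hat]
    obtain ⟨m, hm⟩ := ih (fun i hi => hz i (Finset.mem_insert_of_mem hi))
      fun i hi => hc i (Finset.mem_insert_of_mem hi)
    set S := ∑ i ∈ t, z i * y i
    have hca := hc a (Finset.mem_insert_self a t)
    have key : ∀ n : ℕ, ∃ y' : A, (z a * y a + S) ^ n = z a * y' + S ^ n := by
      intro n
      induction n with
      | zero => exact ⟨0, by simp⟩
      | succ n ihn =>
        obtain ⟨y', hy'⟩ := ihn
        refine ⟨y' * (z a * y a + S) + S ^ n * y a, ?_⟩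
        rw [pow_succ, hy', mul_add (z a), add_mul, mul_add (S ^ n), ← mul_assoc (S ^ n) (z a),
          ← (hca (S ^ n)).eq, pow_succ]
        simp only [mul_assoc]
        abel
    obtain ⟨y', hy'⟩ := key m
    obtain ⟨l, hl⟩ := hz a (Finset.mem_insert_self a t)
    refine ⟨m * l, ?_⟩
    rw [pow_mul, hy', hm, add_zero, (hca y').mul_pow, hl, zero_mul]

end Alg

variable {B : Set (IrrCharacter G)}

/-- The central character at a trace of an invariant element. -/
theorem exists_omega_trace (hB : IsPBlock M B) {χ : IrrCharacter G} (hχ : χ ∈ B) {C : Subgroup G}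
    (a : MonoidAlgebra (lRing hM) G) (ha : ∀ h ∈ C, Commute (single h 1) a) :
    ∃ hω : (C.index : ℂ) * trR hM (χ : G → ℂ) a / (χ : G → ℂ) 1 ∈ lRing hM,
      IsNilpotent (relTr (ResK M) C ⊤ (red hM a) * eG hM B - resK hM ⟨_, hω⟩ • eG hM B) := by
  have hafix : inc hM a ∈ fixAlg ℂ C := mem_fixAlg_iff_coeff.2 fun g hg x => by
    rw [coeff_inc, coeff_inc, commute_single_iff.1 (ha g hg) x]
  set c : G → ℂ := fun x => (relTr ℂ C ⊤ (inc hM a)).coeff x with hc
  have hcsum : ∀ x, c x = ∑ q : (⊤ : Subgroup G) ⧸ C.subgroupOf ⊤,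
      (a.coeff (((q.out : (⊤ : Subgroup G)) : G)⁻¹ * x * ((q.out : (⊤ : Subgroup G)) : G)) : ℂ) :=
    fun x => by simp only [hc, relTr_eq_sum, coeff_sum, Finsupp.finsetSum_apply, coeff_conjA, coeff_inc]
  have hcR : ∀ x, c x ∈ lRing hM := fun x => by
    rw [hcsum]; exact Subring.sum_mem _ fun q _ => (a.coeff _).2
  have hcl : ∀ g x, c (g * x * g⁻¹) = c x := fun g x =>
    mem_fixAlg_iff_coeff.1 (relTr_mem_fixAlg hafix) g (Subgroup.mem_top g) x
  have hred : redFun hM c = relTr (ResK M) C ⊤ (red hM a) := by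
    ext x
    rw [coeff_redFun hM (hcR x), relTr_eq_sum]
    simp only [coeff_sum, Finsupp.finsetSum_apply, coeff_conjA, coeff_red, ← map_sum]
    congr 1
    exact Subtype.ext (by rw [AddSubmonoidClass.coe_finsetSum]; exact hcsum x)
  have hval : ∑ᶠ x : G, c x * (χ : G → ℂ) x / (χ : G → ℂ) 1 =
      (C.index : ℂ) * trR hM (χ : G → ℂ) a / (χ : G → ℂ) 1 := by
    rw [finsum_eq_sum_of_fintype, ← Finset.sum_div]
    congr 1
    show trC (χ : G → ℂ) (relTr ℂ C ⊤ (inc hM a)) = _
    rw [relTr_eq_sum, map_sum, Finset.sum_congr rfl fun q _ => show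
      trC (χ : G → ℂ) (conjA ((q.out : (⊤ : Subgroup G)) : G) (inc hM a)) =
        trR hM (χ : G → ℂ) a from trC_conj (irr_isClassFunction χ) _ _,
      Finset.sum_const, nsmul_eq_mul, Finset.card_univ, ← Nat.card_eq_fintype_card,
      ← Subgroup.index_eq_card]
    congr 2
    exact C.relIndex_top_right
  have hω : (C.index : ℂ) * trR hM (χ : G → ℂ) a / (χ : G → ℂ) 1 ∈ lRing hM :=
    hval ▸ omega_sum_mem hM χ hcR hcl
  refine ⟨hω, ?_⟩
  have h := nilpotent_sub hM hB hχ hcR hcl
  rw [hred] at h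
  have e : (⟨_, omega_sum_mem hM χ hcR hcl⟩ : lRing hM) = ⟨_, hω⟩ := Subtype.ext hval
  rwa [e] at h

variable {P : Subgroup G}

/-- The degree of a character of height zero has the `p`-part of the index of a defect group. -/
theorem index_div_degree_mem (hB : IsPBlock M B) (hD : IsDefect p (⊥ : Subgroup G) (eG hM B) ⊤ P)
    {χ : IrrCharacter G} (hχ : χ ∈ B) (h0 : blockHeight p B (χ : G → ℂ) = 0) :
    (P.index : ℂ) / (χ : G → ℂ) 1 ∈ lRing hM := by
  set v := (charDegree (χ : G → ℂ)).factorization p with hv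
  have hP : Nat.card P = p ^ blockDefect p B :=
    BlockCover.natCard_defect hM hB ((isDefectGroup_iff hM hB P).2 hD)
  have hle : v ≤ Contribution.minExp p B := Nat.sub_eq_zero_iff_le.1 h0
  have heq : v = Contribution.minExp p B := le_antisymm hle (Contribution.minExp_le hχ)
  have hidx : P.index.factorization p = v := by
    have h1 := congrArg (fun n => n.factorization p) P.card_mul_index
    rw [hP] at h1
    simp only [Nat.factorization_mul (pow_ne_zero _ hM.1.ne_zero) Subgroup.index_ne_zero_of_finite,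
      Finsupp.add_apply, hM.1.factorization_pow, Finsupp.single_eq_same] at h1
    have h2 := Contribution.minExp_add_defect hM hB
    omega
  have hd := (CfsgLib.ClassCount.degree_eq χ).2.2
  rw [CharCorr.irr_one_eq_charDegree, ← Nat.ordProj_mul_ordCompl_eq_self P.index p, hidx,
    ← Nat.ordProj_mul_ordCompl_eq_self (charDegree (χ : G → ℂ)) p, ← hv, Nat.cast_mul, Nat.cast_mul,
    mul_div_mul_left _ _ (Nat.cast_ne_zero.2 (pow_ne_zero _ hM.1.ne_zero)), div_eq_mul_inv]
  exact (lRing hM).mul_mem (natCast_mem _ _)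
    (inv_natCast_mem_lRing hM (Nat.not_dvd_ordCompl hM.1 hd.ne'))

/-- A local idempotent below a pair on which the reduced character does not vanish. -/
theorem exists_local_idem (hB : IsPBlock M B) (hD : IsDefect p (⊥ : Subgroup G) (eG hM B) ⊤ P)
    {χ : IrrCharacter G} (hχ : χ ∈ B) (h0 : blockHeight p B (χ : G → ℂ) = 0) :
    ∃ (j : algAt (ResK M) (1 : G) P) (f : MonoidAlgebra (ResK M) G),
      OverPair p (⊥ : Subgroup G) (eG hM B) ⊤ P f ∧ IsPrim j ∧
      brMap (ResK M) P (j : MonoidAlgebra (ResK M) G) ≠ 0 ∧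
      brMap (ResK M) P (j : MonoidAlgebra (ResK M) G) * f = brMap (ResK M) P j ∧
      phi hM (irr_isCharacter χ) (j : MonoidAlgebra (ResK M) G) ≠ 0 := by
  have := charP_res hM
  have := isAlgClosed_res hM
  have hE := isBlockIdem_eG hM hB
  set E := eG hM B with hEdef
  have hone : ∀ W : Subgroup G, ∀ y ∈ fixAlg (ResK M) W, y ∈ algAt (ResK M) (1 : G) W :=
    fun W y hy => ⟨hy, mem_fix_zpowers (conjA_one_left y)⟩
  have hx1 : ¬ p ∣ orderOf (1 : G) := by rw [orderOf_one]; exact hM.1.not_dvd_one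
  have hxP : (1 : G) ∈ cz P := one_mem _
  obtain ⟨a₀, -, ha₀, hEa₀⟩ := hD.inTr
  set a := E * a₀ with ha
  have haP : a ∈ fixAlg (ResK M) P := mul_mem (fixAlg_anti le_top hE.fixed) ha₀
  have hEa : relTr (ResK M) P ⊤ a = E := by rw [ha, ← relTr_mul_left hE.fixed, hEa₀, hE.idem]
  -- the value at `a`
  have hφa : phi hM (irr_isCharacter χ) a ≠ 0 := by
    obtain ⟨A, hA, hAc⟩ := exists_lift_inv hM a
    obtain ⟨hω, hn⟩ := exists_omega_trace hM hB hχ (C := P) A
      fun h hh => hAc h (commute_single_of_conjA (haP h hh))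
    rw [hA, hEa, hE.idem] at hn
    intro h1
    have hl : resK hM ⟨_, hω⟩ = 0 := by
      rw [resK_eq_zero_iff]
      show MemLocalIdeal M ((P.index : ℂ) * trR hM (χ : G → ℂ) A / (χ : G → ℂ) 1)
      rw [mul_comm, mul_div_assoc]
      refine MemLocalIdeal.mul_right hM ?_ (index_div_degree_mem hM hB hD hχ h0)
      rw [← hA, phi_red, resK_eq_zero_iff] at h1
      exact h1
    rw [hl, zero_smul, sub_zero] at hn
    exact hE.ne_zero (eq_zero_of_nilpotent_idem hn hE.idem)
  -- a primitive idempotent below `E`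
  obtain ⟨J, hJ, -, hsum⟩ := exists_prim_decomp (ResK M) (A := algAt (ResK M) (1 : G) P)
    (i := ⟨E, hone P E (fixAlg_anti le_top hE.fixed)⟩) (Subtype.ext hE.idem)
  have hEJ : E = ∑ j ∈ J, (j : MonoidAlgebra (ResK M) G) := by
    have h1 := congrArg Subtype.val hsum
    rw [AddSubmonoidClass.coe_finsetSum] at h1
    exact h1.symm
  obtain ⟨j, hj, hjφ⟩ : ∃ j ∈ J,
      phi hM (irr_isCharacter χ) (j : MonoidAlgebra (ResK M) G) ≠ 0 := by
    by_contra hcon
    simp only [not_exists, not_and, not_not] at hcon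
    apply hφa
    have e : a = ∑ j ∈ J, (j : MonoidAlgebra (ResK M) G) * a := by
      rw [← Finset.sum_mul, ← hEJ, ha, ← mul_assoc, hE.idem]
    rw [e, map_sum]
    refine Finset.sum_eq_zero fun j hj => ?_
    have hjj : (j : MonoidAlgebra (ResK M) G) * j = j := congrArg Subtype.val (hJ j hj).1.idem.eq
    set z : algAt (ResK M) (1 : G) P := j * ⟨a, hone P a haP⟩ * j with hz
    obtain ⟨c, hc⟩ := (hJ j hj).1.exists_scalar (k := ResK M) (z := z)
      (by rw [hz, ← mul_assoc, ← mul_assoc, (hJ j hj).1.idem.eq])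
      (by rw [hz, mul_assoc, (hJ j hj).1.idem.eq])
    have hc' : phi hM (irr_isCharacter χ)
        ((z : MonoidAlgebra (ResK M) G) - c • (j : MonoidAlgebra (ResK M) G)) = 0 :=
      phi_of_nilpotent hM _ (hc.map (algAt (ResK M) (1 : G) P).val)
    rw [map_sub, map_smul, hcon j hj, smul_zero, sub_zero, hz] at hc'
    simp only [MulMemClass.coe_mul] at hc'
    rwa [phi_mul_comm, ← mul_assoc, hjj] at hc'
  obtain ⟨hjP, hjE, -⟩ := hJ j hj
  have hne : brMap (ResK M) P (j : MonoidAlgebra (ResK M) G) ≠ 0 := by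
    intro hbr
    obtain ⟨W, -, -, hWp, y, -, hy⟩ := exists_trace_of_br_zero hx1 hD.pgroup hxP hjP hbr
    refine hjφ ?_
    rw [← hy, phi_relTr, hWp, CharP.cast_eq_zero, zero_mul]
  obtain ⟨f, hf, hjf⟩ := exists_block_local (hasBlocks hM) hD.pgroup hxP hjP hne
  refine ⟨j, f, ⟨hD.pgroup, bot_le, le_top, hf, ?_⟩, hjP, hne, hjf, hjφ⟩
  have hEP : E ∈ fixAlg (ResK M) P := fixAlg_anti le_top hE.fixed
  refine (hf.mul_idem (brMap_mem_suppAlg P E)
    (brMap_mem_fixAlg (cz_le_normalizer P) (fixAlg_anti le_top hE.fixed))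
    (by rw [← brMap_mul hD.pgroup hEP hEP, hE.idem])).resolve_left fun h1 => hne ?_
  have h2 : brMap (ResK M) P E * brMap (ResK M) P (j : MonoidAlgebra (ResK M) G) =
      brMap (ResK M) P j := by
    rw [← brMap_mul hD.pgroup hEP j.2.1]
    exact congrArg _ (congrArg Subtype.val hjE :)
  have hcomm : Commute (brMap (ResK M) P (j : MonoidAlgebra (ResK M) G)) f :=
    commute_of_supp_fix (brMap_mem_suppAlg P _) hf.fixed
  rw [← h2, ← hjf, hcomm.eq, ← mul_assoc, h1, zero_mul]

/-- Nonvanishing at the pairs below the pair of a local idempotent. -/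
theorem exists_phi_ne_zero (hχ : IsCharacter G χ) (hP : IsPGroup p P)
    {j : algAt (ResK M) (1 : G) P} (hj : IsPrim j)
    (hne : brMap (ResK M) P (j : MonoidAlgebra (ResK M) G) ≠ 0) {f : MonoidAlgebra (ResK M) G}
    (hf : IsBlockIdem (cz P) f)
    (hjf : brMap (ResK M) P (j : MonoidAlgebra (ResK M) G) * f = brMap (ResK M) P j)
    (hjφ : phi hM hχ (j : MonoidAlgebra (ResK M) G) ≠ 0) {x : G} (hx : x ∈ P)
    {b : MonoidAlgebra (ResK M) G} (hle : PairLE p (Subgroup.zpowers x, b) (P, f)) :
    ∃ s : cz (Subgroup.zpowers x), ¬ p ∣ orderOf s ∧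
      phi hM hχ (single (x * (s : G)) 1 * b) ≠ 0 := by
  have := charP_res hM
  set Q := Subgroup.zpowers x with hQ
  have hx1 : ¬ p ∣ orderOf (1 : G) := by rw [orderOf_one]; exact hM.1.not_dvd_one
  have hQP : Q ≤ P := Subgroup.zpowers_le.2 hx
  have hQp : IsPGroup p Q := hP.to_le hQP
  have hxp : ∃ k : ℕ, orderOf x = p ^ k := by
    obtain ⟨k, hk⟩ := IsPGroup.iff_card.1 hQp
    exact ⟨k, by rw [← Nat.card_zpowers]; exact hk⟩
  have hb : IsBlockIdem (cz Q) b := block_of_pairLE (a := (Q, b)) hle hf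
  have hbr := brMap_mul_of_pairLE (hasBlocks hM) hx1 hP (one_mem _) hj hne hf hjf hle
  have hjQ : (j : MonoidAlgebra (ResK M) G) ∈ fixAlg (ResK M) Q := fixAlg_anti hQP j.2.1
  set z := brMap (ResK M) Q (j : MonoidAlgebra (ResK M) G) with hz
  have hzs : z ∈ suppAlg (ResK M) (cz Q) := brMap_mem_suppAlg _ _
  have hcommj : Commute (single x (1 : ResK M)) (j : MonoidAlgebra (ResK M) G) :=
    commute_single_of_conjA (j.2.1 x hx)
  have e1 : phi hM hχ (single x 1 * (j : MonoidAlgebra (ResK M) G)) =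
      phi hM hχ (j : MonoidAlgebra (ResK M) G) := by
    rw [← sub_eq_zero, ← map_sub,
      show single x 1 * (j : MonoidAlgebra (ResK M) G) - (j : MonoidAlgebra (ResK M) G) =
        (single x 1 - 1) * (j : MonoidAlgebra (ResK M) G) by rw [sub_mul, one_mul]]
    obtain ⟨n, hn⟩ := isNilpotent_single_sub_one (k := ResK M) hxp
    refine phi_of_nilpotent hM hχ ⟨n, ?_⟩
    rw [(hcommj.sub_left (Commute.one_left _)).mul_pow, hn, zero_mul]
  -- only the Brauer image counts
  have e2 : phi hM hχ (single x 1 * ((j : MonoidAlgebra (ResK M) G) - z)) = 0 := by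
    let K : AddSubmonoid (MonoidAlgebra (ResK M) G) :=
      { carrier := {y | phi hM hχ (single x 1 * y) = 0}
        zero_mem' := by show phi hM hχ (single x 1 * 0) = 0; rw [mul_zero, map_zero]
        add_mem' := fun {y y'} (h : phi hM hχ (single x 1 * y) = 0)
            (h' : phi hM hχ (single x 1 * y') = 0) => by
          show phi hM hχ (single x 1 * (y + y')) = 0
          rw [mul_add, map_add, h, h', add_zero] }
    have hxfix : single x (1 : ResK M) ∈ fixAlg (ResK M) Q := by
      intro v hv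
      obtain ⟨i, rfl⟩ := Subgroup.mem_zpowers_iff.1 hv
      rw [conjA, single_mul_single, single_mul_single, one_mul, one_mul,
        ((Commute.refl x).zpow_left i).eq, mul_inv_cancel_right]
    refine mem_of_brMap_eq_zero (Q := ⊥) bot_le (fun g _ y => by simp) K (fun S _ hS c _ _ => ?_)
      (by rw [cz_bot]; exact mem_suppAlg_top _)
      (sub_mem hjQ (brMap_mem_fixAlg Subgroup.le_normalizer hjQ))
      (by rw [map_sub, hz, brMap_eq_self (brMap_mem_suppAlg _ _), sub_self])
    show phi hM hχ (single x 1 * relTr (ResK M) S Q c) = 0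
    rw [relTr_mul_left hxfix, phi_relTr]
    have hdvd : p ∣ S.relIndex Q := by
      obtain ⟨i, hi⟩ := hQp.index (H := S.subgroupOf Q)
      rw [show S.relIndex Q = (S.subgroupOf Q).index from rfl, hi]
      refine dvd_pow_self p fun h0 => hS.not_ge ?_
      rw [h0, pow_zero, Subgroup.index_eq_one, Subgroup.subgroupOf_eq_top] at hi
      exact hi
    rw [(CharP.cast_eq_zero_iff (ResK M) p _).2 hdvd, zero_mul]
  have e3 : phi hM hχ (single x 1 * z) ≠ 0 := by
    intro h0
    rw [mul_sub, map_sub, h0, sub_zero, e1] at e2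
    exact hjφ e2
  -- a coefficient
  obtain ⟨c, hc, hcne⟩ : ∃ c ∈ cz Q, phi hM hχ (single (x * c) 1 * b) ≠ 0 := by
    by_contra hcon
    simp only [not_exists, not_and, not_not] at hcon
    apply e3
    rw [← hbr, ← mul_assoc, eq_sum_single z, Finset.mul_sum, Finset.sum_mul, map_sum]
    refine Finset.sum_eq_zero fun g _ => ?_
    by_cases hg : g ∈ cz Q
    · rw [single_mul_single, one_mul, show single (x * g) (z.coeff g) =
        z.coeff g • single (x * g) (1 : ResK M) by simp, smul_mul_assoc, map_smul, hcon g hg,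
        smul_zero]
    · rw [coeff_eq_zero_of_mem_suppAlg hzs hg, single_zero, mul_zero, zero_mul, map_zero]
  obtain ⟨w, s, hws, hcws, hw, hs⟩ := exists_isPPart hM.1 (⟨c, hc⟩ : cz Q)
  refine ⟨s, hs, ?_⟩
  have hws' : (w : G) * (s : G) = c := congrArg Subtype.val hws
  have hwx : Commute x (w : G) := commute_of_mem_cz w.2
  have hwsG : Commute (w : G) (s : G) := congrArg Subtype.val hcws.eq
  have hwb : Commute (single (w : G) (1 : ResK M)) b := commute_single_of_conjA (hb.fixed _ w.2)
  have hwxs : Commute (single (w : G) (1 : ResK M)) (single (x * (s : G)) 1 * b) := by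
    refine Commute.mul_right ?_ hwb
    rw [Commute, SemiconjBy, single_mul_single, single_mul_single,
      (hwx.symm.mul_right hwsG).eq]
  have e : single (x * c) (1 : ResK M) * b = single (x * (s : G)) 1 * b +
      (single (w : G) 1 - 1) * (single (x * (s : G)) 1 * b) := by
    rw [sub_mul, one_mul, add_sub_cancel, ← mul_assoc, single_mul_single, one_mul, ← hws',
      ← mul_assoc (w : G), hwx.symm.eq, mul_assoc]
  have hwp : ∃ i : ℕ, orderOf (w : G) = p ^ i := by rwa [Subgroup.orderOf_coe]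
  obtain ⟨n, hn⟩ := isNilpotent_single_sub_one (k := ResK M) hwp
  have hnil : IsNilpotent ((single (w : G) (1 : ResK M) - 1) * (single (x * (s : G)) 1 * b)) :=
    ⟨n, by rw [(hwxs.sub_left (Commute.one_left _)).mul_pow, hn, zero_mul]⟩
  rw [e, map_add, phi_of_nilpotent hM hχ hnil, add_zero] at hcne
  exact hcne

variable {e : Set (IrrCharacter (Subgroup.centralizer (P : Set G)))}

/-- For height zero some value of every block part below `(P, e)` is not zero. -/
theorem exists_blockPart_ne_zero (hmax : IsMaximalBrauerPair p M B P e) {χ : IrrCharacter G}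
    (hχ : χ ∈ B) (h0 : blockHeight p B (χ : G → ℂ) = 0) (x : P)
    {b : Set (IrrCharacter (cz (Subgroup.zpowers (x : G))))} (hb : IsPBlock M b)
    (hle : PairLE p (Subgroup.zpowers (x : G), eA hM (cz (Subgroup.zpowers (x : G))) b)
      (P, eA hM (cz P) e)) :
    ∃ s : cz (Subgroup.zpowers (x : G)), ¬ p ∣ orderOf s ∧
      blockPart b (secFun (x : G) (χ : G → ℂ)) s ≠ 0 := by
  have := charP_res hM
  obtain ⟨hP, hD⟩ := (isMaximalBrauerPair_iff hM B P e).1 hmax
  obtain ⟨-, hB, hO⟩ := (isBrauerPairOf_iff hM B P e).1 hP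
  obtain ⟨j, f, hOf, hj, hne, hjf, hjφ⟩ := exists_local_idem hM hB hD hχ h0
  obtain ⟨n, hn, hnf⟩ := (brSetup_block hM hB).exists_conj_eq hD hOf hO
  have hnN : n ∈ Subgroup.normalizer (P : Set G) := hn.2
  have hPm : P.map (MulAut.conj n⁻¹).toMonoidHom = P := map_conj_eq_self (inv_mem hnN)
  have hfe : conjA n⁻¹ (eA hM (cz P) e) = f := by
    rw [← hnf, ← conjA_mul_left, inv_mul_cancel, conjA_one_left]
  have hx' : n⁻¹ * (x : G) * n ∈ P := by
    have h1 : n⁻¹ * (x : G) * n ∈ P.map (MulAut.conj n⁻¹).toMonoidHom := ⟨x, x.2, by simp⟩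
    rwa [hPm] at h1
  have hle' : PairLE p (Subgroup.zpowers (n⁻¹ * (x : G) * n),
      conjA n⁻¹ (eA hM (cz (Subgroup.zpowers (x : G))) b)) (P, f) := by
    have h1 := hle.conj n⁻¹
    rw [conjPair_eq_zpowers, inv_inv] at h1
    have h2 : conjPair n⁻¹ (P, eA hM (cz P) e) = (P, f) := Prod.ext hPm hfe
    rwa [h2] at h1
  obtain ⟨s, hs, hsne⟩ := exists_phi_ne_zero hM (irr_isCharacter χ) hD.pgroup hj hne hOf.block hjf
    hjφ hx' hle'
  have hmem : n * (s : G) * n⁻¹ ∈ cz (Subgroup.zpowers (x : G)) := by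
    have h1 := (commute_of_mem_cz s.2).map (MulAut.conj n).toMonoidHom
    simp only [MulEquiv.coe_toMonoidHom, MulAut.conj_apply] at h1
    rw [show n * (n⁻¹ * (x : G) * n) * n⁻¹ = x by group] at h1
    refine mem_cz.2 fun v hv => ?_
    obtain ⟨i, rfl⟩ := Subgroup.mem_zpowers_iff.1 hv
    exact (h1.zpow_left i).eq
  have hu : ∃ k : ℕ, orderOf (x : G) = p ^ k := by
    rw [Subgroup.orderOf_coe]; exact IsPGroup.iff_orderOf.1 hD.pgroup x
  refine ⟨⟨_, hmem⟩, by rwa [← Subgroup.orderOf_coe, orderOf_conj', Subgroup.orderOf_coe],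
    fun hz => hsne ?_⟩
  have h1 := phi_single_eA hM (irr_isCharacter χ) hu (s := ⟨_, hmem⟩)
    (by rwa [← Subgroup.orderOf_coe, orderOf_conj', Subgroup.orderOf_coe]) hb hz
  rw [← phi_conjA hM (irr_isCharacter χ) n⁻¹, conjA_mul] at h1
  convert h1 using 3
  rw [conjA, single_mul_single, single_mul_single, inv_inv, one_mul, one_mul]
  congr 1
  group

/-- At a central element of the defect group the block part does not vanish at `1`. -/
theorem blockPart_central_ne_zero (hmax : IsMaximalBrauerPair p M B P e) {χ : IrrCharacter G}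
    (hχ : χ ∈ B) (x : P) (hxc : (x : G) ∈ cz P)
    {b : Set (IrrCharacter (cz (Subgroup.zpowers (x : G))))} (hb : IsPBlock M b)
    (hle : PairLE p (Subgroup.zpowers (x : G), eA hM (cz (Subgroup.zpowers (x : G))) b)
      (P, eA hM (cz P) e)) :
    blockPart b (secFun (x : G) (χ : G → ℂ)) 1 ≠ 0 := by
  have := charP_res hM
  obtain ⟨hP, hD⟩ := (isMaximalBrauerPair_iff hM B P e).1 hmax
  obtain ⟨he, hB, hO⟩ := (isBrauerPairOf_iff hM B P e).1 hP
  set f := eA hM (cz (Subgroup.zpowers (x : G))) b with hf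
  set E := eG hM B with hEdef
  have hfi : IsBlockIdem (cz (Subgroup.zpowers (x : G))) f := isBlockIdem_eA hM hb
  have hE := isBlockIdem_eG hM hB
  have hQP : (Subgroup.zpowers (x : G)) ≤ P := Subgroup.zpowers_le.2 x.2
  have hQp : IsPGroup p (Subgroup.zpowers (x : G)) := hD.pgroup.to_le hQP
  have hu : ∃ k : ℕ, orderOf (x : G) = p ^ k := by
    rw [Subgroup.orderOf_coe]; exact IsPGroup.iff_orderOf.1 hD.pgroup x
  have hPC : P ≤ (cz (Subgroup.zpowers (x : G))) := fun v hv => mem_cz.2 fun w hw => by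
    obtain ⟨i, rfl⟩ := Subgroup.mem_zpowers_iff.1 hw
    exact (Commute.zpow_left (show Commute (x : G) v from (mem_cz.1 hxc v hv).symm) i).eq
  have hQC : (Subgroup.zpowers (x : G)) ≤ (cz (Subgroup.zpowers (x : G))) := hQP.trans hPC
  have hPN : P ≤ Subgroup.normalizer ((Subgroup.zpowers (x : G)) : Set G) := hPC.trans (cz_le_normalizer (Subgroup.zpowers (x : G)))
  -- the normal inclusion
  obtain ⟨f', hf'⟩ := exists_normalSub (hasBlocks hM) hQP hPN hD.pgroup hO.block
  have hff : f' = f := pairLE_unique (hasBlocks hM) (b := (P, eA hM (cz P) e)) hO.block hD.pgroup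
    (Relation.ReflTransGen.single hf') hle
  subst hff
  have hS : BrSetup p (Subgroup.zpowers (x : G)) f (cz (Subgroup.zpowers (x : G))) :=
    ⟨hQp, hfi, Subgroup.centralizer_le_normalizer _, le_rfl, hQC, hfi.fixed⟩
  have hcov : brMap (ResK M) (Subgroup.zpowers (x : G)) E * f = f :=
    (brMap_cover_iff hle hE.fixed hE.idem).2 hO.cover
  have hbr : brMap (ResK M) P f ≠ 0 := fun h0 => hf'.block_right.ne_zero (by
    rw [← hf'.cover, h0, zero_mul])
  obtain ⟨D, hDf, hPD⟩ := hS.exists_defect_ge hD.pgroup hPC hbr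
  have hEQ : brMap (ResK M) (Subgroup.zpowers (x : G)) E ∈ fixAlg (ResK M) D :=
    brMap_mem_fixAlg (hDf.le_T.trans hS.le_norm) (fixAlg_anti le_top hE.fixed)
  have hDP : D = P := by
    refine (Subgroup.eq_of_le_of_card_ge hPD ((brSetup_block hM hB).card_le_defect hD hDf.pgroup
      le_top fun h0 => hDf.br_ne ?_)).symm
    have h1 := congrArg (brMap (ResK M) D) hcov
    rw [brMap_mul hDf.pgroup hEQ (fixAlg_anti hDf.le_T hfi.fixed), brMap_brMap_of_le hDf.le,
      h0, zero_mul] at h1
    exact h1.symm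
  rw [hDP] at hDf
  intro h0
  -- the full trace is nilpotent on `B`
  obtain ⟨hω, hn⟩ := exists_omega_trace hM hB hχ (C := cz (Subgroup.zpowers (x : G))) (single (x : G) 1 * idemR hM hb)
    fun h hh => by
      refine Commute.mul_right ?_ (commute_idemR hM hb hh)
      rw [Commute, SemiconjBy, single_mul_single, single_mul_single,
        (commute_of_mem_cz hh).eq]
  have hl : resK hM ⟨_, hω⟩ = 0 := by
    rw [resK_eq_zero_iff]
    show MemLocalIdeal M (((cz (Subgroup.zpowers (x : G))).index : ℂ) * _ / _)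
    have h1 := liftVal_eA hM (irr_isCharacter χ) hu (s := (1 : (cz (Subgroup.zpowers (x : G)))))
      (by rw [orderOf_one]; exact hM.1.not_dvd_one) hb
    rw [h0, liftVal_eq hM (irr_isCharacter χ) (isPPart_sec hu (s := (1 : (cz (Subgroup.zpowers (x : G)))))
        (by rw [orderOf_one]; exact hM.1.not_dvd_one)) hfi.idem
      (commute_single_of_conjA (hfi.fixed _ (mul_mem (mem_cz_self _) (1 : (cz (Subgroup.zpowers (x : G)))).2)))
      (isIdempotentElem_idemR hM hb) (commute_idemR hM hb (mul_mem (mem_cz_self _) (1 : (cz (Subgroup.zpowers (x : G)))).2))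
      (fun y _ => by rw [red_idemR]), Subgroup.coe_one, mul_one] at h1
    rw [h1, mul_zero, zero_div]
    exact memLocalIdeal_zero hM
  rw [hl, zero_smul, sub_zero, map_mul, red_single, map_one, red_idemR] at hn
  -- the difference is nilpotent on `B`
  set W := relTr (ResK M) (cz (Subgroup.zpowers (x : G))) ⊤ ((single (x : G) 1 - 1) * f) with hW
  have hxC : single (x : G) (1 : ResK M) - 1 ∈ fixAlg (ResK M) (cz (Subgroup.zpowers (x : G))) := by
    refine sub_mem ?_ (one_mem _)
    intro v hv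
    rw [conjA, single_mul_single, single_mul_single, one_mul, one_mul,
      ← (commute_of_mem_cz hv).eq, mul_inv_cancel_right]
  have hWfix : W ∈ fixAlg (ResK M) (⊤ : Subgroup G) :=
    relTr_mem_fixAlg (mul_mem hxC hfi.fixed)
  obtain ⟨a, has, haf, hfa⟩ := hDf.inTr
  have hWnil : IsNilpotent (brMap (ResK M) P W) := by
    have hxP := fixAlg_anti hPC hxC
    have e1 : W = relTr (ResK M) P ⊤ ((single (x : G) 1 - 1) * a) := by
      rw [hW, ← hfa, relTr_mul_left hxC, relTr_relTr hPC le_top (mul_mem hxP haf)]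
    have hxs : single (x : G) (1 : ResK M) - 1 ∈ suppAlg (ResK M) (cz P) :=
      sub_mem (single_mem_suppAlg hxc _) (one_mem _)
    rw [e1, brMap_relTr_self hD.pgroup le_top (mul_mem hxP haf), brMap_mul hD.pgroup hxP haf,
      brMap_eq_self hxs, relTr_eq_sum]
    set N := (⊤ : Subgroup G) ⊓ Subgroup.normalizer (P : Set G) with hN
    have hmem : ∀ (q : N ⧸ P.subgroupOf N) (y : MonoidAlgebra (ResK M) G),
        y ∈ suppAlg (ResK M) (cz P) → conjA ((q.out : N) : G) y ∈ suppAlg (ResK M) (cz P) :=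
      fun q y hy => by
        have h1 := conjA_mem_suppAlg hy ((q.out : N) : G)
        rwa [map_conj_eq_self (normalizer_le_normalizer_cz P (q.out).2.2)] at h1
    have hnil := isNilpotent_sum_central (A := suppAlg (ResK M) (cz P)) Finset.univ
      (fun q : N ⧸ P.subgroupOf N => ⟨_, hmem q _ hxs⟩)
      (fun q => ⟨_, hmem q _ (brMap_mem_suppAlg P a)⟩)
      (fun q _ => by
        obtain ⟨n, hn⟩ := isNilpotent_single_sub_one (k := ResK M) hu
        refine ⟨n, Subtype.ext ?_⟩
        show (conjHom ((q.out : N) : G) (single (x : G) (1 : ResK M) - 1)) ^ n = 0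
        rw [← map_pow, hn, map_zero])
      (fun q _ y => Subtype.ext (commute_of_supp_fix y.2 (by
        intro v hv
        set g := ((q.out : N) : G) with hg
        rw [← conjA_mul_left, show v * g = g * (g⁻¹ * v * g) by group, conjA_mul_left]
        congr 1
        have hv' : g⁻¹ * v * g ∈ cz P := by
          have hn' := normalizer_le_normalizer_cz P (inv_mem (q.out).2.2)
          simpa using (Subgroup.mem_normalizer_iff.1 hn' v).1 hv
        show conjHom (g⁻¹ * v * g) (single (x : G) (1 : ResK M) - 1) = _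
        rw [map_sub, map_one]
        congr 1
        show conjA (g⁻¹ * v * g) (single (x : G) (1 : ResK M)) = _
        rw [conjA, single_mul_single, single_mul_single, one_mul, one_mul,
          ← (mem_cz.1 hv' x x.2), mul_inv_cancel_right])).eq.symm)
    have h2 := hnil.map (suppAlg (ResK M) (cz P)).val
    rw [map_sum] at h2
    simp only [conjA_mul]
    exact h2
  obtain ⟨d, hd⟩ := (brSetup_block (p := p) hM hB).locally_fixed
    (by rw [cz_bot]; exact mem_suppAlg_top _) hWfix
  have hd0 : d = 0 := by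
    by_contra hd0
    refine hD.br_ne (eq_zero_of_nilpotent_idem ?_
      (by rw [← brMap_mul hD.pgroup (fixAlg_anti le_top hE.fixed) (fixAlg_anti le_top hE.fixed),
        hE.idem]))
    obtain ⟨n, hnd⟩ := hd
    have hEP : E ∈ fixAlg (ResK M) P := fixAlg_anti le_top hE.fixed
    have hWP : W ∈ fixAlg (ResK M) P := fixAlg_anti le_top hWfix
    have h1 : IsNilpotent (brMap (ResK M) P (W * E - d • E)) := ⟨n, by
      rw [← brMap_pow hD.pgroup (sub_mem (mul_mem hWP hEP) (Subalgebra.smul_mem _ hEP d)), hnd,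
        map_zero]⟩
    rw [map_sub, map_smul, brMap_mul hD.pgroup hWP hEP] at h1
    have hcm : Commute (brMap (ResK M) P W) (brMap (ResK M) P E) := commute_of_supp_fix
      (brMap_mem_suppAlg P W) (brMap_mem_fixAlg (cz_le_normalizer P) (fixAlg_anti le_top hE.fixed))
    obtain ⟨m, hm⟩ := hWnil
    have h2 : IsNilpotent (brMap (ResK M) P W * brMap (ResK M) P E) :=
      ⟨m, by rw [hcm.mul_pow, hm, zero_mul]⟩
    have hc2 : Commute (brMap (ResK M) P W * brMap (ResK M) P E)
        (brMap (ResK M) P W * brMap (ResK M) P E - d • brMap (ResK M) P E) :=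
      (Commute.refl _).sub_right ((hcm.mul_left (Commute.refl _)).smul_right d)
    have h3 := hc2.isNilpotent_sub h2 h1
    rw [sub_sub_cancel] at h3
    have h4 := h3.smul d⁻¹
    rwa [smul_smul, inv_mul_cancel₀ hd0, one_smul] at h4
  rw [hd0, zero_smul, sub_zero] at hd
  refine not_isNilpotent_trace (hasBlocks hM) (brSetup_block hM hB) hS hcov hDf hD le_rfl ?_
  have e2 : relTr (ResK M) (cz (Subgroup.zpowers (x : G))) ⊤ f * E = relTr (ResK M) (cz (Subgroup.zpowers (x : G))) ⊤ (single (x : G) 1 * f) * E - W * E := by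
    rw [eq_sub_iff_add_eq, ← add_mul, hW, ← relTr_add, sub_mul, one_mul, add_sub_cancel]
  rw [e2]
  exact (commute_of_supp_fix (mem_suppAlg_top _)
    (mul_mem hWfix hE.fixed)).isNilpotent_sub hn hd

end CfsgLib.BPStar
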