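import Cfsg.Agent.Lib.BPStar.Weights
import Cfsg.Agent.Lib.Blocks.SectionNorm
import Cfsg.Agent.Lib.Blk7.SubsectionSq

/-!
# The values of the twisted sum as block parts on the sections
-/

set_option autoImplicit false
set_option linter.unusedSectionVars false

namespace CfsgLib.BPStar

open Cfsg MonoidAlgebra CfsgLib.Blocks CfsgLib.BrauerPairs CfsgLib.Characters
open scoped Classical ComplexConjugate

universe u

variable {p : ℕ} [Fact p.Prime] {M : Ideal AlgInt} [M.IsMaximal]
variable {G : Type u} [Group G] [Fintype G]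

/-- A function on `G` on the section of `u`. -/
def secFun (u : G) (χ : G → ℂ) : cz (Subgroup.zpowers u) → ℂ := fun c => χ (u * (c : G))

theorem commute_of_mem_cz {u c : G} (hc : c ∈ cz (Subgroup.zpowers u)) : Commute u c :=
  mem_cz.1 hc u (Subgroup.mem_zpowers u)

theorem isClassFunction_secFun {χ : G → ℂ} (hχ : IsClassFunction G χ) (u : G) :
    IsClassFunction (cz (Subgroup.zpowers u)) (secFun u χ) := by
  intro g h
  have h1 := commute_of_mem_cz h.2
  simp only [secFun, Subgroup.coe_mul, Subgroup.coe_inv]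
  rw [show u * ((h : G) * g * (h : G)⁻¹) = (h : G) * (u * g) * (h : G)⁻¹ by
    rw [← mul_assoc, ← mul_assoc, h1.eq, mul_assoc (h : G)]]
  exact hχ _ _

/-- The blocks of a group as a finite set. -/
noncomputable def blockSets (M : Ideal AlgInt) (H : Type*) [Group H] [Finite H] :
    Finset (Set (IrrCharacter H)) :=
  haveI := Fintype.ofFinite H
  Finset.univ.filter fun b => IsPBlock M b

theorem mem_blockSets {H : Type*} [Group H] [Finite H] {b : Set (IrrCharacter H)} :
    b ∈ blockSets M H ↔ IsPBlock M b := by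
  simp [blockSets]

theorem blockSets_transfer (hM : IsPModular p M) {M' : Ideal AlgInt} [M'.IsMaximal] (hM' : IsPModular p M')
    (H : Type u) [Group H] [Fintype H] : blockSets M' H = blockSets M H := by
  ext b
  rw [mem_blockSets, mem_blockSets]
  exact ⟨isPBlock_transfer hM' hM, isPBlock_transfer hM hM'⟩

theorem sum_blockSets (hM : IsPModular p M) {H : Type*} [Group H] [Fintype H]
    (f : IrrCharacter H → ℂ) :
    ∑ b ∈ blockSets M H, ∑ ξ ∈ Finset.univ.filter (· ∈ b), f ξ = ∑ ξ, f ξ := by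
  rw [← Finset.sum_fiberwise_of_maps_to (g := fun ξ : IrrCharacter H => blockOf M (ξ : H → ℂ))
    (t := blockSets M H) (s := Finset.univ) fun ξ _ => mem_blockSets.2 (isPBlock_blockOf ξ)]
  refine Finset.sum_congr rfl fun b hb => Finset.sum_congr ?_ fun _ _ => rfl
  ext ξ
  simp only [Finset.mem_filter, Finset.mem_univ, true_and]
  constructor
  · intro h
    exact (IsPBlock.eq_blockOf hM (mem_blockSets.1 hb) h).symm
  · rintro rfl
    exact mem_blockOf_self hM ξ

theorem sum_blockPart (hM : IsPModular p M) {H : Type*} [Group H] [Fintype H] {ϑ : H → ℂ}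
    (hϑ : IsClassFunction H ϑ) (y : H) :
    ∑ b ∈ blockSets M H, blockPart b ϑ y = ϑ y := by
  simp only [blockPart_eq_sum]
  rw [sum_blockSets hM]
  conv_rhs => rw [classFunction_eq_sum hϑ]
  simp

theorem blockPart_blockPart (hM : IsPModular p M) {H : Type u} [Group H] [Fintype H]
    {b b' : Set (IrrCharacter H)} (hb : IsPBlock M b) (hb' : IsPBlock M b') (ϑ : H → ℂ) (y : H) :
    blockPart b (fun c => blockPart b' ϑ c) y = if b = b' then blockPart b ϑ y else 0 := by
  have e : (fun c => blockPart b' ϑ c) = fun c => ∑ ξ : IrrCharacter H,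
      (if ξ ∈ b' then classInner ϑ (ξ : H → ℂ) else 0) * (ξ : H → ℂ) c := by
    funext c
    rw [blockPart_eq_sum, Finset.sum_filter]
    exact Finset.sum_congr rfl fun ξ _ => by split_ifs <;> simp
  rw [e, blockPart_linear]
  simp only [blockPart_irr]
  split_ifs with h
  · subst h
    rw [blockPart_eq_sum, Finset.sum_filter]
    exact Finset.sum_congr rfl fun ξ _ => by split_ifs <;> simp
  · refine Finset.sum_eq_zero fun ξ _ => ?_
    split_ifs with h1 h2 <;> first | (simp; done) | skip
    exact absurd ((IsPBlock.eq_blockOf hM hb h2).trans (IsPBlock.eq_blockOf hM hb' h1).symm) h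

variable (hM : IsPModular p M)

theorem sum_blocksAt_eq (u : G) (F : MonoidAlgebra (ResK M) G → ℂ) :
    ∑ b ∈ blocksAt hM u, F b =
      ∑ b ∈ blockSets M (cz (Subgroup.zpowers u)), F (eA hM (cz (Subgroup.zpowers u)) b) := by
  symm
  refine Finset.sum_nbij (fun b => eA hM (cz (Subgroup.zpowers u)) b)
    (fun b hb => (mem_blocksAt_iff hM).2 (isBlockIdem_eA hM (mem_blockSets.1 hb)))
    (fun b hb b' hb' h => eA_inj hM (mem_blockSets.1 (Finset.mem_coe.1 hb))
      (mem_blockSets.1 (Finset.mem_coe.1 hb')) h)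
    (fun b hb => ?_) fun b _ => rfl
  obtain ⟨f, hf, hfb⟩ := exists_eA_eq hM ((mem_blocksAt_iff hM).1 (Finset.mem_coe.1 hb))
  exact ⟨f, Finset.mem_coe.2 (mem_blockSets.2 hf), hfb⟩

/-- The idempotent of a set of characters of `K` with local integral coefficients. -/
noncomputable def idemR {K : Subgroup G} {b : Set (IrrCharacter K)} (hb : IsPBlock M b) :
    MonoidAlgebra (lRing hM) G :=
  Blocks.ofFun fun g => ⟨subgroupBlockCoeff K b g, subgroupBlockCoeff_mem hM hb g⟩

theorem red_idemR {K : Subgroup G} {b : Set (IrrCharacter K)} (hb : IsPBlock M b) :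
    red hM (idemR hM hb) = eA hM K b := by
  ext g
  rw [coeff_red, eA, coeff_redFun hM (subgroupBlockCoeff_mem hM hb g), idemR, Blocks.coeff_ofFun]

theorem inc_idemR {K : Subgroup G} {b : Set (IrrCharacter K)} (hb : IsPBlock M b) :
    inc hM (idemR hM hb) = inclA ℂ K (blockIdem b) := by
  ext g
  rw [coeff_inc, idemR, Blocks.coeff_ofFun]
  by_cases hg : g ∈ K
  · rw [show (inclA ℂ K (blockIdem b)).coeff g = (blockIdem b).coeff ⟨g, hg⟩ from
      coeff_inclA _ ⟨g, hg⟩, blockIdem, Blocks.coeff_ofFun]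
    exact subgroupBlockCoeff_coe K b ⟨g, hg⟩
  · rw [coeff_inclA_of_notMem _ hg]
    exact subgroupBlockCoeff_notMem b hg

theorem inc_injective : Function.Injective (inc (G := G) hM) := fun a b h => by
  ext g
  rw [← coeff_inc, ← coeff_inc, h]

theorem isIdempotentElem_idemR {K : Subgroup G} {b : Set (IrrCharacter K)} (hb : IsPBlock M b) :
    IsIdempotentElem (idemR hM hb) := by
  apply inc_injective hM
  rw [map_mul, inc_idemR, ← map_mul, (isIdempotentElem_blockIdem b).eq]

theorem commute_idemR {K : Subgroup G} {b : Set (IrrCharacter K)} (hb : IsPBlock M b) {h : G}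
    (hh : h ∈ K) : Commute (single h 1) (idemR hM hb) := by
  rw [commute_single_iff]
  intro x
  rw [idemR, Blocks.coeff_ofFun, Blocks.coeff_ofFun]
  exact Subtype.ext (subgroupBlockCoeff_conj K b hh x)

variable {χ : G → ℂ}

theorem mem_cz_self (u : G) : u ∈ cz (Subgroup.zpowers u) := mem_cz.2 fun v hv => by
  obtain ⟨j, rfl⟩ := Subgroup.mem_zpowers_iff.1 hv
  exact ((Commute.refl u).zpow_left j).eq

theorem isPPart_sec {u : G} (hu : ∃ k : ℕ, orderOf u = p ^ k) {s : cz (Subgroup.zpowers u)}
    (hs : ¬ p ∣ orderOf s) : IsPPart p (u * (s : G)) u :=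
  isPPart_mul (commute_of_mem_cz s.2) hu (by rwa [Subgroup.orderOf_coe])

/-- The lifted value at a block idempotent of the centraliser is the block part. -/
theorem liftVal_eA (hχ : IsCharacter G χ) {u : G} (hu : ∃ k : ℕ, orderOf u = p ^ k)
    {s : cz (Subgroup.zpowers u)} (hs : ¬ p ∣ orderOf s)
    {b : Set (IrrCharacter (cz (Subgroup.zpowers u)))} (hb : IsPBlock M b) :
    liftVal hM χ (u * (s : G)) (eA hM (cz (Subgroup.zpowers u)) b) =
      blockPart b (secFun u χ) s := by
  have hcl := isClassFunction_of_isCharacter hχ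
  have hus : u * (s : G) ∈ cz (Subgroup.zpowers u) := mul_mem (mem_cz_self u) s.2
  have hbi := isBlockIdem_eA hM hb
  rw [liftVal_eq hM hχ (isPPart_sec hu hs) hbi.idem
    (commute_single_of_conjA (hbi.fixed _ hus)) (isIdempotentElem_idemR hM hb)
    (commute_idemR hM hb hus) (fun x _ => by rw [red_idemR]),
    ← sum_blockCoeff_mul_eq_blockPart b (isClassFunction_secFun hcl u) s, trR, map_mul,
    inc_single, inc_idemR]
  have hexp : inclA ℂ (cz (Subgroup.zpowers u)) (blockIdem b) =
      ∑ k : cz (Subgroup.zpowers u), single (k : G) (blockCoeff b k) := by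
    conv_lhs => rw [eq_sum_single (blockIdem b), map_sum]
    refine Finset.sum_congr rfl fun k _ => ?_
    rw [blockIdem, Blocks.coeff_ofFun]
    ext g
    by_cases hg : g ∈ cz (Subgroup.zpowers u)
    · rw [show g = ((⟨g, hg⟩ : cz (Subgroup.zpowers u)) : G) from rfl, coeff_inclA]
      simp [coeff_single, Finsupp.single_apply, Subtype.ext_iff]
    · rw [coeff_inclA_of_notMem _ hg, coeff_single, Finsupp.single_apply, if_neg]
      intro h
      exact hg (h ▸ k.2)
  rw [hexp, Finset.mul_sum, map_sum]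
  refine Finset.sum_congr rfl fun k _ => ?_
  rw [single_mul_single, trC_single, secFun, Subgroup.coe_mul, show ((1 : lRing hM) : ℂ) = 1 from rfl,
    one_mul]
  congr 1
  rw [← hcl ((u : G) * s * k) k]
  congr 1
  rw [← mul_assoc (k : G) (u * s), ← mul_assoc (k : G) u, ← (commute_of_mem_cz k.2).eq]
  group

variable {B : Set (IrrCharacter G)}

theorem eA_top_eq_eG (hB : IsPBlock M B) :
    ∃ Z : MonoidAlgebra (lRing hM) G, IsIdempotentElem Z ∧ red hM Z = eG hM B ∧
      (∀ g : G, Commute (single g 1) Z) ∧ inc hM Z = blockIdem B := by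
  let Z : MonoidAlgebra (lRing hM) G :=
    Blocks.ofFun fun g => ⟨blockCoeff B g, blockCoeff_mem hM hB g⟩
  have hinc : inc hM Z = blockIdem B := by
    ext g
    rw [coeff_inc, blockIdem]
    simp [Z]
  refine ⟨Z, inc_injective hM ?_, ?_, fun g => ?_, hinc⟩
  · rw [map_mul, hinc, (isIdempotentElem_blockIdem B).eq]
  · ext g
    rw [coeff_red, eG, coeff_redFun hM (blockCoeff_mem hM hB g)]
    simp [Z]
  · rw [commute_single_iff]
    intro x
    simp only [Z, Blocks.coeff_ofFun]
    exact Subtype.ext (BrauerPairs.blockCoeff_conj B g x)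

theorem trC_blockIdem_mul {χ : IrrCharacter G} (hχ : χ ∈ B) (y : MonoidAlgebra ℂ G) :
    trC (χ : G → ℂ) (blockIdem B * y) = trC (χ : G → ℂ) y := by
  have h := omega_mul χ (blockIdem_mem_center B) y
  rw [omega_blockIdem, if_pos hχ, one_mul, omega_apply, omega_apply,
    div_left_inj' (irr_one_ne_zero χ)] at h
  exact h

/-- Only the pieces covered by `B` contribute. -/
theorem liftVal_br_mul (hB : IsPBlock M B) {χ : IrrCharacter G} (hχ : χ ∈ B) {u h : G}
    (hh : IsPPart p h u) (hu : IsPGroup p (Subgroup.zpowers u))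
    {f : MonoidAlgebra (ResK M) G} (hf : IsBlockIdem (cz (Subgroup.zpowers u)) f)
    (hhc : h ∈ cz (Subgroup.zpowers u)) :
    liftVal hM (χ : G → ℂ) h (brMap (ResK M) (Subgroup.zpowers u) (eG hM B) * f) =
      liftVal hM (χ : G → ℂ) h f := by
  have := charP_res hM
  have hfh : Commute (single h 1) f := commute_single_of_conjA (hf.fixed h hhc)
  have hE := isBlockIdem_eG hM hB
  have hEu : eG hM B ∈ fixAlg (ResK M) (Subgroup.zpowers u) := fixAlg_anti le_top hE.fixed
  have hidem : brMap (ResK M) (Subgroup.zpowers u) (eG hM B) *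
      brMap (ResK M) (Subgroup.zpowers u) (eG hM B) =
      brMap (ResK M) (Subgroup.zpowers u) (eG hM B) := by
    rw [← brMap_mul hu hEu hEu, hE.idem]
  rcases hf.mul_idem (brMap_mem_suppAlg _ _)
      (brMap_mem_fixAlg (cz_le_normalizer _) (fixAlg_anti le_top hE.fixed)) hidem with h0 | h1
  swap
  · rw [h1]
  rw [h0, liftVal_zero hM (irr_isCharacter χ) hh]
  symm
  obtain ⟨Z, hZ, hZr, hZc, hZi⟩ := eA_top_eq_eG hM hB
  obtain ⟨E₀, hE₀, hE₀r, hE₀c⟩ := exists_idem_lift hM (show IsIdempotentElem f from hf.idem)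
  have hZE : Commute Z E₀ := by
    rw [eq_sum_single E₀]
    refine Commute.sum_right _ _ _ fun g _ => ?_
    have e : single g (E₀.coeff g) = (E₀.coeff g) • single g (1 : lRing hM) := by simp
    rw [e]
    exact (hZc g).symm.smul_right _
  have hI : IsIdempotentElem ((1 - Z) * E₀) :=
    hZ.one_sub.mul_of_commute ((Commute.one_left _).sub_left hZE) hE₀
  have hC : Commute (single h 1) ((1 - Z) * E₀) :=
    ((Commute.one_right _).sub_right (hZc h)).mul_right (hE₀c h hfh)
  rw [liftVal_eq hM (irr_isCharacter χ) hh hf.idem hfh hI hC fun x hx => ?_]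
  · rw [← mul_assoc, ((Commute.one_right _).sub_right (hZc h)).eq, mul_assoc, sub_mul, one_mul,
      trR, map_sub, map_mul _ Z, hZi, map_sub, trC_blockIdem_mul hχ, sub_self]
  · have hx' : x ∈ cz (Subgroup.zpowers u) := by rwa [cz_zpowers]
    rw [← coeff_brMap_of_mem _ hx', map_mul, map_sub, map_one, hZr, hE₀r,
      brMap_mul hu (sub_mem (one_mem _) hEu) (fixed_of_supp_cz hf.supp), brMap_eq_self hf.supp,
      map_sub, brMap_one, sub_mul, one_mul, h0, sub_zero]

variable {P : Subgroup G} {e : Set (IrrCharacter (Subgroup.centralizer (P : Set G)))}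
  {lam : P →* ℂˣ}

/-- The twisted value as a combination of block parts. -/
theorem twistVal_eq_sum (hB : IsPBlock M B) {χ : IrrCharacter G} (hχ : χ ∈ B) {u : G}
    (hu : ∃ k : ℕ, orderOf u = p ^ k) {s : cz (Subgroup.zpowers u)} (hs : ¬ p ∣ orderOf s)
    (Λ : G → MonoidAlgebra (ResK M) G → ℂ) :
    twistVal hM Λ (χ : G → ℂ) (s : G) (eG hM B) u =
      ∑ b ∈ blockSets M (cz (Subgroup.zpowers u)),
        Λ u (eA hM (cz (Subgroup.zpowers u)) b) * blockPart b (secFun u (χ : G → ℂ)) s := by
  rw [twistVal, sum_blocksAt_eq hM u]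
  refine Finset.sum_congr rfl fun b hb => ?_
  have hb' := mem_blockSets.1 hb
  have hup : IsPGroup p (Subgroup.zpowers u) := by
    obtain ⟨k, hk⟩ := hu
    exact IsPGroup.of_card (by rw [Nat.card_zpowers, hk])
  rw [liftVal_br_mul hM hB hχ (isPPart_sec hu hs) hup (isBlockIdem_eA hM hb')
      (mul_mem (mem_cz_self u) s.2),
    liftVal_eA hM (irr_isCharacter χ) hu hs hb']

/-- Block parts of uncovered blocks vanish. -/
theorem blockPart_secFun_eq_zero (hB : IsPBlock M B) {χ : IrrCharacter G} (hχ : χ ∈ B) {u : G}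
    (hu : ∃ k : ℕ, orderOf u = p ^ k) {s : cz (Subgroup.zpowers u)} (hs : ¬ p ∣ orderOf s)
    {b : Set (IrrCharacter (cz (Subgroup.zpowers u)))} (hb : IsPBlock M b)
    (hcov : ¬ brMap (ResK M) (Subgroup.zpowers u) (eG hM B) * eA hM (cz (Subgroup.zpowers u)) b =
      eA hM (cz (Subgroup.zpowers u)) b) :
    blockPart b (secFun u (χ : G → ℂ)) s = 0 := by
  have := charP_res hM
  have hup : IsPGroup p (Subgroup.zpowers u) := by
    obtain ⟨k, hk⟩ := hu
    exact IsPGroup.of_card (by rw [Nat.card_zpowers, hk])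
  have hE := isBlockIdem_eG hM hB
  have hEu : eG hM B ∈ fixAlg (ResK M) (Subgroup.zpowers u) := fixAlg_anti le_top hE.fixed
  have hbi := isBlockIdem_eA hM hb
  have h0 := (hbi.mul_idem (brMap_mem_suppAlg _ _)
      (brMap_mem_fixAlg (cz_le_normalizer _) (fixAlg_anti le_top hE.fixed))
      (by rw [← brMap_mul hup hEu hEu, hE.idem])).resolve_right hcov
  rw [← liftVal_eA hM (irr_isCharacter χ) hu hs hb,
    ← liftVal_br_mul hM hB hχ (isPPart_sec hu hs) hup hbi (mul_mem (mem_cz_self u) s.2), h0,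
    liftVal_zero hM (irr_isCharacter χ) (isPPart_sec hu hs)]

end CfsgLib.BPStar
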