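import Mathlib.FieldTheory.IsAlgClosed.Basic
import Mathlib.FieldTheory.Minpoly.Field
import Mathlib.LinearAlgebra.Trace
import Mathlib.LinearAlgebra.FiniteDimensional.Basic
import Mathlib.LinearAlgebra.Isomorphisms
import Mathlib.RingTheory.Artinian.Module
import Mathlib.Algebra.CharP.Basic
import Mathlib.Algebra.Field.ZMod
import Mathlib.RingTheory.Coprime.Lemmas

/-!
# Primitive idempotents of a finite dimensional algebra

Locality of primitive corners, simple modules attached to primitive idempotents, and the
divisibility by `p` of an additive invariant on an idempotent that is a full trace over an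
automorphism of order `p`.
-/

set_option autoImplicit false
set_option linter.unusedSectionVars false

namespace CfsgLib.BPStar

open Polynomial

variable {k A : Type*} [Field k] [Ring A] [Algebra k A] [FiniteDimensional k A]

/-- A primitive idempotent. -/
structure IsPrim (i : A) : Prop where
  idem : IsIdempotentElem i
  ne_zero : i ≠ 0
  prim : ∀ j : A, IsIdempotentElem j → i * j = j → j * i = j → j = 0 ∨ j = i

/-- Equivalence of idempotents. -/
def Eqv (a b : A) : Prop := ∃ x y : A, x * y = a ∧ y * x = b

theorem Eqv.symm {a b : A} (h : Eqv a b) : Eqv b a := by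
  obtain ⟨x, y, h1, h2⟩ := h
  exact ⟨y, x, h2, h1⟩

theorem Eqv.refl {a : A} (ha : IsIdempotentElem a) : Eqv a a := ⟨a, a, ha.eq, ha.eq⟩

theorem Eqv.trans {a b c : A} (ha : IsIdempotentElem a) (hc : IsIdempotentElem c) (h : Eqv a b)
    (h' : Eqv b c) : Eqv a c := by
  obtain ⟨x, y, rfl, rfl⟩ := h
  obtain ⟨x', y', h1, rfl⟩ := h'
  refine ⟨x * x', y' * y, ?_, ?_⟩
  · rw [show x * x' * (y' * y) = x * (x' * y') * y from by simp only [mul_assoc], h1,
      show x * (y * x) * y = (x * y) * (x * y) from by simp only [mul_assoc], ha.eq]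
  · rw [show y' * y * (x * x') = y' * (y * x) * x' from by simp only [mul_assoc], ← h1,
      show y' * (x' * y') * x' = (y' * x') * (y' * x') from by simp only [mul_assoc], hc.eq]

variable (k) in
include k in
/-- The corner of a primitive idempotent is local. -/
theorem IsPrim.local' {i : A} (hi : IsPrim i) {z : A} (h1 : i * z = z) (h2 : z * i = z) :
    IsNilpotent z ∨ ∃ w : A, i * w = w ∧ w * i = w ∧ z * w = i ∧ w * z = i := by
  set P := minpoly k z with hP
  obtain ⟨Q, hQ, hndvd⟩ := exists_eq_pow_rootMultiplicity_mul_and_not_dvd P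
    (minpoly.ne_zero (IsIntegral.of_finite k z)) 0
  rw [C_0, sub_zero] at hQ hndvd
  set m := rootMultiplicity 0 P
  have hcop : IsCoprime (X ^ (m + 1)) Q := (irreducible_X.coprime_iff_not_dvd.2 hndvd).pow_left
  obtain ⟨v, u, huv⟩ := hcop
  have h0 : aeval z (X ^ (m + 1) * Q) = 0 := by
    rw [show (X : k[X]) ^ (m + 1) * Q = X * P by rw [hQ]; ring, map_mul, hP, minpoly.aeval,
      mul_zero]
  set j := aeval z (v * X ^ (m + 1)) with hj
  have hjj : IsIdempotentElem j := by
    have e : v * X ^ (m + 1) * (v * X ^ (m + 1)) =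
        v * X ^ (m + 1) - X ^ (m + 1) * Q * (u * v) := by
      linear_combination (v * X ^ (m + 1)) * huv
    rw [IsIdempotentElem, hj, ← map_mul, e, map_sub, map_mul (aeval z) (X ^ (m + 1) * Q), h0,
      zero_mul, sub_zero]
  have hji : j * i = j := by
    rw [hj, map_mul, map_pow, aeval_X, pow_succ, mul_assoc, mul_assoc, h2]
  have hij : i * j = j := by
    rw [hj, mul_comm v, map_mul, map_pow, aeval_X, pow_succ', ← mul_assoc, ← mul_assoc, h1]
  rcases hi.prim j hjj hij hji with hz | hz
  · refine Or.inl ⟨m + 1, ?_⟩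
    have e : (X : k[X]) ^ (m + 1) = X ^ (m + 1) * (v * X ^ (m + 1)) + X ^ (m + 1) * Q * u := by
      linear_combination (X : k[X]) ^ (m + 1) * (-huv)
    rw [← aeval_X_pow (R := k), e, map_add, map_mul, map_mul (aeval z) (X ^ (m + 1) * Q), h0,
      zero_mul, ← hj, hz, mul_zero, add_zero]
  · have hzi : Commute z i := by rw [Commute, SemiconjBy, h1, h2]
    set y := aeval z (v * X ^ m) with hy
    have hzy : z * y = i := by
      have e := congrArg (aeval z) (show X * (v * X ^ m) = v * X ^ (m + 1) by ring)
      rw [map_mul, aeval_X] at e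
      exact e.trans (hj.symm.trans hz)
    have hyz : y * z = i := by
      have e := congrArg (aeval z) (show v * X ^ m * X = v * X ^ (m + 1) by ring)
      rw [map_mul, aeval_X] at e
      exact e.trans (hj.symm.trans hz)
    refine Or.inr ⟨i * y * i, ?_, ?_, ?_, ?_⟩
    · rw [← mul_assoc, ← mul_assoc, hi.idem.eq]
    · rw [mul_assoc, hi.idem.eq]
    · rw [← mul_assoc, ← mul_assoc, h2, hzy, hi.idem.eq]
    · rw [mul_assoc, h1, mul_assoc, hyz, hi.idem.eq]

/-- A nilpotent corner element has no corner multiple equal to the idempotent. -/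
theorem not_leftInv_of_nilpotent {i : A} (hi0 : i ≠ 0) {a L : A} (ha : IsNilpotent a)
    (h1 : i * a = a) (hL : L * a = i) : False := by
  obtain ⟨n, hn⟩ := ha
  have key : ∀ m : ℕ, a ^ (m + 1) = 0 → i = 0 := by
    intro m
    induction m with
    | zero => intro h; rw [pow_one] at h; rw [← hL, h, mul_zero]
    | succ m ih =>
      intro h
      refine ih ?_
      calc a ^ (m + 1) = i * a * a ^ m := by rw [h1, pow_succ']
        _ = L * (a ^ (m + 1 + 1)) := by rw [← hL, pow_succ', pow_succ', mul_assoc, mul_assoc]
        _ = 0 := by rw [h, mul_zero]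
  cases n with
  | zero => exact hi0 (by rw [← hL, show a = a * a ^ 0 by rw [pow_zero, mul_one], hn, mul_zero, mul_zero])
  | succ m => exact hi0 (key m hn)

variable (k) in
include k in
/-- In a local corner, if a sum equals the idempotent then a summand is invertible. -/
theorem IsPrim.exists_unit_of_sum {i : A} (hi : IsPrim i) {ι : Type*} (s : Finset ι) (f : ι → A)
    (hf1 : ∀ x ∈ s, i * f x = f x) (hf2 : ∀ x ∈ s, f x * i = f x) (hsum : ∑ x ∈ s, f x = i) :
    ∃ x ∈ s, ∃ w : A, i * w = w ∧ w * i = w ∧ f x * w = i ∧ w * f x = i := by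
  classical
  by_contra hcon
  have key : ∀ t ⊆ s, IsNilpotent (∑ x ∈ t, f x) := by
    intro t
    induction t using Finset.induction with
    | empty => intro _; simp
    | insert a t hat ih =>
      intro hts
      have hat' := hts (Finset.mem_insert_self a t)
      have hts' : t ⊆ s := fun x hx => hts (Finset.mem_insert_of_mem hx)
      rw [Finset.sum_insert hat]
      set b := ∑ x ∈ t, f x
      have hb1 : i * b = b := by
        rw [Finset.mul_sum]; exact Finset.sum_congr rfl fun x hx => hf1 x (hts' hx)
      have hb2 : b * i = b := by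
        rw [Finset.sum_mul]; exact Finset.sum_congr rfl fun x hx => hf2 x (hts' hx)
      have ha : IsNilpotent (f a) := (hi.local' k (hf1 a hat') (hf2 a hat')).resolve_right
        fun ⟨w, hw⟩ => hcon ⟨a, hat', w, hw⟩
      refine (hi.local' k (z := f a + b) (by rw [mul_add, hf1 a hat', hb1])
        (by rw [add_mul, hf2 a hat', hb2])).resolve_right ?_
      rintro ⟨w, hw1, hw2, -, hw⟩
      rw [mul_add] at hw
      rcases hi.local' k (z := w * b) (by rw [← mul_assoc, hw1]) (by rw [mul_assoc, hb2]) with
        hn | ⟨L, -, -, -, hL⟩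
      · have hwa : w * f a = i - w * b := eq_sub_of_add_eq hw
        obtain ⟨N, hN⟩ := hn
        refine not_leftInv_of_nilpotent hi.ne_zero ha (hf1 a hat') (L := ((∑ l ∈ Finset.range (N + 1), (w * b) ^ l) * i) * w) ?_
        rw [mul_assoc, hwa, mul_assoc, mul_sub, hi.idem.eq,
          ← mul_assoc i w, hw1]
        have hg := geom_sum_mul_neg (w * b) (N + 1)
        have hwb : i * (w * b) = w * b := by rw [← mul_assoc, hw1]
        rw [show (∑ l ∈ Finset.range (N + 1), (w * b) ^ l) * (i - w * b) =
          ((∑ l ∈ Finset.range (N + 1), (w * b) ^ l) * (1 - w * b)) * i by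
            rw [mul_assoc, sub_mul, one_mul, mul_assoc w b i, hb2], hg, pow_succ, hN, zero_mul,
          sub_zero, one_mul]
      · exact not_leftInv_of_nilpotent hi.ne_zero (ih hts') hb1 (L := L * w) (by rw [mul_assoc, hL])
  have := key s subset_rfl
  rw [hsum] at this
  obtain ⟨n, hn⟩ := this
  cases n with
  | zero => exact hi.ne_zero (by rw [← mul_one i, ← pow_zero i, hn, mul_zero])
  | succ m => exact hi.ne_zero (by rw [← hi.idem.pow_succ_eq m]; exact hn)

variable (k) in
include k in
/-- Every idempotent is a sum of orthogonal primitive idempotents below it. -/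
theorem exists_prim_decomp {i : A} (hi : IsIdempotentElem i) :
    ∃ J : Finset A, (∀ j ∈ J, IsPrim j ∧ i * j = j ∧ j * i = j) ∧
      (∀ j ∈ J, ∀ j' ∈ J, j ≠ j' → j * j' = 0) ∧ ∑ j ∈ J, j = i := by
  classical
  let L : A → (A →ₗ[k] A) := fun e => (LinearMap.mulLeft k e).comp (LinearMap.mulRight k e)
  induction hn : Module.finrank k (LinearMap.range (L i)) using Nat.strong_induction_on generalizing i with
  | _ n ih =>
    by_cases h0 : i = 0
    · exact ⟨∅, by simp, by simp, by simp [h0]⟩
    by_cases hp : ∀ j : A, IsIdempotentElem j → i * j = j → j * i = j → j = 0 ∨ j = i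
    · exact ⟨{i}, fun j hj => by
        rw [Finset.mem_singleton.1 hj]; exact ⟨⟨hi, h0, hp⟩, hi.eq, hi.eq⟩,
        fun j hj j' hj' hne => absurd ((Finset.mem_singleton.1 hj).trans (Finset.mem_singleton.1 hj').symm) hne,
        by simp⟩
    simp only [not_forall, not_or] at hp
    obtain ⟨j, hj, hij, hji, hj0, hji'⟩ := hp
    have hlt : ∀ e : A, IsIdempotentElem e → i * e = e → e * i = e → e ≠ i →
        Module.finrank k (LinearMap.range (L e)) < n := by
      intro e he hie hei hne
      rw [← hn]
      refine Submodule.finrank_lt_finrank_of_lt (lt_of_le_of_ne ?_ fun heq => hne ?_)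
      · rintro _ ⟨y, rfl⟩
        refine ⟨e * y * e, ?_⟩
        simp only [L, LinearMap.comp_apply, LinearMap.mulLeft_apply, LinearMap.mulRight_apply]
        rw [mul_assoc (e * y), hei, ← mul_assoc, ← mul_assoc, hie, mul_assoc]
      · obtain ⟨y, hy⟩ : i ∈ LinearMap.range (L e) := heq ▸ ⟨1, by simp [L, hi.eq]⟩
        simp only [L, LinearMap.comp_apply, LinearMap.mulLeft_apply, LinearMap.mulRight_apply] at hy
        rw [← hei]
        conv_lhs => rw [← hy, ← mul_assoc, he.eq]
        exact hy
    have hk : IsIdempotentElem (i - j) := by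
      rw [IsIdempotentElem, sub_mul, mul_sub, mul_sub, hi.eq, hij, hji, hj.eq, sub_self, sub_zero]
    have hk1 : i * (i - j) = i - j := by rw [mul_sub, hi.eq, hij]
    have hk2 : (i - j) * i = i - j := by rw [sub_mul, hi.eq, hji]
    obtain ⟨J₁, h1, o1, s1⟩ := ih _ (hlt j hj hij hji hji') hj rfl
    obtain ⟨J₂, h2, o2, s2⟩ := ih _ (hlt (i - j) hk hk1 hk2 (by simpa [sub_eq_self] using hj0)) hk rfl
    have hor : ∀ a ∈ J₁, ∀ b ∈ J₂, a * b = 0 ∧ b * a = 0 := by
      intro a ha b hb
      obtain ⟨-, ha1, ha2⟩ := h1 a ha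
      obtain ⟨-, hb1, hb2⟩ := h2 b hb
      constructor
      · rw [← ha2, ← hb1, mul_assoc, ← mul_assoc j, mul_sub, hji,
          hj.eq, sub_self, zero_mul, mul_zero]
      · rw [← ha1, ← hb2, mul_assoc, ← mul_assoc (i - j), sub_mul, hij, hj.eq, sub_self, zero_mul,
          mul_zero]
    have hdisj : Disjoint J₁ J₂ := Finset.disjoint_left.2 fun a ha ha' =>
      (h1 a ha).1.ne_zero (by rw [← (h1 a ha).1.idem.eq]; exact (hor a ha a ha').1)
    refine ⟨J₁ ∪ J₂, fun a ha => ?_, fun a ha b hb hne => ?_, ?_⟩
    · rcases Finset.mem_union.1 ha with ha | ha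
      · obtain ⟨hp', e1, e2⟩ := h1 a ha
        exact ⟨hp', by rw [← e1, ← mul_assoc, hij], by rw [← e2, mul_assoc, hji]⟩
      · obtain ⟨hp', e1, e2⟩ := h2 a ha
        exact ⟨hp', by rw [← e1, ← mul_assoc, hk1], by rw [← e2, mul_assoc, hk2]⟩
    · rcases Finset.mem_union.1 ha with ha | ha <;> rcases Finset.mem_union.1 hb with hb | hb
      · exact o1 a ha b hb hne
      · exact (hor a ha b hb).1
      · exact (hor b hb a ha).2
      · exact o2 a ha b hb hne
    · rw [Finset.sum_union hdisj, s1, s2, add_sub_cancel]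

section Rep

variable {V W : Type*} [AddCommGroup V] [Module k V] [FiniteDimensional k V]
  [AddCommGroup W] [Module k W] [FiniteDimensional k W]

/-- An irreducible representation. -/
def IsIrr (π : A →ₐ[k] Module.End k V) : Prop :=
  ∀ v : V, v ≠ 0 → ∀ w : V, ∃ y : A, π y v = w

variable (k) in
include k in
/-- A primitive idempotent acts nontrivially on some irreducible representation. -/
theorem exists_irr {i : A} (hi : IsIdempotentElem i) (h0 : i ≠ 0) :
    ∃ (I : Submodule A A) (N : Submodule A I) (π : A →ₐ[k] Module.End k (I ⧸ N)),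
      IsIrr π ∧ π i ≠ 0 := by
  have : IsArtinian A A := isArtinian_of_tower k inferInstance
  obtain ⟨I, ⟨v₀, hv₀, hiv₀⟩, hmin⟩ := wellFounded_lt.has_min
    {I : Submodule A A | ∃ v ∈ I, i * v ≠ 0} ⟨⊤, i, trivial, by rw [hi.eq]; exact h0⟩
  let N : Submodule A I :=
    { carrier := {v | ∀ y : A, i * (y * (v : A)) = 0}
      add_mem' := fun {a b} ha hb y => by
        rw [Submodule.coe_add, mul_add, mul_add, ha y, hb y, add_zero]
      zero_mem' := fun y => by simp
      smul_mem' := fun c v hv y => by
        rw [Submodule.coe_smul, smul_eq_mul, ← mul_assoc y]; exact hv (y * c) }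
  refine ⟨I, N, Algebra.lsmul k k (I ⧸ N), fun v hv w => ?_, fun hzero => ?_⟩
  · obtain ⟨v, rfl⟩ := N.mkQ_surjective v
    obtain ⟨w, rfl⟩ := N.mkQ_surjective w
    have hvN : v ∉ N := fun h => hv ((Submodule.Quotient.mk_eq_zero N).2 h)
    obtain ⟨y, hy⟩ : ∃ y, i * (y * (v : A)) ≠ 0 := by
      by_contra hcon
      simp only [not_exists, not_not] at hcon
      exact hvN hcon
    have hle : Submodule.span A {(v : A)} ≤ I := (Submodule.span_singleton_le_iff_mem _ _).2 v.2
    have heq : Submodule.span A {(v : A)} = I := by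
      by_contra hne
      exact hmin _ ⟨y * v, Submodule.mem_span_singleton.2 ⟨y, rfl⟩, hy⟩ (lt_of_le_of_ne hle hne)
    obtain ⟨c, hc⟩ := Submodule.mem_span_singleton.1 (show (w : A) ∈ Submodule.span A {(v : A)} by rw [heq]; exact w.2)
    refine ⟨c, ?_⟩
    show c • N.mkQ v = N.mkQ w
    rw [← map_smul]
    exact congrArg _ (Subtype.ext hc)
  · have hmem : i * v₀ ∈ I := I.smul_mem i hv₀
    have h1 : N.mkQ ⟨v₀, hv₀⟩ ≠ 0 ∧ i • N.mkQ ⟨v₀, hv₀⟩ = 0 := by
      refine ⟨fun h => hiv₀ ?_, ?_⟩
      · have := (Submodule.Quotient.mk_eq_zero N).1 h (1 : A)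
        simpa using this
      · have := LinearMap.congr_fun hzero (N.mkQ ⟨v₀, hv₀⟩)
        exact this
    have h2 : i • (⟨v₀, hv₀⟩ : I) ∈ N := by
      rw [← Submodule.Quotient.mk_eq_zero, Submodule.Quotient.mk_smul]
      exact h1.2
    have h3 := h2 1
    simp only [Submodule.coe_smul, smul_eq_mul, one_mul] at h3
    rw [← mul_assoc, hi.eq] at h3
    exact hiv₀ h3

theorem IsPrim.kills_of_nilpotent {π : A →ₐ[k] Module.End k V} (hπ : IsIrr π) {i : A}
    (hi : IsPrim i) {n : A} (h1 : i * n = n) (hn : IsNilpotent n) {v : V} (hv : π i v = v) :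
    π n v = 0 := by
  by_contra hne
  obtain ⟨y, hy⟩ := hπ _ hne v
  set c := i * y * n * i with hc
  have hfix : π c v = v := by
    rw [hc, map_mul, map_mul, map_mul, Module.End.mul_apply, Module.End.mul_apply,
      Module.End.mul_apply, hv, hy, hv]
  have hc1 : i * c = c := by rw [hc, ← mul_assoc, ← mul_assoc, ← mul_assoc, hi.idem.eq]
  have hc2 : c * i = c := by rw [hc, mul_assoc, hi.idem.eq]
  have hv0 : v ≠ 0 := fun h => hne (by rw [h, map_zero])
  rcases hi.local' k hc1 hc2 with ⟨m, hm⟩ | ⟨L, -, -, -, hL⟩
  · have hp : ∀ m : ℕ, π (c ^ m) v = v := by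
      intro m
      induction m with
      | zero => simp
      | succ m ih => rw [pow_succ, map_mul, Module.End.mul_apply, hfix, ih]
    have := hp m
    rw [hm, map_zero, LinearMap.zero_apply] at this
    exact hv0 this.symm
  · -- a left inverse of a nilpotent element
    have hni : IsNilpotent (n * i) := by
      obtain ⟨m, hm⟩ := hn
      refine ⟨m + 1, ?_⟩
      have e : ∀ j : ℕ, (n * i) ^ (j + 1) = n ^ (j + 1) * i := by
        intro j
        induction j with
        | zero => simp
        | succ j ih =>
          rw [pow_succ, ih, mul_assoc, ← mul_assoc i, h1, ← mul_assoc, ← pow_succ]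
      rw [e, pow_succ, hm, zero_mul, zero_mul]
    refine not_leftInv_of_nilpotent hi.ne_zero hni (by rw [← mul_assoc, h1]) (L := L * i * y) ?_
    rw [hc] at hL
    simpa only [mul_assoc] using hL

variable [IsAlgClosed k]

/-- A corner element is a scalar on the vectors fixed by the idempotent. -/
theorem IsPrim.exists_scalar {i : A} (hi : IsPrim i) {z : A} (h1 : i * z = z) (h2 : z * i = z) :
    ∃ c : k, IsNilpotent (z - c • i) := by
  classical
  by_contra hcon
  simp only [not_exists] at hcon
  set s := (minpoly k z).roots with hs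
  have hunit : ∀ c : k, ∃ w, w * (z - c • i) = i := by
    intro c
    rcases hi.local' k (z := z - c • i) (by rw [mul_sub, h1, mul_smul_comm, hi.idem.eq])
      (by rw [sub_mul, h2, smul_mul_assoc, hi.idem.eq]) with hn | ⟨w, -, -, -, hw⟩
    · exact absurd hn (hcon c)
    · exact ⟨w, hw⟩
  have key : ∀ t : Multiset k, ∃ w : A, w * (aeval z (t.map fun c => X - C c).prod * i) = i := by
    intro t
    induction t using Multiset.induction with
    | empty => exact ⟨i, by simp [hi.idem.eq]⟩
    | cons c t ih =>
      obtain ⟨w, hw⟩ := ih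
      obtain ⟨w', hw'⟩ := hunit c
      refine ⟨w' * i * w, ?_⟩
      rw [Multiset.map_cons, Multiset.prod_cons, mul_comm (X - C c), map_mul,
        show aeval z (X - C c) = z - c • (1 : A) by simp [Algebra.algebraMap_eq_smul_one]]
      calc w' * i * w * (aeval z (t.map fun c => X - C c).prod * (z - c • 1) * i)
          = w' * i * (w * (aeval z (t.map fun c => X - C c).prod * i)) * (z - c • i) := by
            have e : (z - c • (1 : A)) * i = i * (z - c • i) := by
              rw [sub_mul, h2, smul_mul_assoc, one_mul, mul_sub, h1, mul_smul_comm, hi.idem.eq]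
            simp only [mul_assoc, e]
        _ = w' * (z - c • i) := by
            rw [hw, mul_assoc w', hi.idem.eq, mul_assoc, mul_sub, h1, mul_smul_comm, hi.idem.eq]
        _ = i := hw'
  obtain ⟨w, hw⟩ := key s
  rw [← (IsAlgClosed.splits (minpoly k z)).eq_prod_roots_of_monic
    (minpoly.monic (IsIntegral.of_finite k z)), minpoly.aeval, zero_mul, mul_zero] at hw
  exact hi.ne_zero hw.symm

variable {π : A →ₐ[k] Module.End k V}

/-- A primitive idempotent has trace one where it does not vanish. -/
theorem IsPrim.trace_eq_one (hπ : IsIrr π) {i : A} (hi : IsPrim i) (hne : π i ≠ 0) :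
    LinearMap.trace k V (π i) = 1 := by
  obtain ⟨u, hu⟩ : ∃ u, π i u ≠ 0 := by
    by_contra h
    simp only [not_exists, not_not] at h
    exact hne (LinearMap.ext h)
  set v := π i u
  have hidem : π i * π i = π i := by rw [← map_mul, hi.idem.eq]
  have hv : π i v = v := LinearMap.congr_fun hidem u
  have hproj : LinearMap.IsProj (Submodule.span k {v}) (π i) := by
    refine ⟨fun w => ?_, fun w hw => ?_⟩
    · obtain ⟨y, hy⟩ := hπ v hu (π i w)
      obtain ⟨c, hc⟩ := hi.exists_scalar (k := k) (z := i * y * i)
        (by rw [← mul_assoc, ← mul_assoc, hi.idem.eq]) (by rw [mul_assoc, hi.idem.eq])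
      have h0 := hi.kills_of_nilpotent hπ (n := i * y * i - c • i)
        (by rw [mul_sub, ← mul_assoc, ← mul_assoc, hi.idem.eq, mul_smul_comm, hi.idem.eq]) hc hv
      rw [map_sub, map_mul, map_mul, map_smul, LinearMap.sub_apply, Module.End.mul_apply,
        Module.End.mul_apply, LinearMap.smul_apply, hv, hy, sub_eq_zero] at h0
      refine Submodule.mem_span_singleton.2 ⟨c, ?_⟩
      rw [← h0]
      exact LinearMap.congr_fun hidem w
    · obtain ⟨c, rfl⟩ := Submodule.mem_span_singleton.1 hw
      rw [map_smul, hv]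
  rw [hproj.trace, finrank_span_singleton hu, Nat.cast_one]

/-- Primitive idempotents not vanishing on the same irreducible representation are equivalent. -/
theorem IsPrim.eqv_of_ne_zero (hπ : IsIrr π) {i j : A} (hi : IsPrim i) (hj : IsPrim j)
    (hni : π i ≠ 0) (hnj : π j ≠ 0) : Eqv i j := by
  have hex : ∀ {l : A}, IsPrim l → π l ≠ 0 → ∃ v : V, v ≠ 0 ∧ π l v = v := by
    intro l hl hl0
    obtain ⟨u, hu⟩ : ∃ u, π l u ≠ 0 := by
      by_contra h
      simp only [not_exists, not_not] at h
      exact hl0 (LinearMap.ext h)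
    exact ⟨π l u, hu, by rw [← Module.End.mul_apply, ← map_mul, hl.idem.eq]⟩
  obtain ⟨v, hv0, hv⟩ := hex hi hni
  obtain ⟨v', hv0', hv'⟩ := hex hj hnj
  obtain ⟨y, hy⟩ := hπ v hv0 v'
  obtain ⟨y', hy'⟩ := hπ v' hv0' v
  set a := i * y' * j
  set b := j * y * i
  have ha : π a v' = v := by
    rw [map_mul, map_mul, Module.End.mul_apply, Module.End.mul_apply, hv', hy', hv]
  have hb : π b v = v' := by
    rw [map_mul, map_mul, Module.End.mul_apply, Module.End.mul_apply, hv, hy, hv']
  have h1 : i * (a * b) = a * b := by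
    rw [← mul_assoc]; congr 1; simp only [a, ← mul_assoc, hi.idem.eq]
  have h2 : a * b * i = a * b := by
    rw [mul_assoc]; congr 1; simp only [b, mul_assoc, hi.idem.eq]
  rcases hi.local' k h1 h2 with hn | ⟨w, hw1, hw2, -, hw⟩
  · have := hi.kills_of_nilpotent hπ h1 hn hv
    rw [map_mul, Module.End.mul_apply, hb, ha] at this
    exact absurd this hv0
  refine ⟨w * a, b, by rw [mul_assoc, hw], ?_⟩
  have he : IsIdempotentElem (b * (w * a)) := by
    rw [IsIdempotentElem, show b * (w * a) * (b * (w * a)) = b * ((w * (a * b)) * (w * a)) from by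
      simp only [mul_assoc], hw, ← mul_assoc i, hw1]
  refine (hj.prim _ he ?_ ?_).resolve_left fun h0 => hi.ne_zero ?_
  · rw [← mul_assoc]; congr 1; simp only [b, ← mul_assoc, hj.idem.eq]
  · rw [mul_assoc]; congr 1; simp only [a, mul_assoc, hj.idem.eq]
  · have : (w * a) * (b * (w * a)) * b = i := by
      rw [show (w * a) * (b * (w * a)) * b = (w * (a * b)) * (w * (a * b)) from by
        simp only [mul_assoc], hw, hi.idem.eq]
    rw [← this, h0, mul_zero, zero_mul]

theorem ne_zero_of_eqv {i j : A} (hi : IsIdempotentElem i) (h : Eqv i j) (hni : π i ≠ 0) :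
    π j ≠ 0 := by
  intro h0
  obtain ⟨x, y, hxy, hyx⟩ := h
  apply hni
  rw [← hi.eq, ← hxy, show x * y * (x * y) = x * (y * x) * y from by simp only [mul_assoc], hyx,
    map_mul, map_mul, h0, mul_zero, zero_mul]

/-- The trace on a fixed irreducible representation is the indicator of the equivalence class. -/
theorem IsPrim.trace_ite (hπ : IsIrr π) {i j : A} (hi : IsPrim i) (hj : IsPrim j) (hni : π i ≠ 0)
    [Decidable (Eqv i j)] :
    LinearMap.trace k V (π j) = if Eqv i j then 1 else 0 := by
  split_ifs with h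
  · exact hj.trace_eq_one hπ (ne_zero_of_eqv hi.idem h hni)
  · have : π j = 0 := by
      by_contra hne
      exact h (hi.eqv_of_ne_zero hπ hj hni hne)
    rw [this, map_zero]

/-- Irreducible representations sharing a nonvanishing primitive idempotent have the same trace. -/
theorem trace_eq_of_shared (hπ : IsIrr π) {π' : A →ₐ[k] Module.End k W} (hπ' : IsIrr π') {i : A}
    (hi : IsPrim i) (hni : π i ≠ 0) (hni' : π' i ≠ 0) (y : A) :
    LinearMap.trace k V (π y) = LinearMap.trace k W (π' y) := by
  obtain ⟨u, hu⟩ : ∃ u, π i u ≠ 0 := by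
    by_contra h
    simp only [not_exists, not_not] at h
    exact hni (LinearMap.ext h)
  obtain ⟨u', hu'⟩ : ∃ u, π' i u ≠ 0 := by
    by_contra h
    simp only [not_exists, not_not] at h
    exact hni' (LinearMap.ext h)
  set v := π i u
  set v' := π' i u'
  have hv : π i v = v := by rw [← Module.End.mul_apply, ← map_mul, hi.idem.eq]
  have hv' : π' i v' = v' := by rw [← Module.End.mul_apply, ← map_mul, hi.idem.eq]
  let L : A →ₗ[k] V := (LinearMap.applyₗ v).comp π.toLinearMap
  let L' : A →ₗ[k] W := (LinearMap.applyₗ v').comp π'.toLinearMap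
  have hker : LinearMap.ker L = LinearMap.ker L' := by
    ext a
    simp only [LinearMap.mem_ker, L, L', LinearMap.comp_apply, AlgHom.toLinearMap_apply,
      LinearMap.applyₗ_apply_apply]
    constructor
    · intro ha
      by_contra hne
      obtain ⟨z, hz⟩ := hπ' _ hne v'
      set c := i * (z * a) * i with hc
      have e1 : π c v = 0 := by simp [hc, hv, ha]
      have e2 : π' c v' = v' := by simp [hc, hv', hz]
      rcases hi.local' k (z := c) (by rw [hc, ← mul_assoc, ← mul_assoc, hi.idem.eq])
        (by rw [hc, mul_assoc, hi.idem.eq]) with hn | ⟨w, -, -, -, hw⟩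
      · exact hu' ((hi.kills_of_nilpotent hπ' (by rw [hc, ← mul_assoc, ← mul_assoc, hi.idem.eq])
          hn hv').symm.trans e2).symm
      · refine hu ?_
        show v = 0
        rw [← hv, ← hw, map_mul, Module.End.mul_apply, e1, map_zero]
    · intro ha
      by_contra hne
      obtain ⟨z, hz⟩ := hπ _ hne v
      set c := i * (z * a) * i with hc
      have e1 : π' c v' = 0 := by simp [hc, hv', ha]
      have e2 : π c v = v := by simp [hc, hv, hz]
      rcases hi.local' k (z := c) (by rw [hc, ← mul_assoc, ← mul_assoc, hi.idem.eq])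
        (by rw [hc, mul_assoc, hi.idem.eq]) with hn | ⟨w, -, -, -, hw⟩
      · exact hu ((hi.kills_of_nilpotent hπ (by rw [hc, ← mul_assoc, ← mul_assoc, hi.idem.eq])
          hn hv).symm.trans e2).symm
      · refine hu' ?_
        show v' = 0
        rw [← hv', ← hw, map_mul, Module.End.mul_apply, e1, map_zero]
  have hL : Function.Surjective L := fun w => hπ v hu w
  have hL' : Function.Surjective L' := fun w => hπ' v' hu' w
  let e : V ≃ₗ[k] W := (L.quotKerEquivOfSurjective hL).symm.trans
    ((Submodule.quotEquivOfEq _ _ hker).trans (L'.quotKerEquivOfSurjective hL'))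
  have he : ∀ a, e (π a v) = π' a v' := fun a => by
    simp only [e, LinearEquiv.trans_apply]
    rw [show (L.quotKerEquivOfSurjective hL).symm (π a v) = Submodule.Quotient.mk a from
      (L.quotKerEquivOfSurjective hL).symm_apply_eq.2 rfl]
    rfl
  have hconj : e.conj (π y) = π' y := by
    refine LinearMap.ext fun w => ?_
    obtain ⟨a, rfl⟩ := hL' w
    show e (π y (e.symm (π' a v'))) = π' y (π' a v')
    rw [← he a, LinearEquiv.symm_apply_apply, ← Module.End.mul_apply, ← map_mul, he a, he, map_mul,
      Module.End.mul_apply]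
  rw [← hconj, LinearMap.trace_conj']

end Rep

variable [IsAlgClosed k] {p : ℕ} [hp : Fact p.Prime] [CharP k p]

/-- A function on idempotents that is additive and invariant under equivalence and under an
automorphism `σ` with `σ ^ p = 1`, evaluated at a full trace, is `p` times a combination of its
values at primitive idempotents. -/
theorem exists_nsmul_of_trace {C : Type*} [AddCommGroup C] (σ : A ≃ₐ[k] A)
    (hσ : ∀ x, (σ : A → A)^[p] x = x) {i a : A} (hi : IsIdempotentElem i) (hfix : σ i = i)
    (ha : ∑ n ∈ Finset.range p, (σ : A → A)^[n] a = i) (L : AddSubgroup C) (S : A → C)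
    (hzero : S 0 = 0)
    (hadd : ∀ e f, IsIdempotentElem e → IsIdempotentElem f → i * e = e → e * i = e → i * f = f →
      f * i = f → e * f = 0 → f * e = 0 → S (e + f) = S e + S f)
    (heqv : ∀ e f, IsIdempotentElem e → IsIdempotentElem f → i * e = e → e * i = e → i * f = f →
      f * i = f → Eqv e f → S e = S f)
    (hSσ : ∀ e, IsIdempotentElem e → i * e = e → e * i = e → S (σ e) = S e)
    (hL : ∀ j, IsPrim j → i * j = j → j * i = j → S j ∈ L) :
    ∃ w ∈ L, S i = p • w := by
  classical
  obtain ⟨J, hJ, horth, hsum⟩ := exists_prim_decomp k hi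
  have hS : S i = ∑ j ∈ J, S j := by
    have key : ∀ t ⊆ J, S (∑ j ∈ t, j) = ∑ j ∈ t, S j ∧ IsIdempotentElem (∑ j ∈ t, j) ∧
        i * (∑ j ∈ t, j) = ∑ j ∈ t, j ∧ (∑ j ∈ t, j) * i = ∑ j ∈ t, j := by
      intro t
      induction t using Finset.induction with
      | empty => exact fun _ => ⟨by simpa using hzero, by simp [IsIdempotentElem], by simp, by simp⟩
      | insert b t hbt ih =>
        intro hts
        obtain ⟨h1, h2, h3, h4⟩ := ih fun x hx => hts (Finset.mem_insert_of_mem hx)
        obtain ⟨hb, hb1, hb2⟩ := hJ b (hts (Finset.mem_insert_self b t))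
        have o1 : b * ∑ j ∈ t, j = 0 := by
          rw [Finset.mul_sum]
          exact Finset.sum_eq_zero fun x hx => horth b (hts (Finset.mem_insert_self b t)) x
            (hts (Finset.mem_insert_of_mem hx)) fun h => hbt (h ▸ hx)
        have o2 : (∑ j ∈ t, j) * b = 0 := by
          rw [Finset.sum_mul]
          exact Finset.sum_eq_zero fun x hx => horth x (hts (Finset.mem_insert_of_mem hx)) b
            (hts (Finset.mem_insert_self b t)) fun h => hbt (h ▸ hx)
        rw [Finset.sum_insert hbt, Finset.sum_insert hbt]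
        refine ⟨by rw [hadd _ _ hb.idem h2 hb1 hb2 h3 h4 o1 o2, h1], ?_, by rw [mul_add, hb1, h3],
          by rw [add_mul, hb2, h4]⟩
        rw [IsIdempotentElem, add_mul, mul_add, mul_add, o1, o2, hb.idem.eq, h2.eq, add_zero,
          zero_add]
    rw [← hsum]
    exact (key J subset_rfl).1
  -- iterates of the automorphism
  set s : ℕ → A → A := fun n => (σ : A → A)^[n] with hs
  have hsn : ∀ n, s (n + 1) = (σ : A → A) ∘ s n := fun n => Function.iterate_succ' _ _
  have hadd' : ∀ m n x, s (m + n) x = s m (s n x) := fun m n x => Function.iterate_add_apply _ m n x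
  have hper : ∀ n m x, s (n + p * m) x = s n x := by
    intro n m x
    induction m with
    | zero => simp
    | succ m ih =>
      rw [Nat.mul_succ, ← add_assoc, hadd', show s p x = x from hσ x, ih]
  have hmod : ∀ n x, s (n % p) x = s n x := fun n x => by
    conv_rhs => rw [← Nat.mod_add_div n p]
    rw [hper]
  let σA : ℕ → (A →ₐ[k] A) := fun n => Nat.rec (AlgHom.id k A) (fun _ f => σ.toAlgHom.comp f) n
  have hσA : ∀ n x, σA n x = s n x := by
    intro n
    induction n with
    | zero => intro x; rfl
    | succ n ih => intro x; rw [hsn]; show σ (σA n x) = σ (s n x); rw [ih]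
  have hsfix : ∀ n, s n i = i := fun n => by
    induction n with
    | zero => rfl
    | succ n ih => rw [hsn, Function.comp_apply, ih, hfix]
  have hidem : ∀ n {e : A}, IsIdempotentElem e → IsIdempotentElem (s n e) := fun n e he => by
    rw [← hσA]; exact he.map _
  have hbelow : ∀ n {e : A}, i * e = e → e * i = e → i * s n e = s n e ∧ s n e * i = s n e :=
    fun n e h1 h2 => by
      constructor
      · conv_lhs => rw [← hsfix n, ← hσA, ← hσA, ← map_mul, h1, hσA]
      · conv_lhs => rw [← hsfix n, ← hσA, ← hσA, ← map_mul, h2, hσA]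
  have hSn : ∀ n {e : A}, IsIdempotentElem e → i * e = e → e * i = e → S (s n e) = S e := by
    intro n e he h1 h2
    induction n with
    | zero => rfl
    | succ n ih =>
      rw [hsn, Function.comp_apply, hSσ _ (hidem n he) (hbelow n h1 h2).1 (hbelow n h1 h2).2, ih]
  have heqvs : ∀ n {e f : A}, Eqv e f → Eqv (s n e) (s n f) := by
    rintro n e f ⟨x, y, rfl, rfl⟩
    exact ⟨σA n x, σA n y, by rw [← map_mul, hσA], by rw [← map_mul, hσA]⟩
  -- the orbit relation
  let R : A → A → Prop := fun x y => ∃ n, Eqv (s n x) y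
  have hRrefl : ∀ j ∈ J, R j j := fun j hj => ⟨0, Eqv.refl (hJ j hj).1.idem⟩
  have hRsymm : ∀ x ∈ J, ∀ y ∈ J, R x y → R y x := by
    rintro x hx y - ⟨n, h⟩
    refine ⟨n * (p - 1), ?_⟩
    have h1 := heqvs (n * (p - 1)) h.symm
    rwa [← hadd', show n * (p - 1) + n = 0 + p * n by
      have := hp.out.one_lt
      rw [zero_add, mul_comm p n]
      nth_rewrite 2 [show n = n * 1 from (mul_one n).symm]
      rw [← mul_add, Nat.sub_add_cancel (by omega)], hper] at h1
  have hRtrans : ∀ x ∈ J, ∀ y ∈ J, ∀ z ∈ J, R x y → R y z → R x z := by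
    rintro x hx y - z hz ⟨n, h⟩ ⟨m, h'⟩
    refine ⟨m + n, ?_⟩
    rw [hadd']
    exact (heqvs m h).trans (hidem _ (hidem _ (hJ x hx).1.idem)) (hJ z hz).1.idem h'
  let cls : A → Finset A := fun x => J.filter (R x)
  have hcls : ∀ x ∈ J, ∀ y ∈ J, R x y → cls x = cls y := by
    intro x hx y hy h
    ext z
    simp only [cls, Finset.mem_filter]
    constructor
    · rintro ⟨hz, h'⟩
      exact ⟨hz, hRtrans y hy x hx z hz (hRsymm x hx y hy h) h'⟩
    · rintro ⟨hz, h'⟩
      exact ⟨hz, hRtrans x hx y hy z hz h h'⟩
  have hfibre : ∀ x ∈ J, J.filter (fun y => cls y = cls x) = cls x := by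
    intro x hx
    ext y
    simp only [Finset.mem_filter]
    constructor
    · rintro ⟨hy, h⟩
      rw [← h]
      exact Finset.mem_filter.2 ⟨hy, hRrefl y hy⟩
    · intro hy
      obtain ⟨hy, h⟩ := Finset.mem_filter.1 hy
      exact ⟨hy, (hcls x hx y hy h).symm⟩
  -- class sizes
  have hdvd : ∀ x ∈ J, p ∣ (cls x).card := by
    intro x hx
    obtain ⟨hxP, hx1, hx2⟩ := hJ x hx
    obtain ⟨I, N, π, hπ, hπx⟩ := exists_irr k hxP.idem hxP.ne_zero
    rw [← CharP.cast_eq_zero_iff k p]
    have hcount : ∀ n, ((J.filter fun j => Eqv (s n x) j).card : k) =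
        LinearMap.trace k _ (π i) := by
      intro n
      let π' := π.comp (σA (n * (p - 1)))
      have hπ' : IsIrr π' := fun v hv w => by
        obtain ⟨y, hy⟩ := hπ v hv w
        refine ⟨σA n y, ?_⟩
        show π (σA (n * (p - 1)) (σA n y)) v = w
        rw [hσA, hσA, ← hadd', show n * (p - 1) + n = 0 + p * n by
          have := hp.out.one_lt
          rw [zero_add, mul_comm p n]
          nth_rewrite 2 [show n = n * 1 from (mul_one n).symm]
          rw [← mul_add, Nat.sub_add_cancel (by omega)], hper]
        exact hy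
      have hxn : IsPrim (s n x) := by
        refine ⟨hidem n hxP.idem, fun h0 => hxP.ne_zero ?_, fun j hj h1 h2 => ?_⟩
        · have := congrArg (s (n * (p - 1))) h0
          rw [← hadd', ← hσA (n * (p - 1)) 0, map_zero, show n * (p - 1) + n = 0 + p * n by
            have := hp.out.one_lt
            rw [zero_add, mul_comm p n]
            nth_rewrite 2 [show n = n * 1 from (mul_one n).symm]
            rw [← mul_add, Nat.sub_add_cancel (by omega)], hper] at this
          exact this
        · have hb : ∀ z, s n (s (n * (p - 1)) z) = z := fun z => by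
            rw [← hadd', show n + n * (p - 1) = 0 + p * n by
              have := hp.out.one_lt
              rw [zero_add, mul_comm p n]
              nth_rewrite 1 [show n = n * 1 from (mul_one n).symm]
              rw [← mul_add, Nat.add_sub_cancel' (by omega)], hper]
            rfl
          have hb' : s (n * (p - 1)) (s n x) = x := by
            rw [← hadd', show n * (p - 1) + n = 0 + p * n by
              have := hp.out.one_lt
              rw [zero_add, mul_comm p n]
              nth_rewrite 2 [show n = n * 1 from (mul_one n).symm]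
              rw [← mul_add, Nat.sub_add_cancel (by omega)], hper]
            rfl
          rcases hxP.prim (s (n * (p - 1)) j) (hidem _ hj)
              (by conv_lhs => rw [← hb', ← hσA, ← hσA _ j, ← map_mul, h1, hσA])
              (by conv_lhs => rw [← hb', ← hσA, ← hσA _ (s n x), ← map_mul, h2, hσA]) with h | h
          · left; rw [← hb j, h, ← hσA, map_zero]
          · right; rw [← hb j, h]
      have hne : π' (s n x) ≠ 0 := by
        show π (σA (n * (p - 1)) (s n x)) ≠ 0
        rw [hσA, ← hadd', show n * (p - 1) + n = 0 + p * n by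
          have := hp.out.one_lt
          rw [zero_add, mul_comm p n]
          nth_rewrite 2 [show n = n * 1 from (mul_one n).symm]
          rw [← mul_add, Nat.sub_add_cancel (by omega)], hper]
        exact hπx
      have h1 : LinearMap.trace k _ (π' i) = LinearMap.trace k _ (π i) := by
        show LinearMap.trace k _ (π (σA _ i)) = _
        rw [hσA, hsfix]
      rw [← h1, ← hsum, map_sum, map_sum, Finset.card_filter, Nat.cast_sum]
      refine Finset.sum_congr rfl fun j hj => ?_
      rw [hxn.trace_ite hπ' (hJ j hj).1 hne]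
      split_ifs <;> simp
    have hp0 : (p : k) = 0 := CharP.cast_eq_zero k p
    by_cases hst : ∀ n, Eqv (s n x) x
    · -- stable class
      have hc : cls x = J.filter fun j => Eqv (s 0 x) j := by
        ext y
        simp only [cls, Finset.mem_filter]
        refine and_congr_right fun hy => ⟨?_, fun h => ⟨0, h⟩⟩
        rintro ⟨n, h⟩
        exact (hst n).symm.trans hxP.idem (hJ y hy).1.idem h
      rw [hc, hcount, ← ha, map_sum, map_sum]
      have hinv : ∀ n, LinearMap.trace k _ (π (s n a)) = LinearMap.trace k _ (π a) := by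
        intro n
        have hπn : IsIrr (π.comp (σA n)) := fun v hv w => by
          obtain ⟨y, hy⟩ := hπ v hv w
          refine ⟨s (n * (p - 1)) y, ?_⟩
          show π (σA n (s (n * (p - 1)) y)) v = w
          rw [hσA, ← hadd', show n + n * (p - 1) = 0 + p * n by
            have := hp.out.one_lt
            rw [zero_add, mul_comm p n]
            nth_rewrite 1 [show n = n * 1 from (mul_one n).symm]
            rw [← mul_add, Nat.add_sub_cancel' (by omega)], hper]
          exact hy
        have hne : (π.comp (σA n)) x ≠ 0 := by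
          show π (σA n x) ≠ 0
          rw [hσA]
          exact ne_zero_of_eqv hxP.idem (hst n).symm hπx
        rw [← hσA n a]
        exact trace_eq_of_shared hπn hπ hxP hne hπx a
      rw [Finset.sum_congr rfl fun n _ => hinv n, Finset.sum_const, Finset.card_range, nsmul_eq_mul,
        hp0, zero_mul]
    · -- free class
      have hc : cls x = (Finset.range p).biUnion fun n => J.filter fun j => Eqv (s n x) j := by
        ext y
        simp only [cls, Finset.mem_filter, Finset.mem_biUnion, Finset.mem_range]
        constructor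
        · rintro ⟨hy, n, h⟩
          exact ⟨n % p, Nat.mod_lt _ hp.out.pos, hy, by rwa [hmod]⟩
        · rintro ⟨n, -, hy, h⟩
          exact ⟨hy, n, h⟩
      rw [hc, Finset.card_biUnion, Nat.cast_sum, Finset.sum_congr rfl fun n _ => hcount n,
        Finset.sum_const, Finset.card_range, nsmul_eq_mul, hp0, zero_mul]
      intro n hn m hm hnm
      rw [Function.onFun, Finset.disjoint_left]
      intro y hy hy'
      obtain ⟨hyJ, h⟩ := Finset.mem_filter.1 hy
      obtain ⟨-, h'⟩ := Finset.mem_filter.1 hy'
      apply hst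
      have hnm' : Eqv (s n x) (s m x) :=
        h.trans (hidem n hxP.idem) (hidem m hxP.idem) h'.symm
      -- a shift fixing the class
      set d := m + n * (p - 1) with hd
      have hdfix : Eqv (s d x) x := by
        have h1 := heqvs (n * (p - 1)) hnm'.symm
        rw [← hadd', ← hadd', show n * (p - 1) + n = 0 + p * n by
          have := hp.out.one_lt
          rw [zero_add, mul_comm p n]
          nth_rewrite 2 [show n = n * 1 from (mul_one n).symm]
          rw [← mul_add, Nat.sub_add_cancel (by omega)], hper, add_comm] at h1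
        exact h1
      have hd0 : (d : ZMod p) ≠ 0 := by
        rw [hd, Nat.cast_add, Nat.cast_mul, Nat.cast_sub hp.out.one_lt.le, ZMod.natCast_self,
          zero_sub, Nat.cast_one, mul_neg, mul_one, ← sub_eq_add_neg, sub_ne_zero]
        intro heq
        have := congrArg ZMod.val heq
        rw [ZMod.val_natCast_of_lt (Finset.mem_range.1 hm),
          ZMod.val_natCast_of_lt (Finset.mem_range.1 hn)] at this
        exact hnm this.symm
      intro l
      have hmul : ∀ t, Eqv (s (t * d) x) x := by
        intro t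
        induction t with
        | zero => rw [zero_mul]; exact Eqv.refl hxP.idem
        | succ t ih =>
          rw [Nat.succ_mul, add_comm, hadd']
          exact (heqvs d ih).trans (hidem _ (hidem _ hxP.idem)) hxP.idem hdfix
      have := hmul ((l : ZMod p) * (d : ZMod p)⁻¹).val
      rwa [← hmod, show (((l : ZMod p) * (d : ZMod p)⁻¹).val * d) % p = l % p by
        rw [← ZMod.val_natCast, ← ZMod.val_natCast, Nat.cast_mul, ZMod.natCast_val, ZMod.cast_id,
          mul_assoc, show ((d : ZMod p))⁻¹ * (d : ZMod p) = 1 from ZMod.inv_mul_of_unit _ (isUnit_iff_ne_zero.2 hd0), mul_one], hmod] at this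
  -- conclusion
  choose! q hq using hdvd
  choose! r hr hrc using fun c (hc : c ∈ J.image cls) => Finset.mem_image.1 hc
  refine ⟨∑ c ∈ J.image cls, q (r c) • S (r c), AddSubgroup.sum_mem _ fun c hc =>
    L.nsmul_mem (hL _ (hJ _ (hr c hc)).1 (hJ _ (hr c hc)).2.1 (hJ _ (hr c hc)).2.2) _, ?_⟩
  rw [hS, Finset.smul_sum, ← Finset.sum_fiberwise_of_maps_to (t := J.image cls) (g := cls)
    fun x hx => Finset.mem_image_of_mem _ hx]
  refine Finset.sum_congr rfl fun c hc => ?_
  rw [show J.filter (fun y => cls y = c) = cls (r c) by rw [← hfibre _ (hr c hc), hrc c hc],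
    Finset.sum_congr rfl fun y hy => ?_, Finset.sum_const, hq _ (hr c hc), mul_smul]
  obtain ⟨hy, n, h⟩ := Finset.mem_filter.1 hy
  obtain ⟨hP, h1, h2⟩ := hJ _ (hr c hc)
  rw [← hSn n hP.idem h1 h2]
  exact (heqv _ _ (hidem n hP.idem) (hJ y hy).1.idem (hbelow n h1 h2).1 (hbelow n h1 h2).2
    (hJ y hy).2.1 (hJ y hy).2.2 h).symm

end CfsgLib.BPStar
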