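import Cfsg.Agent.Lib.BPStar.Integrality

/-!
# The twisted class function is an irreducible character of the block
-/

set_option autoImplicit false
set_option linter.unusedSectionVars false

namespace CfsgLib.BPStar

open Cfsg MonoidAlgebra CfsgLib.Blocks CfsgLib.BrauerPairs CfsgLib.Characters
open scoped Classical ComplexConjugate

universe u

variable {p : ℕ} [Fact p.Prime] {M : Ideal AlgInt} [M.IsMaximal]
variable {G : Type u} [Group G] [Fintype G]
variable {B : Set (IrrCharacter G)} {P : Subgroup G}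
variable {e : Set (IrrCharacter (Subgroup.centralizer (P : Set G)))} {lam : P →* ℂˣ}

/-- Sums over the group computed section by section. -/
theorem sum_eq_of_sections (hp : p.Prime) {F F' : G → ℂ}
    (h : ∀ u : G, (∃ k : ℕ, orderOf u = p ^ k) →
      ∑ s ∈ Finset.univ.filter (fun s : cz (Subgroup.zpowers u) => ¬ p ∣ orderOf s),
          F (u * (s : G)) =
        ∑ s ∈ Finset.univ.filter (fun s : cz (Subgroup.zpowers u) => ¬ p ∣ orderOf s),
          F' (u * (s : G))) :
    ∑ g, F g = ∑ g, F' g := by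
  let π : G → G := fun g => (exists_isPPart hp g).choose
  rw [← Finset.sum_fiberwise Finset.univ π F, ← Finset.sum_fiberwise Finset.univ π F']
  refine Finset.sum_congr rfl fun u _ => ?_
  by_cases hu : ∃ k : ℕ, orderOf u = p ^ k
  · have key : ∀ F : G → ℂ, ∑ g ∈ Finset.univ.filter (fun g => π g = u), F g =
        ∑ s ∈ Finset.univ.filter (fun s : cz (Subgroup.zpowers u) => ¬ p ∣ orderOf s),
          F (u * (s : G)) := by
      intro F
      symm
      refine Finset.sum_bij (fun s _ => u * (s : G)) (fun s hs => ?_) (fun a _ b _ hab =>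
        Subtype.ext (mul_left_cancel hab)) (fun g hg => ?_) fun s _ => rfl
      · rw [Finset.mem_filter] at hs ⊢
        exact ⟨Finset.mem_univ _, IsPPart.unique hp (exists_isPPart hp _).choose_spec
          (isPPart_mul (commute_of_mem_cz s.2) hu (by rw [Subgroup.orderOf_coe]; exact hs.2))⟩
      · have hg' : π g = u := (Finset.mem_filter.1 hg).2
        obtain ⟨w, s, hw, hs, rfl⟩ := exists_sec_decomp hp g
        have : w = u := by
          rw [← hg']
          exact (IsPPart.unique hp (exists_isPPart hp _).choose_spec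
            (isPPart_mul (commute_of_mem_cz s.2) hw (by rwa [Subgroup.orderOf_coe]))).symm
        subst this
        exact ⟨s, Finset.mem_filter.2 ⟨Finset.mem_univ _, hs⟩, rfl⟩
    rw [key F, key F', h u hu]
  · have : Finset.univ.filter (fun g => π g = u) = ∅ := by
      rw [Finset.filter_eq_empty_iff]
      intro g _ hg
      obtain ⟨-, -, -, hk, -⟩ := (exists_isPPart hp g).choose_spec
      exact hu (hg ▸ hk)
    rw [this, Finset.sum_empty, Finset.sum_empty]

/-- Block parts of different blocks are orthogonal over the regular elements. -/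
theorem sum_regular_blockPart (hM : IsPModular p M) {H : Type u} [Group H] [Fintype H]
    {b b' : Set (IrrCharacter H)} (hb : IsPBlock M b) (hb' : IsPBlock M b') (hne : b ≠ b')
    (ϑ : H → ℂ) :
    ∑ s ∈ Finset.univ.filter (fun s : H => ¬ p ∣ orderOf s),
      blockPart b ϑ s * conj (blockPart b' ϑ s) = 0 := by
  simp only [blockPart_eq_sum, map_sum, map_mul, Finset.sum_mul, Finset.mul_sum]
  rw [Finset.sum_comm]
  refine Finset.sum_eq_zero fun η hη => ?_
  rw [Finset.sum_comm]
  refine Finset.sum_eq_zero fun ξ hξ => ?_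
  have h0 := sum_regular_eq_zero_of_not_sameBlock hM (χ := ξ) (ψ := η) fun hs => hne (by
    rw [IsPBlock.eq_blockOf hM hb (Finset.mem_filter.1 hξ).2,
      IsPBlock.eq_blockOf hM hb' (Finset.mem_filter.1 hη).2, blockOf_eq_of_sameBlock hM hs])
  rw [← mul_zero (classInner ϑ (ξ : H → ℂ) * conj (classInner ϑ (η : H → ℂ))), ← h0, Finset.mul_sum]
  exact Finset.sum_congr rfl fun s _ => by ring

variable {hM : IsPModular p M}

/-- A covered block has weight of absolute value one. -/
theorem wt_mul_conj (h : StarCtx hM B P e lam) {u : G} (hu : ∃ k : ℕ, orderOf u = p ^ k)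
    {b : MonoidAlgebra (ResK M) G} (hb : IsBlockIdem (cz (Subgroup.zpowers u)) b)
    (hcov : brMap (ResK M) (Subgroup.zpowers u) (eG hM B) * b = b) :
    wt hM P e lam u b * conj (wt hM P e lam u b) = 1 := by
  obtain ⟨g, hg, -, hw⟩ := h.exists_weight (isPGroup_zpowers hu) hb hcov
  rw [hw, ← Characters.irr_apply_inv ⟨_, isIrrCharacter_of_hom lam⟩]
  show (lam _ : ℂ) * (lam _ : ℂ) = 1
  rw [← Units.val_mul, ← map_mul, mul_inv_cancel, map_one, Units.val_one]

/-- The twisted function has norm one. -/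
theorem sum_normSq_starFun (h : StarCtx hM B P e lam) {χ : IrrCharacter G} (hχ : χ ∈ B) :
    ∑ g, starFun hM B P e lam (χ : G → ℂ) g * conj (starFun hM B P e lam (χ : G → ℂ) g) =
      ∑ g, (χ : G → ℂ) g * conj ((χ : G → ℂ) g) := by
  refine sum_eq_of_sections hM.1 fun u hu => ?_
  set C := cz (Subgroup.zpowers u)
  set reg := Finset.univ.filter (fun s : C => ¬ p ∣ orderOf s)
  set w : Set (IrrCharacter C) → ℂ := fun b => wt hM P e lam u (eA hM C b)
  set bp : Set (IrrCharacter C) → C → ℂ := fun b => blockPart b (secFun u (χ : G → ℂ))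
  have hreg : ∀ s ∈ reg, ¬ p ∣ orderOf s := fun s hs => (Finset.mem_filter.1 hs).2
  have e1 : ∑ s ∈ reg, starFun hM B P e lam (χ : G → ℂ) (u * (s : G)) *
      conj (starFun hM B P e lam (χ : G → ℂ) (u * (s : G))) =
      ∑ b ∈ blockSets M C, ∑ b' ∈ blockSets M C,
        w b * conj (w b') * ∑ s ∈ reg, bp b s * conj (bp b' s) := by
    simp only [Finset.mul_sum]
    rw [Finset.sum_congr rfl fun b _ => Finset.sum_comm, Finset.sum_comm]
    refine Finset.sum_congr rfl fun s hs => ?_
    rw [starFun_sec h.isPBlockB hχ hu (hreg s hs), map_sum, Finset.sum_mul_sum]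
    exact Finset.sum_congr rfl fun b _ => Finset.sum_congr rfl fun b' _ => by
      rw [map_mul]; simp only [w, bp]; ring
  have e2 : ∑ s ∈ reg, (χ : G → ℂ) (u * (s : G)) * conj ((χ : G → ℂ) (u * (s : G))) =
      ∑ b ∈ blockSets M C, ∑ b' ∈ blockSets M C, ∑ s ∈ reg, bp b s * conj (bp b' s) := by
    rw [Finset.sum_congr rfl fun b _ => Finset.sum_comm, Finset.sum_comm]
    refine Finset.sum_congr rfl fun s hs => ?_
    rw [← Finset.sum_mul_sum, ← map_sum]
    simp only [bp]
    rw [sum_blockPart hM (isClassFunction_secFun (irr_isClassFunction χ) u) s]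
    rfl
  rw [e1, e2]
  refine Finset.sum_congr rfl fun b hb => Finset.sum_congr rfl fun b' hb' => ?_
  by_cases hne : b = b'
  · subst hne
    by_cases hcov : brMap (ResK M) (Subgroup.zpowers u) (eG hM B) * eA hM C b = eA hM C b
    · rw [wt_mul_conj h hu (isBlockIdem_eA hM (mem_blockSets.1 hb)) hcov, one_mul]
    · have h0 : ∑ s ∈ reg, bp b s * conj (bp b s) = 0 := Finset.sum_eq_zero fun s hs => by
        simp only [bp]
        rw [blockPart_secFun_eq_zero hM h.isPBlockB hχ hu (hreg s hs) (mem_blockSets.1 hb) hcov,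
          zero_mul]
      rw [h0, mul_zero]
  · rw [sum_regular_blockPart hM (mem_blockSets.1 hb) (mem_blockSets.1 hb') hne, mul_zero]

/-- The twisted function is an irreducible character of `B`. -/
theorem exists_star (h : StarCtx hM B P e lam) {χ : IrrCharacter G} (hχ : χ ∈ B) :
    ∃ ψ : IrrCharacter G, ψ ∈ B ∧
      (ψ : G → ℂ) = starFun hM B P e lam (χ : G → ℂ) := by
  set θ := starFun hM B P e lam (χ : G → ℂ) with hθ
  set c : IrrCharacter G → ℂ := fun ψ => classInner θ (ψ : G → ℂ) with hc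
  have hexp : θ = ∑ ψ : IrrCharacter G, c ψ • (ψ : G → ℂ) :=
    classFunction_eq_sum (isClassFunction_starFun h)
  have hnorm : classInner θ θ = 1 := by
    rw [← classInner_irr_self χ.2, classInner, classInner, hθ, sum_normSq_starFun h hχ]
  have hsum : ∑ ψ : IrrCharacter G, c ψ * conj (c ψ) = ((1 : ℚ) : ℂ) := by
    rw [Rat.cast_one, ← hnorm]
    conv_rhs => rw [hexp]
    rw [classInner_sum_left]
    refine Finset.sum_congr rfl fun ψ _ => ?_
    rw [classInner_smul_left]
    congr 1
    rw [← hexp, classInner_conj_symm]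
  have hle := KGV.card_ne_zero_le_sum_normSq Finset.univ (N := Nat.card G) Nat.card_pos c
    (fun ψ _ => classInner_starFun_mem_rootField hM h hχ ψ)
    (fun ψ _ => isIntegral_classInner_starFun hM h hχ ψ) 1 hsum
  set S := Finset.univ.filter fun ψ => c ψ ≠ 0 with hS
  have hcard : S.card ≤ 1 := by exact_mod_cast hle
  obtain ⟨ψ, hψ⟩ : S.Nonempty := by
    rw [Finset.nonempty_iff_ne_empty]
    intro h0
    rw [Finset.filter_eq_empty_iff] at h0
    rw [Rat.cast_one] at hsum
    exact one_ne_zero (hsum.symm.trans (Finset.sum_eq_zero fun ψ _ => by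
      rw [not_not.1 (h0 (Finset.mem_univ ψ)), zero_mul]))
  have honly : ∀ η : IrrCharacter G, η ≠ ψ → c η = 0 := fun η hη => by
    by_contra h0
    exact hη (Finset.card_le_one.1 hcard η (Finset.mem_filter.2 ⟨Finset.mem_univ η, h0⟩) ψ hψ)
  have hθψ : θ = c ψ • (ψ : G → ℂ) := by
    rw [hexp]
    exact Finset.sum_eq_single ψ (fun η _ hη => by rw [honly η hη, zero_smul])
      fun h0 => absurd (Finset.mem_univ ψ) h0
  have hcc : c ψ * conj (c ψ) = 1 := by
    rw [Rat.cast_one] at hsum
    rw [← hsum]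
    exact (Finset.sum_eq_single (f := fun η => c η * conj (c η)) ψ
      (fun η _ hη => by simp only [honly η hη, zero_mul])
      fun h0 => absurd (Finset.mem_univ ψ) h0).symm
  have hc1 : c ψ = 1 := by
    have h1 := congrFun hθψ 1
    rw [Pi.smul_apply, smul_eq_mul, hθ, starFun_one h hχ, CharCorr.irr_one_eq_charDegree,
      CharCorr.irr_one_eq_charDegree] at h1
    have hb : (charDegree (ψ : G → ℂ) : ℂ) ≠ 0 := by
      rw [← CharCorr.irr_one_eq_charDegree]; exact irr_one_ne_zero ψ
    have h2 : c ψ = (charDegree (χ : G → ℂ) : ℂ) / (charDegree (ψ : G → ℂ) : ℂ) := by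
      rw [eq_div_iff hb, ← h1]
    rw [h2, map_div₀, Complex.conj_natCast, Complex.conj_natCast, div_mul_div_comm,
      div_eq_one_iff_eq (mul_ne_zero hb hb)] at hcc
    have h3 : charDegree (χ : G → ℂ) = charDegree (ψ : G → ℂ) := Nat.mul_self_inj.1 (by exact_mod_cast hcc)
    rw [h2, h3, div_self hb]
  rw [hc1, one_smul] at hθψ
  refine ⟨ψ, ?_, hθψ.symm⟩
  by_contra hψB
  have h0 := sum_regular_eq_zero_of_not_sameBlock hM (χ := χ) (ψ := ψ) fun hs => hψB (by
    rw [IsPBlock.eq_blockOf hM h.isPBlockB hχ]; exact hs)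
  set reg := Finset.univ.filter (fun x : G => ¬ p ∣ orderOf x)
  have h1 : ∀ x ∈ reg, (ψ : G → ℂ) x = (χ : G → ℂ) x := fun x hx => by
    rw [← hθψ, hθ, starFun_regular h hχ (Finset.mem_filter.1 hx).2]
  have h2 : ∑ x ∈ reg, Complex.normSq ((χ : G → ℂ) x) = 0 := by
    rw [← Complex.ofReal_inj, Complex.ofReal_sum, Complex.ofReal_zero, ← h0]
    exact Finset.sum_congr rfl fun x hx => by rw [h1 x hx, Complex.mul_conj]
  have h3 := (Finset.sum_eq_zero_iff_of_nonneg fun x _ => Complex.normSq_nonneg _).1 h2 1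
    (Finset.mem_filter.2 ⟨Finset.mem_univ _, by rw [orderOf_one]; exact hM.1.not_dvd_one⟩)
  exact irr_one_ne_zero χ (Complex.normSq_eq_zero.1 h3)

/-- The character `lam * χ`. -/
noncomputable def starChar (h : StarCtx hM B P e lam) {χ : IrrCharacter G} (hχ : χ ∈ B) :
    IrrCharacter G :=
  (exists_star h hχ).choose

theorem starChar_mem (h : StarCtx hM B P e lam) {χ : IrrCharacter G} (hχ : χ ∈ B) :
    starChar h hχ ∈ B :=
  (exists_star h hχ).choose_spec.1

theorem starChar_coe (h : StarCtx hM B P e lam) {χ : IrrCharacter G} (hχ : χ ∈ B) :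
    ((starChar h hχ : IrrCharacter G) : G → ℂ) = starFun hM B P e lam (χ : G → ℂ) :=
  (exists_star h hχ).choose_spec.2

theorem blockHeight_starChar (h : StarCtx hM B P e lam) {χ : IrrCharacter G} (hχ : χ ∈ B) :
    blockHeight p B (starChar h hχ : G → ℂ) = blockHeight p B (χ : G → ℂ) := by
  have h1 : ((starChar h hχ : IrrCharacter G) : G → ℂ) 1 = (χ : G → ℂ) 1 := by
    rw [starChar_coe, starFun_one h hχ]
  rw [CharCorr.irr_one_eq_charDegree, CharCorr.irr_one_eq_charDegree, Nat.cast_inj] at h1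
  rw [blockHeight, blockHeight, h1]

/-- The block parts of `lam * χ` on a section. -/
theorem blockPart_starChar (h : StarCtx hM B P e lam) {χ : IrrCharacter G} (hχ : χ ∈ B) {u : G}
    (hu : ∃ k : ℕ, orderOf u = p ^ k) {s : cz (Subgroup.zpowers u)} (hs : ¬ p ∣ orderOf s)
    {b : Set (IrrCharacter (cz (Subgroup.zpowers u)))} (hb : IsPBlock M b) :
    blockPart b (secFun u (starChar h hχ : G → ℂ)) s =
      wt hM P e lam u (eA hM (cz (Subgroup.zpowers u)) b) *
        blockPart b (secFun u (χ : G → ℂ)) s := by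
  rw [blockPart_congr_regular hM hb (g := fun c => ∑ b' : {b' // b' ∈ blockSets M (cz (Subgroup.zpowers u))},
      wt hM P e lam u (eA hM (cz (Subgroup.zpowers u)) b'.1) * blockPart b'.1 (secFun u (χ : G → ℂ)) c) ?_ hs,
    blockPart_linear b (fun b' : {b' // b' ∈ blockSets M (cz (Subgroup.zpowers u))} => wt hM P e lam u (eA hM (cz (Subgroup.zpowers u)) b'.1))
      (fun b' c => blockPart b'.1 (secFun u (χ : G → ℂ)) c) s]
  · rw [Finset.sum_eq_single ⟨b, mem_blockSets.2 hb⟩]
    · rw [blockPart_blockPart hM hb hb, if_pos rfl]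
    · intro b' _ hne
      rw [blockPart_blockPart hM hb (mem_blockSets.1 b'.2), if_neg (fun h0 => hne (Subtype.ext h0.symm)),
        mul_zero]
    · exact fun h0 => absurd (Finset.mem_univ _) h0
  · intro c hc
    show (starChar h hχ : G → ℂ) (u * (c : G)) = _
    rw [starChar_coe, starFun_sec h.isPBlockB hχ hu hc]
    exact (Finset.sum_coe_sort (blockSets M (cz (Subgroup.zpowers u)))
      (fun b' => wt hM P e lam u (eA hM (cz (Subgroup.zpowers u)) b') * blockPart b' (secFun u (χ : G → ℂ)) c)).symm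

theorem StarCtx.mul {lam' : P →* ℂˣ} (h : StarCtx hM B P e lam) (h' : StarCtx hM B P e lam') :
    StarCtx hM B P e (lam * lam') := by
  refine ⟨h.hmax, fun u g g' b h1 h2 => ?_⟩
  have a := h.wd u g g' b h1 h2
  have a' := h'.wd u g g' b h1 h2
  simp only [extLam, dif_pos (mem_of_pairLE h1), dif_pos (mem_of_pairLE h2)] at a a' ⊢
  simp only [MonoidHom.mul_apply, Units.val_mul, a, a']

theorem wt_mul {lam' : P →* ℂˣ} (h : StarCtx hM B P e lam) (h' : StarCtx hM B P e lam') (u : G)
    (b : MonoidAlgebra (ResK M) G) :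
    wt hM P e (lam * lam') u b = wt hM P e lam u b * wt hM P e lam' u b := by
  by_cases hex : ∃ g : G, PairLE p (conjPair g (Subgroup.zpowers u, b)) (P, eA hM (cz P) e)
  · obtain ⟨g, hg⟩ := hex
    rw [wt, wt, wt, wA_eq (h.mul h').wd hg, wA_eq h.wd hg, wA_eq h'.wd hg, MonoidHom.mul_apply,
      Units.val_mul]
  · rw [wt, wt, wt, wA_eq_zero hex, wA_eq_zero hex, zero_mul]

/-- The action law. -/
theorem starChar_mul {lam' : P →* ℂˣ} (h : StarCtx hM B P e lam) (h' : StarCtx hM B P e lam')
    (h'' : StarCtx hM B P e (lam * lam')) {χ : IrrCharacter G} (hχ : χ ∈ B) :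
    starChar h'' hχ = starChar h (starChar_mem h' hχ) := by
  refine Subtype.ext ?_
  rw [starChar_coe, starChar_coe]
  funext g
  obtain ⟨u, s, hu, hs, rfl⟩ := exists_sec_decomp hM.1 g
  rw [starFun_sec h.isPBlockB hχ hu hs, starFun_sec h.isPBlockB (starChar_mem h' hχ) hu hs]
  refine Finset.sum_congr rfl fun b hb => ?_
  rw [blockPart_starChar h' hχ hu hs (mem_blockSets.1 hb), wt_mul h h', mul_assoc]

theorem starChar_one (h : StarCtx hM B P e (1 : P →* ℂˣ)) {χ : IrrCharacter G} (hχ : χ ∈ B) :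
    starChar h hχ = χ := by
  refine Subtype.ext ?_
  rw [starChar_coe]
  funext g
  obtain ⟨u, s, hu, hs, rfl⟩ := exists_sec_decomp hM.1 g
  refine starFun_of_weight_one h.isPBlockB hχ hu hs fun b hb hcov => ?_
  obtain ⟨g, hg, -, hw⟩ := h.exists_weight (isPGroup_zpowers hu) hb hcov
  rw [hw, MonoidHom.one_apply, Units.val_one]

/-- A fixed character has trivial weight wherever its block part does not vanish. -/
theorem lam_eq_one_of_fixed (h : StarCtx hM B P e lam) {χ : IrrCharacter G} (hχ : χ ∈ B)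
    (hfix : starChar h hχ = χ) (x : P) {b : Set (IrrCharacter (cz (Subgroup.zpowers (x : G))))}
    (hb : IsPBlock M b)
    (hle : PairLE p (Subgroup.zpowers (x : G), eA hM (cz (Subgroup.zpowers (x : G))) b)
      (P, eA hM (cz P) e))
    {s : cz (Subgroup.zpowers (x : G))} (hs : ¬ p ∣ orderOf s)
    (hne : blockPart b (secFun (x : G) (χ : G → ℂ)) s ≠ 0) : lam x = 1 := by
  have hu : ∃ k : ℕ, orderOf (x : G) = p ^ k := by
    rw [Subgroup.orderOf_coe]
    exact IsPGroup.iff_orderOf.1 h.hmax.1.1.1 x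
  have h1 := blockPart_starChar h hχ hu hs hb
  rw [hfix] at h1
  have hw : wt hM P e lam (x : G) (eA hM (cz (Subgroup.zpowers (x : G))) b) = lam x := by
    have hle' : PairLE p (conjPair (1 : G) (Subgroup.zpowers (x : G),
        eA hM (cz (Subgroup.zpowers (x : G))) b)) (P, eA hM (cz P) e) := by rwa [conjPair_one]
    rw [wt, wA_eq h.wd hle']
    congr 2
    exact Subtype.ext (by simp)
  rw [hw] at h1
  exact Units.ext (mul_right_cancel₀ hne (h1.symm.trans (one_mul _).symm))

end CfsgLib.BPStar
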