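import Cfsg.Agent.Lib.BPStar.NonVanish
import Cfsg.Agent.S4683
import Cfsg.Agent.Lib.Blocks.LocalCount

/-!
# The trace of the action of a linear character on the characters of a block

The number of characters of `B` fixed by `lam` is the sum over the elements `x` of `P` of
`lam x` times the rank of the block below `(P, e)` at `x`, divided by the number of elements of
`P` fused to `x`. For `lam = 1` this is Brauer's count of the characters of `B`.
-/

set_option autoImplicit false
set_option linter.unusedSectionVars false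
set_option linter.style.haveILetI false

namespace CfsgLib.BPStar

open Cfsg MonoidAlgebra CfsgLib.Blocks CfsgLib.BrauerPairs CfsgLib.Characters
open scoped Classical ComplexConjugate

universe u

variable {p : ℕ} [Fact p.Prime] {M : Ideal AlgInt} [M.IsMaximal]
variable {G : Type u} [Group G] [Fintype G]

/-- The `p`-elements. -/
noncomputable def pElts (p : ℕ) (G : Type u) [Group G] [Fintype G] : Finset G :=
  Finset.univ.filter fun u => ∃ k : ℕ, orderOf u = p ^ k

theorem mem_pElts {u : G} : u ∈ pElts p G ↔ ∃ k : ℕ, orderOf u = p ^ k := by simp [pElts]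

/-- A sum over the group, section by section. -/
theorem sum_sections (hp : p.Prime) (F : G → ℂ) :
    ∑ g, F g = ∑ u ∈ pElts p G,
      ∑ s ∈ Finset.univ.filter (fun s : cz (Subgroup.zpowers u) => ¬ p ∣ orderOf s),
        F (u * (s : G)) := by
  let π : G → G := fun g => (exists_isPPart hp g).choose
  rw [← Finset.sum_fiberwise_of_maps_to (g := π) (t := pElts p G) (s := Finset.univ) fun g _ => by
    obtain ⟨-, -, -, hk, -⟩ := (exists_isPPart hp g).choose_spec
    exact mem_pElts.2 hk]
  refine Finset.sum_congr rfl fun u hu => ?_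
  have hu' := mem_pElts.1 hu
  symm
  refine Finset.sum_bij (fun s _ => u * (s : G)) (fun s hs => ?_) (fun a _ b _ hab =>
    Subtype.ext (mul_left_cancel hab)) (fun g hg => ?_) fun s _ => rfl
  · rw [Finset.mem_filter] at hs ⊢
    exact ⟨Finset.mem_univ _, IsPPart.unique hp (exists_isPPart hp _).choose_spec
      (isPPart_mul (commute_of_mem_cz s.2) hu' (by rw [Subgroup.orderOf_coe]; exact hs.2))⟩
  · have hg' : π g = u := (Finset.mem_filter.1 hg).2
    obtain ⟨w, s, hw, hs, rfl⟩ := exists_sec_decomp hp g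
    have : w = u := by
      rw [← hg']
      exact (IsPPart.unique hp (exists_isPPart hp _).choose_spec
        (isPPart_mul (commute_of_mem_cz s.2) hw (by rwa [Subgroup.orderOf_coe]))).symm
    subst this
    exact ⟨s, Finset.mem_filter.2 ⟨Finset.mem_univ _, hs⟩, rfl⟩

/-- The conjugate of a block part at the inverse element. -/
theorem conj_blockPart_secFun (χ : IrrCharacter G) (u : G)
    (b : Set (IrrCharacter (cz (Subgroup.zpowers u)))) (s : cz (Subgroup.zpowers u)) :
    conj (blockPart b (secFun u (χ : G → ℂ)) s) =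
      blockPart b (fun c : cz (Subgroup.zpowers u) => (χ : G → ℂ) (u⁻¹ * c)) s⁻¹ := by
  simp only [blockPart_eq_sum, map_sum, map_mul]
  refine Finset.sum_congr rfl fun ξ _ => ?_
  rw [irr_apply_inv]
  congr 1
  simp only [classInner, map_mul, map_inv₀, Complex.conj_natCast, map_sum, Complex.conj_conj]
  refine congrArg _ (Fintype.sum_equiv (Equiv.inv _) _ _ fun c => ?_)
  simp only [secFun, Equiv.inv_apply, Subgroup.coe_inv]
  rw [← irr_apply_inv, ← irr_apply_inv (G := cz (Subgroup.zpowers u)) ξ, inv_inv, mul_inv_rev,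
    ((commute_of_mem_cz c.2).inv_inv).eq]

/-- The sum of the norms of the parts of `B` at a covered block of a centraliser. -/
theorem sum_norms_cz (hM : IsPModular p M) {B : Set (IrrCharacter G)} (hB : IsPBlock M B) {u : G}
    (hu : ∃ k : ℕ, orderOf u = p ^ k) {b : Set (IrrCharacter (cz (Subgroup.zpowers u)))}
    (hb : IsPBlock M b)
    (hcov : brMap (ResK M) (Subgroup.zpowers u) (eG hM B) * eA hM (cz (Subgroup.zpowers u)) b =
      eA hM (cz (Subgroup.zpowers u)) b) :
    ∑ χ ∈ Finset.univ.filter (· ∈ B),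
      ∑ s ∈ Finset.univ.filter (fun s : cz (Subgroup.zpowers u) => ¬ p ∣ orderOf s),
        blockPart b (secFun u (χ : G → ℂ)) s * conj (blockPart b (secFun u (χ : G → ℂ)) s) =
      (Nat.card (cz (Subgroup.zpowers u)) : ℂ) * (blockRank p b : ℂ) := by
  have hBe : IsBrauerPairOf p M B (Subgroup.zpowers u) b :=
    (isBrauerPairOf_iff hM B _ b).2
      ⟨hb, hB, isPGroup_zpowers hu, bot_le, le_top, isBlockIdem_eA hM hb, hcov⟩
  rw [← Agent.S4683.result p M hM B u hu b hBe,
    finsum_mem_eq_sum_of_inter_support_eq _ (t := Finset.univ.filter (· ∈ B)) (by simp)]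
  refine Finset.sum_congr rfl fun χ _ => ?_
  rw [finsum_eq_sum_of_fintype, Finset.sum_filter]
  refine Finset.sum_congr rfl fun s _ => ?_
  rw [conj_blockPart_secFun]
  by_cases h : p ∣ orderOf s
  · simp [pRegularPart, IsPRegular, h]
  · simp [pRegularPart, IsPRegular, h]
    left
    rfl

/-- The rank of the block of `K` with a given idempotent. -/
noncomputable def rkA (hM : IsPModular p M) (K : Subgroup G) (a : MonoidAlgebra (ResK M) G) : ℕ :=
  ∑ b ∈ blockSets M K, if eA hM K b = a then blockRank p b else 0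

theorem rkA_eA (hM : IsPModular p M) {K : Subgroup G} {b : Set (IrrCharacter K)}
    (hb : IsPBlock M b) : rkA hM K (eA hM K b) = blockRank p b := by
  rw [rkA, Finset.sum_eq_single b]
  · rw [if_pos rfl]
  · intro b' hb' hne
    rw [if_neg fun h => hne (eA_inj hM (mem_blockSets.1 hb') hb h)]
  · exact fun h => absurd (mem_blockSets.2 hb) h

theorem rkA_conj (hM : IsPModular p M) {K K' : Subgroup G} (g : G)
    (hK : ∀ k, k ∈ K' ↔ g⁻¹ * k * g ∈ K) {a : MonoidAlgebra (ResK M) G} (ha : IsBlockIdem K a) :
    rkA hM K' (conjA g a) = rkA hM K a := by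
  obtain ⟨b, hb, rfl⟩ := exists_eA_eq hM ha
  rw [conjA_eA hM g hK, rkA_eA hM hb, rkA_eA hM (isPBlock_twist _ hb), LocalCount.blockRank_twist]

theorem mem_cz_zpowers_conj_iff (g u k : G) :
    k ∈ cz (Subgroup.zpowers (g * u * g⁻¹)) ↔ g⁻¹ * k * g ∈ cz (Subgroup.zpowers u) := by
  rw [← map_conj_zpowers]
  exact mem_cz_map_conj_iff _ g k

/-- The idempotent below `(P, eP)` on the powers of `x`. -/
noncomputable def subA (p : ℕ) {k : Type*} [Field k] (P : Subgroup G) (eP : MonoidAlgebra k G)
    (x : G) : MonoidAlgebra k G :=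
  if h : ∃ f, PairLE p (Subgroup.zpowers x, f) (P, eP) then h.choose else 0

section Sub

variable (hM : IsPModular p M) {B : Set (IrrCharacter G)} {P : Subgroup G}
  {eP : MonoidAlgebra (ResK M) G}

include hM in
theorem subA_le (he : IsBlockIdem (cz P) eP) (hP : IsPGroup p P) (x : P) :
    PairLE p (Subgroup.zpowers (x : G), subA p P eP x) (P, eP) := by
  have := charP_res hM
  obtain ⟨f, -, hf⟩ := exists_pairLE (hasBlocks hM) (Subgroup.zpowers_le.2 x.2) hP he
  have h : ∃ f, PairLE p (Subgroup.zpowers (x : G), f) (P, eP) := ⟨f, hf⟩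
  rw [subA, dif_pos h]
  exact h.choose_spec

include hM in
theorem subA_block (he : IsBlockIdem (cz P) eP) (hP : IsPGroup p P) (x : P) :
    IsBlockIdem (cz (Subgroup.zpowers (x : G))) (subA p P eP x) :=
  block_of_pairLE (subA_le hM he hP x) he

include hM in
theorem eq_subA (he : IsBlockIdem (cz P) eP) (hP : IsPGroup p P) (x : P)
    {f : MonoidAlgebra (ResK M) G} (hf : PairLE p (Subgroup.zpowers (x : G), f) (P, eP)) :
    f = subA p P eP x := by
  have := charP_res hM
  exact pairLE_unique (hasBlocks hM) (b := (P, eP)) he hP hf (subA_le hM he hP x)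

end Sub

/-- The elements of `P` fused to `x` as pairs below `(P, eP)`. -/
noncomputable def clsOf (p : ℕ) {k : Type*} [Field k] (P : Subgroup G) (eP : MonoidAlgebra k G)
    (x : P) : Finset P :=
  Finset.univ.filter fun y => ∃ g : G, g * (x : G) * g⁻¹ = y ∧
    conjA g (subA p P eP x) = subA p P eP y

theorem mem_clsOf {k : Type*} [Field k] {P : Subgroup G} {eP : MonoidAlgebra k G} {x y : P} :
    y ∈ clsOf p P eP x ↔ ∃ g : G, g * (x : G) * g⁻¹ = y ∧
      conjA g (subA p P eP x) = subA p P eP y := by
  simp [clsOf]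

theorem mem_clsOf_self {k : Type*} [Field k] {P : Subgroup G} {eP : MonoidAlgebra k G} (x : P) :
    x ∈ clsOf p P eP x :=
  mem_clsOf.2 ⟨1, by simp, conjA_one_left _⟩

theorem clsOf_eq_of_mem {k : Type*} [Field k] {P : Subgroup G} {eP : MonoidAlgebra k G} {x y : P}
    (h : y ∈ clsOf p P eP x) : clsOf p P eP y = clsOf p P eP x := by
  obtain ⟨g, hg, hgf⟩ := mem_clsOf.1 h
  ext z
  rw [mem_clsOf, mem_clsOf]
  constructor
  · rintro ⟨g', hg', hgf'⟩
    exact ⟨g' * g, by rw [← hg', ← hg]; group, by rw [conjA_mul_left, hgf, hgf']⟩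
  · rintro ⟨g', hg', hgf'⟩
    refine ⟨g' * g⁻¹, by rw [← hg', ← hg]; group, ?_⟩
    rw [conjA_mul_left, ← hgf, ← conjA_mul_left g⁻¹, inv_mul_cancel, conjA_one_left, hgf']

/-- The rank at `x` divided by the size of the class of `x`. -/
noncomputable def subWeight (hM : IsPModular p M) (P : Subgroup G)
    (eP : MonoidAlgebra (ResK M) G) (x : P) : ℂ :=
  (rkA hM (cz (Subgroup.zpowers (x : G))) (subA p P eP x) : ℂ) /
    ((clsOf p P eP x).card : ℂ)

variable {B : Set (IrrCharacter G)} {P : Subgroup G}
variable {e : Set (IrrCharacter (Subgroup.centralizer (P : Set G)))} {lam : P →* ℂˣ}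
variable {hM : IsPModular p M}

/-- The characters of `B` fixed by `lam`. -/
noncomputable def fixSet (hM : IsPModular p M) (B : Set (IrrCharacter G)) (P : Subgroup G)
    (e : Set (IrrCharacter (Subgroup.centralizer (P : Set G)))) (lam : P →* ℂˣ) :
    Finset (IrrCharacter G) :=
  Finset.univ.filter fun χ => χ ∈ B ∧ starFun hM B P e lam (χ : G → ℂ) = (χ : G → ℂ)

theorem sum_star_mul_conj (h : StarCtx hM B P e lam) :
    ∑ χ ∈ Finset.univ.filter (· ∈ B),
      ∑ g, starFun hM B P e lam (χ : G → ℂ) g * conj ((χ : G → ℂ) g) =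
      (Nat.card G : ℂ) * ((fixSet hM B P e lam).card : ℂ) := by
  have key : ∀ χ ∈ Finset.univ.filter (· ∈ B),
      ∑ g, starFun hM B P e lam (χ : G → ℂ) g * conj ((χ : G → ℂ) g) =
        (Nat.card G : ℂ) *
          if starFun hM B P e lam (χ : G → ℂ) = (χ : G → ℂ) then 1 else 0 := by
    intro χ hχ
    obtain ⟨ψ, -, hψ⟩ := exists_star h (Finset.mem_filter.1 hχ).2
    have h1 := classInner_irr ψ χ
    rw [classInner, inv_mul_eq_iff_eq_mul₀ (Nat.cast_ne_zero.2 Nat.card_pos.ne')] at h1
    rw [← hψ, h1]
    congr 1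
    by_cases heq : ψ = χ
    · rw [if_pos heq, if_pos (congrArg Subtype.val heq)]
    · rw [if_neg heq, if_neg fun h' => heq (Subtype.ext h')]
  rw [Finset.sum_congr rfl key, ← Finset.mul_sum, Finset.sum_boole, fixSet, Finset.filter_filter]

theorem wt_eq_zero_of_not_cover (h : StarCtx hM B P e lam) {u : G}
    {b : MonoidAlgebra (ResK M) G}
    (hcov : brMap (ResK M) (Subgroup.zpowers u) (eG hM B) * b ≠ b) :
    wt hM P e lam u b = 0 := by
  refine wA_eq_zero ?_
  rintro ⟨g, hg⟩
  have := charP_res hM
  obtain ⟨-, hB, hO⟩ := (isBrauerPairOf_iff hM B P e).1 h.hmax.1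
  have hE := isBlockIdem_eG hM hB
  have h1 := (brMap_cover_iff hg hE.fixed hE.idem).2 hO.cover
  apply hcov
  refine conjA_inj (g := g) ?_
  rw [conjA_mul, conjA_brMap, hE.fixed g (Subgroup.mem_top g)]
  exact h1

theorem sum_section_star (h : StarCtx hM B P e lam) {u : G} (hu : ∃ k : ℕ, orderOf u = p ^ k) :
    ∑ χ ∈ Finset.univ.filter (· ∈ B),
      ∑ s ∈ Finset.univ.filter (fun s : cz (Subgroup.zpowers u) => ¬ p ∣ orderOf s),
        starFun hM B P e lam (χ : G → ℂ) (u * (s : G)) * conj ((χ : G → ℂ) (u * (s : G))) =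
      ∑ a ∈ blocksAt hM u, wt hM P e lam u a *
        ((Nat.card (cz (Subgroup.zpowers u)) : ℂ) * (rkA hM (cz (Subgroup.zpowers u)) a : ℂ)) := by
  rw [sum_blocksAt_eq hM u]
  have e1 : ∀ χ ∈ Finset.univ.filter (· ∈ B),
      ∑ s ∈ Finset.univ.filter (fun s : cz (Subgroup.zpowers u) => ¬ p ∣ orderOf s),
        starFun hM B P e lam (χ : G → ℂ) (u * (s : G)) * conj ((χ : G → ℂ) (u * (s : G))) =
      ∑ b ∈ blockSets M (cz (Subgroup.zpowers u)),
        wt hM P e lam u (eA hM (cz (Subgroup.zpowers u)) b) *
          ∑ s ∈ Finset.univ.filter (fun s : cz (Subgroup.zpowers u) => ¬ p ∣ orderOf s),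
            blockPart b (secFun u (χ : G → ℂ)) s *
              conj (blockPart b (secFun u (χ : G → ℂ)) s) := by
    intro χ hχ
    have hχB := (Finset.mem_filter.1 hχ).2
    calc _ = ∑ s ∈ Finset.univ.filter (fun s : cz (Subgroup.zpowers u) => ¬ p ∣ orderOf s),
          ∑ b ∈ blockSets M (cz (Subgroup.zpowers u)),
            ∑ b' ∈ blockSets M (cz (Subgroup.zpowers u)),
              wt hM P e lam u (eA hM (cz (Subgroup.zpowers u)) b) *
                (blockPart b (secFun u (χ : G → ℂ)) s *
                  conj (blockPart b' (secFun u (χ : G → ℂ)) s)) := by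
          refine Finset.sum_congr rfl fun s hs => ?_
          rw [starFun_sec h.isPBlockB hχB hu (Finset.mem_filter.1 hs).2,
            show (χ : G → ℂ) (u * (s : G)) = secFun u (χ : G → ℂ) s from rfl,
            ← sum_blockPart hM (isClassFunction_secFun (irr_isClassFunction χ) u) s, map_sum,
            Finset.sum_mul_sum]
          exact Finset.sum_congr rfl fun b _ => Finset.sum_congr rfl fun b' _ => by ring
      _ = ∑ b ∈ blockSets M (cz (Subgroup.zpowers u)),
          ∑ b' ∈ blockSets M (cz (Subgroup.zpowers u)),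
            wt hM P e lam u (eA hM (cz (Subgroup.zpowers u)) b) *
              ∑ s ∈ Finset.univ.filter (fun s : cz (Subgroup.zpowers u) => ¬ p ∣ orderOf s),
                blockPart b (secFun u (χ : G → ℂ)) s *
                  conj (blockPart b' (secFun u (χ : G → ℂ)) s) := by
          rw [Finset.sum_comm]
          refine Finset.sum_congr rfl fun b _ => ?_
          rw [Finset.sum_comm]
          exact Finset.sum_congr rfl fun b' _ => (Finset.mul_sum _ _ _).symm
      _ = _ := by
          refine Finset.sum_congr rfl fun b hb => ?_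
          rw [Finset.sum_eq_single b]
          · intro b' hb' hne
            rw [sum_regular_blockPart hM (mem_blockSets.1 hb) (mem_blockSets.1 hb') hne.symm,
              mul_zero]
          · exact fun h' => absurd hb h'
  rw [Finset.sum_congr rfl e1, Finset.sum_comm]
  refine Finset.sum_congr rfl fun b hb => ?_
  rw [← Finset.mul_sum, rkA_eA hM (mem_blockSets.1 hb)]
  by_cases hcov : brMap (ResK M) (Subgroup.zpowers u) (eG hM B) *
      eA hM (cz (Subgroup.zpowers u)) b = eA hM (cz (Subgroup.zpowers u)) b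
  · rw [sum_norms_cz hM h.isPBlockB hu (mem_blockSets.1 hb) hcov]
  · rw [wt_eq_zero_of_not_cover h hcov, zero_mul, zero_mul]

/-- The sum over all pairs is the sum over the defect group. -/
theorem sum_pairs_eq (h : StarCtx hM B P e lam) :
    ∑ u ∈ pElts p G, ∑ a ∈ blocksAt hM u, wt hM P e lam u a *
        ((Nat.card (cz (Subgroup.zpowers u)) : ℂ) * (rkA hM (cz (Subgroup.zpowers u)) a : ℂ)) =
      (Nat.card G : ℂ) * ∑ x : P, (lam x : ℂ) * subWeight hM P (eA hM (cz P) e) x := by
  have := charP_res hM
  obtain ⟨-, -, hO⟩ := (isBrauerPairOf_iff hM B P e).1 h.hmax.1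
  have heP := h.block
  set eP := eA hM (cz P) e with hePdef
  have hblk := fun x : P => subA_block hM heP hO.pgroup x
  set S : Finset (Σ _ : G, MonoidAlgebra (ResK M) G) :=
    (pElts p G).sigma fun u => blocksAt hM u with hS
  set φ : P × G → (Σ _ : G, MonoidAlgebra (ResK M) G) := fun t =>
    ⟨t.2 * (t.1 : G) * t.2⁻¹, conjA t.2 (subA p P eP t.1)⟩ with hφ
  have hmaps : ∀ t ∈ (Finset.univ : Finset (P × G)), φ t ∈ S := by
    rintro ⟨x, g⟩ -
    refine Finset.mem_sigma.2 ⟨mem_pElts.2 ?_, (mem_blocksAt_iff hM).2 ?_⟩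
    · show ∃ k, orderOf (g * (x : G) * g⁻¹) = p ^ k
      rw [orderOf_conj', Subgroup.orderOf_coe]
      exact IsPGroup.iff_orderOf.1 hO.pgroup x
    · show IsBlockIdem (cz (Subgroup.zpowers (g * (x : G) * g⁻¹))) (conjA g _)
      rw [← map_conj_zpowers, cz_map_conj]
      exact (hblk x).conjA g
  rw [Finset.sum_sigma']
  calc _ = ∑ i ∈ S, ∑ t ∈ Finset.univ.filter (fun t => φ t = i),
        (lam t.1 : ℂ) * subWeight hM P eP t.1 := by
        refine Finset.sum_congr rfl fun i hi => ?_
        obtain ⟨u, a⟩ := i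
        show wt hM P e lam u a * _ = _
        by_cases hex : ∃ g : G, PairLE p (conjPair g (Subgroup.zpowers u, a)) (P, eP)
        swap
        · rw [wt, wA_eq_zero hex, zero_mul, Finset.sum_eq_zero]
          intro t ht
          refine absurd ⟨t.2⁻¹, ?_⟩ hex
          simp only [hφ, Finset.mem_filter, Finset.mem_univ, true_and, Sigma.mk.injEq,
            heq_eq_eq] at ht
          rw [← ht.1, ← ht.2, ← conjPair_eq_zpowers, ← conjPair_mul, inv_mul_cancel, conjPair_one]
          exact subA_le hM heP hO.pgroup t.1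
        obtain ⟨g₁, hg₁⟩ := hex
        obtain ⟨x₀, hx₀⟩ : ∃ x₀ : P, (x₀ : G) = g₁ * u * g₁⁻¹ :=
          ⟨⟨g₁ * u * g₁⁻¹, mem_of_pairLE hg₁⟩, rfl⟩
        have ha : conjA g₁ a = subA p P eP x₀ := by
          refine eq_subA hM heP hO.pgroup x₀ ?_
          rw [hx₀, ← conjPair_eq_zpowers]
          exact hg₁
        have hwt : wt hM P e lam u a = lam x₀ := by
          rw [wt, wA_eq h.wd hg₁, Units.val_inj]
          exact congrArg lam (Subtype.ext hx₀.symm)
        have hrk : rkA hM (cz (Subgroup.zpowers u)) a =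
            rkA hM (cz (Subgroup.zpowers (x₀ : G))) (subA p P eP x₀) := by
          rw [← ha, rkA_conj hM g₁ (fun k => by rw [hx₀, mem_cz_zpowers_conj_iff])
            ((mem_blocksAt_iff hM).1 (Finset.mem_sigma.1 hi).2)]
        have hfib : ∀ x : P,
            (Finset.univ.filter fun g : G => φ (x, g) = (⟨u, a⟩ : Σ _ : G, _)).card =
              if x ∈ clsOf p P eP x₀ then Nat.card (cz (Subgroup.zpowers u)) else 0 := by
          intro x
          by_cases hx : x ∈ clsOf p P eP x₀
          · rw [if_pos hx, Nat.card_eq_fintype_card, ← Finset.card_univ]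
            obtain ⟨g₂, hg₂, hg₂a⟩ := mem_clsOf.1 hx
            have hxu : (x : G) = g₂ * g₁ * u * (g₂ * g₁)⁻¹ := by rw [← hg₂, hx₀]; group
            have hxa : subA p P eP x = conjA (g₂ * g₁) a := by rw [← hg₂a, ← ha, conjA_mul_left]
            refine (Finset.card_bij (fun (c : cz (Subgroup.zpowers u)) _ => (c : G) * (g₂ * g₁)⁻¹) (fun c _ => ?_)
              (fun c _ c' _ hcc => Subtype.ext (mul_right_cancel hcc)) fun g hg => ?_).symm
            · refine Finset.mem_filter.2 ⟨Finset.mem_univ _, ?_⟩
              have hc := (commute_of_mem_cz c.2).eq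
              simp only [hφ, Sigma.mk.injEq, heq_eq_eq]
              refine ⟨?_, ?_⟩
              · rw [hxu]
                calc _ = (c : G) * u * (c : G)⁻¹ := by group
                  _ = u := by rw [← hc, mul_inv_cancel_right]
              · rw [hxa, ← conjA_mul_left, inv_mul_cancel_right]
                exact ((mem_blocksAt_iff hM).1 (Finset.mem_sigma.1 hi).2).fixed _ c.2
            · simp only [hφ, Finset.mem_filter, Finset.mem_univ, true_and, Sigma.mk.injEq,
                heq_eq_eq] at hg
              refine ⟨⟨g * (g₂ * g₁), mem_cz_iff_conj.2 fun q hq => ?_⟩, Finset.mem_univ _, by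
                simp [mul_assoc]⟩
              have hcomm : Commute (g * (g₂ * g₁)) u := by
                refine mul_inv_eq_iff_eq_mul.1 ?_
                conv_rhs => rw [← hg.1, hxu]
                group
              obtain ⟨i, rfl⟩ := Subgroup.mem_zpowers_iff.1 hq
              rw [((hcomm.zpow_right i).symm).eq, mul_inv_cancel_right]
          · rw [if_neg hx, Finset.card_eq_zero, Finset.filter_eq_empty_iff]
            intro g _ hg
            simp only [hφ, Sigma.mk.injEq, heq_eq_eq] at hg
            refine hx (mem_clsOf.2 ⟨(g₁ * g)⁻¹, ?_, ?_⟩)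
            · rw [hx₀, ← hg.1]; group
            · rw [← ha, ← hg.2, ← conjA_mul_left, ← conjA_mul_left, mul_assoc, inv_mul_cancel,
                conjA_one_left]
        rw [Finset.sum_filter, Fintype.sum_prod_type]
        simp only
        rw [Finset.sum_congr rfl fun x _ => by
          rw [← Finset.sum_filter, Finset.sum_const, nsmul_eq_mul, hfib x, Nat.cast_ite,
            Nat.cast_zero, ite_mul, zero_mul]]
        rw [← Finset.sum_filter, Finset.filter_univ_mem]
        have hterm : ∀ x ∈ clsOf p P eP x₀, (lam x : ℂ) * subWeight hM P eP x =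
            (lam x₀ : ℂ) * subWeight hM P eP x₀ := by
          intro x hx
          obtain ⟨g₂, hg₂, hg₂a⟩ := mem_clsOf.1 hx
          have hlam : (lam x : ℂ) = lam x₀ := by
            have h0 : PairLE p (conjPair 1 (Subgroup.zpowers (x₀ : G), subA p P eP x₀)) (P, eP) := by
              rw [conjPair_one]; exact subA_le hM heP hO.pgroup x₀
            have h2 : PairLE p (conjPair g₂ (Subgroup.zpowers (x₀ : G), subA p P eP x₀)) (P, eP) := by
              rw [conjPair_eq_zpowers, hg₂, hg₂a]; exact subA_le hM heP hO.pgroup x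
            have := h.wd _ _ _ _ h2 h0
            rwa [hg₂, show (1 : G) * (x₀ : G) * 1⁻¹ = x₀ by simp, extLam_coe, extLam_coe] at this
          rw [hlam, subWeight, subWeight, clsOf_eq_of_mem hx, ← hg₂a,
            rkA_conj hM g₂ (fun k => by rw [← hg₂, mem_cz_zpowers_conj_iff]) (hblk x₀)]
        rw [← Finset.mul_sum, Finset.sum_congr rfl hterm, Finset.sum_const, nsmul_eq_mul, hwt, hrk,
          subWeight]
        have hne : ((clsOf p P eP x₀).card : ℂ) ≠ 0 :=
          Nat.cast_ne_zero.2 (Finset.card_ne_zero.2 ⟨x₀, mem_clsOf_self x₀⟩)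
        field_simp
    _ = _ := by
        rw [Finset.sum_fiberwise_of_maps_to hmaps, Fintype.sum_prod_type, Finset.mul_sum]
        refine Finset.sum_congr rfl fun x _ => ?_
        simp only
        rw [Finset.sum_const, nsmul_eq_mul, Finset.card_univ, ← Nat.card_eq_fintype_card]

/-- The trace of the action of `lam` on the characters of `B`. -/
theorem fixed_card_eq (h : StarCtx hM B P e lam) :
    ((fixSet hM B P e lam).card : ℂ) =
      ∑ x : P, (lam x : ℂ) * subWeight hM P (eA hM (cz P) e) x := by
  refine mul_left_cancel₀ (Nat.cast_ne_zero.2 Nat.card_pos.ne' : (Nat.card G : ℂ) ≠ 0) ?_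
  rw [← sum_star_mul_conj h, ← sum_pairs_eq h,
    Finset.sum_congr (s₁ := Finset.univ.filter (· ∈ B)) rfl fun (χ : IrrCharacter G) _ => sum_sections hM.1
    (fun g => starFun hM B P e lam (χ : G → ℂ) g * conj ((χ : G → ℂ) g)), Finset.sum_comm]
  exact Finset.sum_congr rfl fun u hu => sum_section_star h (mem_pElts.1 hu)

theorem starCtx_one (hmax : IsMaximalBrauerPair p M B P e) : StarCtx hM B P e (1 : P →* ℂˣ) :=
  ⟨hmax, fun u g g' b h1 h2 => by
    rw [extLam, dif_pos (mem_of_pairLE h1), extLam, dif_pos (mem_of_pairLE h2)]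
    rfl⟩

/-- Brauer's count of the characters of a block over the elements of its defect group. -/
theorem card_block_eq_sum (hmax : IsMaximalBrauerPair p M B P e) :
    (Nat.card B : ℂ) = ∑ x : P, subWeight hM P (eA hM (cz P) e) x := by
  have h := starCtx_one (hM := hM) hmax
  have hfix : fixSet hM B P e (1 : P →* ℂˣ) = Finset.univ.filter (· ∈ B) := by
    ext χ
    simp only [fixSet, Finset.mem_filter, Finset.mem_univ, true_and, and_iff_left_iff_imp]
    intro hχ
    rw [← starChar_coe h hχ, starChar_one h hχ]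
  have h1 := fixed_card_eq h
  rw [hfix] at h1
  rw [Nat.card_eq_fintype_card, ← Fintype.card_coe] at *
  simp only [MonoidHom.one_apply, Units.val_one, one_mul] at h1
  rw [← h1, Fintype.card_subtype]
  simp

end CfsgLib.BPStar
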