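import Cfsg.Agent.Lib.BPStar.Abelian

/-!
# Watanabe's theorem on blocks with abelian defect group

If `v` lies in the abelian defect group and is fixed by the stabiliser of the maximal pair, the
blocks `B` and `B_v` have the same rank and the same number of characters.
-/

set_option autoImplicit false
set_option linter.unusedSectionVars false
set_option linter.style.haveILetI false

namespace CfsgLib.BPStar

open Cfsg MonoidAlgebra CfsgLib.Blocks CfsgLib.BrauerPairs CfsgLib.Characters
open scoped Classical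

universe u

variable {p : ℕ} [Fact p.Prime] {M : Ideal AlgInt} [M.IsMaximal]

section Defs

variable {G : Type u} [Group G] [Fintype G]

/-- The rank of the blocks of `K` whose image at `P` covers `eP`. -/
noncomputable def rkC (hM : IsPModular p M) (P : Subgroup G) (eP : MonoidAlgebra (ResK M) G)
    (K : Subgroup G) : ℕ :=
  ∑ b ∈ blockSets M K, if brMap (ResK M) P (eA hM K b) * eP = eP then blockRank p b else 0

/-- The number of conjugates of `x` in `P` under `T`. -/
noncomputable def orbCard (T P : Subgroup G) (x : G) : ℕ :=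
  (Finset.univ.filter fun y : P => ∃ t ∈ T, t * x * t⁻¹ = y).card

theorem orbCard_fixed {T P : Subgroup G} {v : P} (hv : ∀ t ∈ T, t * (v : G) * t⁻¹ = v) :
    orbCard T P (v : G) = 1 := by
  rw [orbCard, Finset.card_eq_one]
  refine ⟨v, ?_⟩
  ext y
  simp only [Finset.mem_filter, Finset.mem_univ, true_and, Finset.mem_singleton]
  exact ⟨fun ⟨t, ht, hy⟩ => Subtype.ext (hy.symm.trans (hv t ht)),
    fun h => ⟨1, T.one_mem, by subst h; simp⟩⟩

theorem orbCard_mul_fixed {T P : Subgroup G} {v : P} (hv : ∀ t ∈ T, t * (v : G) * t⁻¹ = v)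
    (x : P) : orbCard T P ((v * x : P) : G) = orbCard T P (x : G) := by
  rw [orbCard, orbCard]
  refine (Finset.card_bij (fun y _ => v * y) (fun y hy => ?_) (fun a _ b _ h => mul_left_cancel h)
    fun y hy => ⟨v⁻¹ * y, ?_, mul_inv_cancel_left v y⟩).symm
  · obtain ⟨t, ht, htx⟩ := (Finset.mem_filter.1 hy).2
    refine Finset.mem_filter.2 ⟨Finset.mem_univ _, t, ht, ?_⟩
    rw [Subgroup.coe_mul, Subgroup.coe_mul, ← htx]
    nth_rewrite 2 [← hv t ht]
    group
  · obtain ⟨t, ht, htx⟩ := (Finset.mem_filter.1 hy).2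
    refine Finset.mem_filter.2 ⟨Finset.mem_univ _, t, ht, ?_⟩
    rw [Subgroup.coe_mul, Subgroup.coe_inv, ← htx, Subgroup.coe_mul]
    nth_rewrite 1 [← hv t ht]
    group

variable {hM : IsPModular p M}

/-- Two blocks of `K` whose images cover the same nonzero idempotent are equal. -/
theorem eA_cover_unique {P : Subgroup G} (hP : IsPGroup p P) {eP : MonoidAlgebra (ResK M) G}
    (heP : eP ≠ 0) {K : Subgroup G} (hPK : P ≤ K) {b b' : Set (IrrCharacter K)}
    (hb : IsPBlock M b) (hb' : IsPBlock M b')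
    (h : brMap (ResK M) P (eA hM K b) * eP = eP) (h' : brMap (ResK M) P (eA hM K b') * eP = eP) :
    b = b' := by
  have := charP_res hM
  by_contra hne
  have hi := isBlockIdem_eA hM hb
  have hi' := isBlockIdem_eA hM hb'
  apply heP
  calc eP = brMap (ResK M) P (eA hM K b) * (brMap (ResK M) P (eA hM K b') * eP) := by rw [h', h]
    _ = 0 := by
      rw [← mul_assoc, ← brMap_mul hP (fixAlg_anti hPK hi.fixed) (fixAlg_anti hPK hi'.fixed),
        hi.mul_eq_zero hi' fun heq => hne (eA_inj hM hb hb' heq), map_zero, zero_mul]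

theorem rkC_eq {P : Subgroup G} (hP : IsPGroup p P) {eP : MonoidAlgebra (ResK M) G}
    (heP : eP ≠ 0) {K : Subgroup G} (hPK : P ≤ K) {b : Set (IrrCharacter K)}
    (hb : IsPBlock M b) (h : brMap (ResK M) P (eA hM K b) * eP = eP) :
    rkC hM P eP K = blockRank p b := by
  rw [rkC, Finset.sum_eq_single b, if_pos h]
  · intro b' hb' hne
    rw [if_neg fun h' => hne (eA_cover_unique hP heP hPK (mem_blockSets.1 hb') hb h' h)]
  · exact fun h' => absurd (mem_blockSets.2 hb) h'

/-- The rank seen inside a subgroup. -/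
theorem rkC_inside {P : Subgroup G} {eP : MonoidAlgebra (ResK M) G} {H : Subgroup G}
    [Fintype H] (hPH : P ≤ H) {eP' : MonoidAlgebra (ResK M) H}
    (he : inclA (ResK M) H eP' = eP) {K' : Subgroup H} {K : Subgroup G} (hle : K ≤ H)
    (hK : ∀ x : H, x ∈ K' ↔ (x : G) ∈ K) :
    rkC hM (P.subgroupOf H) eP' K' = rkC hM P eP K := by
  symm
  refine Finset.sum_bij (fun b _ => CharCorr.twistIrr (inEquiv hle hK) '' b)
    (fun b hb => mem_blockSets.2 (isPBlock_twist _ (mem_blockSets.1 hb)))
    (fun a _ b _ h => Set.image_injective.2 (twistIrr_injective _) h) (fun b' hb' => ?_)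
    fun b hb => ?_
  · refine ⟨CharCorr.twistIrr (inEquiv hle hK).symm '' b',
      mem_blockSets.2 (isPBlock_twist _ (mem_blockSets.1 hb')), ?_⟩
    rw [Set.image_image]
    simp [twistIrr_symm]
  · have hiff : brMap (ResK M) (P.subgroupOf H)
        (eA hM K' (CharCorr.twistIrr (inEquiv hle hK) '' b)) * eP' = eP' ↔
          brMap (ResK M) P (eA hM K b) * eP = eP := by
      rw [← (inclA_injective H).eq_iff, map_mul, inclA_brMap,
        Subgroup.map_subgroupOf_eq_of_le hPH, inclA_eA hM hle hK, he]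
    rw [LocalCount.blockRank_twist]
    by_cases h : brMap (ResK M) P (eA hM K b) * eP = eP
    · rw [if_pos h, if_pos (hiff.2 h)]
    · rw [if_neg h, if_neg fun h' => h (hiff.1 h')]

theorem pairStab_inside {P : Subgroup G} {eP : MonoidAlgebra (ResK M) G} {H : Subgroup G}
    [Fintype H] (hPH : P ≤ H) {eP' : MonoidAlgebra (ResK M) H}
    (he : inclA (ResK M) H eP' = eP) (t : H) :
    t ∈ pairStab (P.subgroupOf H) eP' ↔ (t : G) ∈ pairStab P eP := by
  rw [mem_pairStab, mem_pairStab, ← (inclA_injective H).eq_iff, inclA_conjA, he]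
  refine and_congr ?_ Iff.rfl
  rw [Subgroup.mem_normalizer_iff, Subgroup.mem_normalizer_iff]
  constructor
  · intro h y
    constructor
    · intro hy
      exact (h ⟨y, hPH hy⟩).1 hy
    · intro hy
      have hyH : y ∈ H := by
        have := H.mul_mem (H.mul_mem (H.inv_mem t.2) (hPH hy)) t.2
        simpa [mul_assoc] using this
      exact (h ⟨y, hyH⟩).2 hy
  · intro h y
    exact h (y : G)

end Defs

namespace AbCtx

variable {G : Type u} [Group G] [Fintype G]
variable {B : Set (IrrCharacter G)} {P : Subgroup G}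
variable {e : Set (IrrCharacter (Subgroup.centralizer (P : Set G)))}
variable {hM : IsPModular p M} (c : AbCtx hM B P e)
include c

theorem subWeight_eq (x : P) :
    subWeight hM P (eA hM (cz P) e) x =
      (rkC hM P (eA hM (cz P) e) (cz (Subgroup.zpowers (x : G))) : ℂ) /
        (orbCard (pairStab P (eA hM (cz P) e)) P (x : G) : ℂ) := by
  have h1 : rkA hM (cz (Subgroup.zpowers (x : G))) (subA p P (eA hM (cz P) e) x) =
      rkC hM P (eA hM (cz P) e) (cz (Subgroup.zpowers (x : G))) := by
    rw [rkA, rkC]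
    refine Finset.sum_congr rfl fun b hb => ?_
    have hiff := c.eA_eq_subA_iff x (mem_blockSets.1 hb)
    by_cases h : brMap (ResK M) P (eA hM (cz (Subgroup.zpowers (x : G))) b) * eA hM (cz P) e =
        eA hM (cz P) e
    · rw [if_pos h, if_pos (hiff.2 h)]
    · rw [if_neg h, if_neg fun h' => h (hiff.1 h')]
  have h2 : (clsOf p P (eA hM (cz P) e) x).card =
      orbCard (pairStab P (eA hM (cz P) e)) P (x : G) := by
    rw [orbCard]
    congr 1
    ext y
    simp only [c.mem_clsOf_iff, Finset.mem_filter, Finset.mem_univ, true_and]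
  rw [subWeight, h1, h2]

/-- The rank of `B` itself. -/
theorem rkC_top : rkC hM P (eA hM (cz P) e) ⊤ = blockRank p B := by
  have hb : IsPBlock M
      (CharCorr.twistIrr (Subgroup.topEquiv : (⊤ : Subgroup G) ≃* G) '' B) :=
    isPBlock_twist _ c.isPBlockB
  have h1 : eA hM (⊤ : Subgroup G)
      (CharCorr.twistIrr (Subgroup.topEquiv : (⊤ : Subgroup G) ≃* G) '' B) = eG hM B := by
    ext g
    refine coeff_redFun_congr hM ?_
    rw [show g = (((⟨g, Subgroup.mem_top g⟩ : (⊤ : Subgroup G))) : G) from rfl,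
      subgroupBlockCoeff_coe, blockCoeff_twist]
    rfl
  rw [rkC_eq c.pgroup c.block.ne_zero le_top hb (by rw [h1]; exact c.cover),
    LocalCount.blockRank_twist]

/-- The maximal pair inside the centraliser of an element of `P`. -/
theorem exists_inside (x : P) {H : Subgroup G} (hH : H = cz (Subgroup.zpowers (x : G)))
    [Fintype H] :
    ∃ (β : Set (IrrCharacter H))
      (e' : Set (IrrCharacter (Subgroup.centralizer ((P.subgroupOf H : Subgroup H) : Set H)))),
      AbCtx hM β (P.subgroupOf H) e' ∧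
      inclA (ResK M) H (eA hM (cz (P.subgroupOf H)) e') = eA hM (cz P) e ∧
      brMap (ResK M) P (eA hM H β) * eA hM (cz P) e = eA hM (cz P) e := by
  subst hH
  obtain ⟨f, hf, -, -, hdg, hov⟩ := c.exists_local x
  have hPH := c.le_cz_zpowers x
  have hle : cz P ≤ cz (Subgroup.zpowers (x : G)) := cz_anti (Subgroup.zpowers_le.2 x.2)
  have hK : ∀ y : cz (Subgroup.zpowers (x : G)),
      y ∈ cz (P.subgroupOf (cz (Subgroup.zpowers (x : G)))) ↔ (y : G) ∈ cz P :=
    mem_cz_subgroupOf hPH
  refine ⟨f, CharCorr.twistIrr (inEquiv hle hK) '' e, ⟨?_, ?_⟩, inclA_eA hM hle hK e, hov.cover⟩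
  · have hbe : IsPBlock M (CharCorr.twistIrr (inEquiv hle hK) '' e) :=
      isPBlock_twist _ c.hmax.1.1.2
    refine (isMaximalBrauerPair_iff hM f _ _).2 ⟨(isBrauerPairOf_iff hM f _ _).2 ⟨hbe, hf,
      c.pgroup.comap_subtype, bot_le, le_top, isBlockIdem_eA hM hbe, ?_⟩,
      (isDefectGroup_iff hM hf _).1 hdg⟩
    rw [← (inclA_injective (cz (Subgroup.zpowers (x : G)))).eq_iff, map_mul, inclA_brMap,
      Subgroup.map_subgroupOf_eq_of_le hPH, inclA_eA hM hle hK, inclA_eG]
    exact hov.cover
  · intro y hy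
    exact (mem_cz_subgroupOf hPH y).2 (c.comm hy)

end AbCtx

/-- Watanabe's theorem for the ranks, by induction on the order of the group. -/
theorem rkC_fixed_aux (hM : IsPModular p M) (n : ℕ) :
    ∀ (G : Type u) [Group G] [Fintype G] (B : Set (IrrCharacter G)) (P : Subgroup G)
      (e : Set (IrrCharacter (Subgroup.centralizer (P : Set G)))),
      AbCtx hM B P e → Nat.card G = n → ∀ v : P,
        (∀ t ∈ pairStab P (eA hM (cz P) e), t * (v : G) * t⁻¹ = v) →
          rkC hM P (eA hM (cz P) e) (cz (Subgroup.zpowers (v : G))) =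
            rkC hM P (eA hM (cz P) e) ⊤ := by
  induction n using Nat.strong_induction_on with
  | _ n ih =>
    intro G _ _ B P e c hn v hv
    set T := pairStab P (eA hM (cz P) e) with hT
    -- the statement inside a proper centraliser
    have step : ∀ z : P, (¬ ∀ t ∈ T, t * (z : G) * t⁻¹ = z) →
        rkC hM P (eA hM (cz P) e) (cz (Subgroup.zpowers (z : G))) =
          rkC hM P (eA hM (cz P) e)
            (cz (Subgroup.zpowers (v : G)) ⊓ cz (Subgroup.zpowers (z : G))) := by
      intro z hz
      obtain ⟨β, e', c', he', -⟩ := c.exists_inside z rfl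
      have hlt : Nat.card (cz (Subgroup.zpowers (z : G))) < n := by
        rw [← hn]
        refine lt_of_le_of_ne (Subgroup.card_le_card_group _) fun heq => hz fun t _ => ?_
        have htop := Subgroup.eq_top_of_card_eq _ heq
        have ht : t ∈ cz (Subgroup.zpowers (z : G)) := htop ▸ Subgroup.mem_top t
        rw [mul_inv_eq_iff_eq_mul]
        exact (mem_cz.1 ht z (Subgroup.mem_zpowers _)).symm
      have hPH := c.le_cz_zpowers z
      have h := ih _ hlt _ β _ e' c' rfl ⟨⟨v, hPH v.2⟩, v.2⟩ fun t ht =>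
        Subtype.ext (hv t ((pairStab_inside hPH he' t).1 ht))
      rw [rkC_inside hPH he' (K := cz (Subgroup.zpowers (v : G)) ⊓ cz (Subgroup.zpowers (z : G)))
          inf_le_right (fun y => by
            rw [Subgroup.mem_inf, mem_cz, mem_cz]
            refine ⟨fun h => ⟨fun q hq => ?_, y.2⟩, fun h q hq => ?_⟩
            · obtain ⟨i, rfl⟩ := Subgroup.mem_zpowers_iff.1 hq
              exact congrArg Subtype.val (h ((⟨v, hPH v.2⟩ : cz (Subgroup.zpowers (z : G))) ^ i)
                (Subgroup.mem_zpowers_iff.2 ⟨i, rfl⟩))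
            · obtain ⟨i, rfl⟩ := Subgroup.mem_zpowers_iff.1 hq
              exact Subtype.ext (h.1 _ (Subgroup.mem_zpowers_iff.2 ⟨i, rfl⟩))),
        rkC_inside hPH he' (K := cz (Subgroup.zpowers (z : G))) le_rfl
          (fun y => ⟨fun _ => y.2, fun _ => Subgroup.mem_top y⟩)] at h
      exact h.symm
    obtain ⟨π, hπi, hπf, hsum⟩ := c.exists_retraction_sum
    have hπv : π v = v := hπf v hv
    have h1 := hsum v hv
    rw [Finset.sum_bij' (s := Finset.univ.filter fun x : P => π x = v)
      (t := Finset.univ.filter fun x : P => π x = 1)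
      (g := fun k => subWeight hM P (eA hM (cz P) e) (v * k))
      (fun x _ => v⁻¹ * x) (fun k _ => v * k)
      (fun x hx => Finset.mem_filter.2 ⟨Finset.mem_univ _, by
        rw [map_mul, map_inv, hπv, (Finset.mem_filter.1 hx).2, inv_mul_cancel]⟩)
      (fun k hk => Finset.mem_filter.2 ⟨Finset.mem_univ _, by
        rw [map_mul, hπv, (Finset.mem_filter.1 hk).2, mul_one]⟩)
      (fun x _ => mul_inv_cancel_left v x) (fun k _ => inv_mul_cancel_left v k)
      (fun x _ => by simp only [mul_inv_cancel_left])] at h1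
    have h11 : (1 : P) ∈ Finset.univ.filter (fun x : P => π x = 1) :=
      Finset.mem_filter.2 ⟨Finset.mem_univ _, map_one π⟩
    rw [← Finset.sum_erase_add _ _ h11, ← Finset.sum_erase_add _ _ h11,
      Finset.sum_congr rfl (g := fun k => subWeight hM P (eA hM (cz P) e) k) fun k hk => ?_] at h1
    · have h2 := add_left_cancel h1
      rw [mul_one, c.subWeight_eq v, c.subWeight_eq 1, orbCard_fixed hv,
        orbCard_fixed (v := (1 : P)) (fun t _ => by simp), Nat.cast_one, div_one, div_one,
        Nat.cast_inj, OneMemClass.coe_one, Subgroup.zpowers_one_eq_bot, cz_bot] at h2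
      exact h2
    · obtain ⟨hk1, hk⟩ := Finset.mem_erase.1 hk
      have hkπ : π k = 1 := (Finset.mem_filter.1 hk).2
      have hkf : ¬ ∀ t ∈ T, t * (k : G) * t⁻¹ = k := fun h => hk1 ((hπf k h).symm.trans hkπ)
      have hvkf : ¬ ∀ t ∈ T, t * ((v * k : P) : G) * t⁻¹ = (v * k : P) := fun h => hkf fun t ht =>
        mul_left_cancel (a := (v : G)) (by
          have h2 := h t ht
          rw [Subgroup.coe_mul] at h2
          nth_rewrite 1 [← hv t ht]
          rw [← h2]
          group)
      have hcz : cz (Subgroup.zpowers (v : G)) ⊓ cz (Subgroup.zpowers ((v * k : P) : G)) =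
          cz (Subgroup.zpowers (v : G)) ⊓ cz (Subgroup.zpowers (k : G)) := by
        ext y
        simp only [Subgroup.mem_inf, ← CyclicDefectBound.centralizer_singleton_eq,
          Subgroup.mem_centralizer_singleton_iff, Subgroup.coe_mul]
        refine and_congr_right fun h1 => ⟨fun h2 => ?_, fun h2 => ?_⟩
        · refine mul_left_cancel (a := (v : G)) ?_
          rw [← mul_assoc, ← h1, mul_assoc, h2, mul_assoc]
        · rw [← mul_assoc, h1, mul_assoc, h2, mul_assoc]
      rw [c.subWeight_eq, c.subWeight_eq, orbCard_mul_fixed hv, step k hkf, step _ hvkf, hcz]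

namespace AbCtx

variable {G : Type u} [Group G] [Fintype G]
variable {B : Set (IrrCharacter G)} {P : Subgroup G}
variable {e : Set (IrrCharacter (Subgroup.centralizer (P : Set G)))}
variable {hM : IsPModular p M} (c : AbCtx hM B P e)
include c

theorem rkC_fixed {v : P} (hv : ∀ t ∈ pairStab P (eA hM (cz P) e), t * (v : G) * t⁻¹ = v) :
    rkC hM P (eA hM (cz P) e) (cz (Subgroup.zpowers (v : G))) =
      rkC hM P (eA hM (cz P) e) ⊤ :=
  rkC_fixed_aux hM _ G B P e c rfl v hv

/-- A fixed element can be adjoined to any subsection. -/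
theorem rkC_inf_fixed {v : P} (hv : ∀ t ∈ pairStab P (eA hM (cz P) e), t * (v : G) * t⁻¹ = v)
    (x : P) :
    rkC hM P (eA hM (cz P) e) (cz (Subgroup.zpowers (x : G)) ⊓ cz (Subgroup.zpowers (v : G))) =
      rkC hM P (eA hM (cz P) e) (cz (Subgroup.zpowers (x : G))) := by
  obtain ⟨β, e', c', he', -⟩ := c.exists_inside x rfl
  have hPH := c.le_cz_zpowers x
  have h := c'.rkC_fixed (v := ⟨⟨v, hPH v.2⟩, v.2⟩) fun t ht =>
    Subtype.ext (hv t ((pairStab_inside hPH he' t).1 ht))
  rw [rkC_inside hPH he' (K := cz (Subgroup.zpowers (x : G)) ⊓ cz (Subgroup.zpowers (v : G)))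
      inf_le_left (fun y => by
        rw [Subgroup.mem_inf, mem_cz, mem_cz]
        refine ⟨fun h => ⟨y.2, fun q hq => ?_⟩, fun h q hq => ?_⟩
        · obtain ⟨i, rfl⟩ := Subgroup.mem_zpowers_iff.1 hq
          exact congrArg Subtype.val (h ((⟨v, hPH v.2⟩ : cz (Subgroup.zpowers (x : G))) ^ i)
            (Subgroup.mem_zpowers_iff.2 ⟨i, rfl⟩))
        · obtain ⟨i, rfl⟩ := Subgroup.mem_zpowers_iff.1 hq
          exact Subtype.ext (h.2 _ (Subgroup.mem_zpowers_iff.2 ⟨i, rfl⟩))),
    rkC_inside hPH he' (K := cz (Subgroup.zpowers (x : G))) le_rfl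
      (fun y => ⟨fun _ => y.2, fun _ => Subgroup.mem_top y⟩)] at h
  exact h

/-- Watanabe: `B` and its subsection at a fixed element have equal invariants. -/
theorem watanabe {v : P} (hv : ∀ t ∈ pairStab P (eA hM (cz P) e), t * (v : G) * t⁻¹ = v)
    {H : Subgroup G} (hH : H = cz (Subgroup.zpowers (v : G))) [Fintype H]
    {f : Set (IrrCharacter H)} (hf : IsPBlock M f)
    (hcov : brMap (ResK M) P (eA hM H f) * eA hM (cz P) e = eA hM (cz P) e) :
    blockRank p B = blockRank p f ∧ Nat.card B = Nat.card f := by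
  obtain ⟨β, e', c', he', hcβ⟩ := c.exists_inside v hH
  subst hH
  have hPH := c.le_cz_zpowers v
  obtain rfl : f = β := eA_cover_unique c.pgroup c.block.ne_zero hPH hf c'.isPBlockB hcov hcβ
  constructor
  · rw [← c.rkC_top, ← c.rkC_fixed hv, rkC_eq c.pgroup c.block.ne_zero hPH hf hcov]
  · have hTH : pairStab P (eA hM (cz P) e) ≤ cz (Subgroup.zpowers (v : G)) := fun t ht => by
      rw [← CyclicDefectBound.centralizer_singleton_eq, Subgroup.mem_centralizer_singleton_iff]
      exact mul_inv_eq_iff_eq_mul.1 (hv t ht)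
    suffices h : (Nat.card B : ℂ) = (Nat.card f : ℂ) by exact_mod_cast h
    rw [card_block_eq_sum c.hmax (hM := hM), card_block_eq_sum c'.hmax (hM := hM)]
    symm
    refine Fintype.sum_equiv (Subgroup.subgroupOfEquivOfLe hPH).toEquiv _ _ fun x => ?_
    rw [c'.subWeight_eq, c.subWeight_eq]
    have hcast : ((Subgroup.subgroupOfEquivOfLe hPH).toEquiv x : G) =
        ((x : cz (Subgroup.zpowers (v : G))) : G) := rfl
    rw [hcast]
    congr 2
    · rw [rkC_inside hPH he' (K := cz (Subgroup.zpowers ((x : cz (Subgroup.zpowers (v : G))) : G)) ⊓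
          cz (Subgroup.zpowers (v : G))) inf_le_right (fun y => by
        rw [Subgroup.mem_inf, mem_cz, mem_cz]
        refine ⟨fun h => ⟨fun q hq => ?_, y.2⟩, fun h q hq => ?_⟩
        · obtain ⟨i, rfl⟩ := Subgroup.mem_zpowers_iff.1 hq
          exact congrArg Subtype.val (h ((x : cz (Subgroup.zpowers (v : G))) ^ i)
            (Subgroup.mem_zpowers_iff.2 ⟨i, rfl⟩))
        · obtain ⟨i, rfl⟩ := Subgroup.mem_zpowers_iff.1 hq
          exact Subtype.ext (h.1 _ (Subgroup.mem_zpowers_iff.2 ⟨i, rfl⟩)))]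
      exact c.rkC_inf_fixed hv ((Subgroup.subgroupOfEquivOfLe hPH) x)
    · rw [orbCard, orbCard]
      refine Finset.card_bij (fun y _ => (Subgroup.subgroupOfEquivOfLe hPH) y) (fun y hy => ?_)
        (fun a _ b _ h => (Subgroup.subgroupOfEquivOfLe hPH).injective h) fun y hy => ?_
      · simp only [Finset.mem_filter, Finset.mem_univ, true_and] at hy ⊢
        obtain ⟨t, ht, htx⟩ := hy
        exact ⟨t, (pairStab_inside hPH he' t).1 ht, congrArg Subtype.val htx⟩
      · simp only [Finset.mem_filter, Finset.mem_univ, true_and] at hy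
        obtain ⟨t, ht, htx⟩ := hy
        refine ⟨(Subgroup.subgroupOfEquivOfLe hPH).symm y, ?_, MulEquiv.apply_symm_apply _ _⟩
        simp only [Finset.mem_filter, Finset.mem_univ, true_and]
        exact ⟨⟨t, hTH ht⟩, (pairStab_inside hPH he' _).2 ht, Subtype.ext htx⟩

end AbCtx

end CfsgLib.BPStar
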