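import Cfsg.Agent.Lib.BPStar.Integral
import Cfsg.Agent.Lib.BPStar.MIndep

/-!
# The weight of a pair attached to a linear character of the defect group

A linear character of `P` that kills the focal subgroup gives a number to every pair `(u, b)` that
is conjugate to a pair below `(P, e)`; this is a twist in the sense of `IsTwist`, and it does not
depend on the maximal ideal over `p`.
-/

set_option autoImplicit false
set_option linter.unusedSectionVars false

namespace CfsgLib.BPStar

open Cfsg MonoidAlgebra CfsgLib.Blocks CfsgLib.BrauerPairs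
open scoped Classical

universe u

section Generic

variable {G : Type u} [Group G]

/-- The extension by zero of a linear character. -/
noncomputable def extLam {P : Subgroup G} (lam : P →* ℂˣ) (x : G) : ℂ :=
  if h : x ∈ P then (lam ⟨x, h⟩ : ℂ) else 0

theorem extLam_coe {P : Subgroup G} (lam : P →* ℂˣ) (x : P) : extLam lam (x : G) = lam x := by
  rw [extLam, dif_pos x.2]

theorem map_conj_zpowers (g u : G) :
    (Subgroup.zpowers u).map (MulAut.conj g).toMonoidHom = Subgroup.zpowers (g * u * g⁻¹) := by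
  rw [MonoidHom.map_zpowers]; rfl

theorem conjPair_eq_zpowers {k : Type*} [Field k] (g u : G) (b : MonoidAlgebra k G) :
    conjPair g (Subgroup.zpowers u, b) = (Subgroup.zpowers (g * u * g⁻¹), conjA g b) :=
  Prod.ext (map_conj_zpowers g u) rfl

variable {k : Type*} [Field k] (p : ℕ)

/-- The weight of the pair `(u, b)`. -/
noncomputable def wA (P : Subgroup G) (eP : MonoidAlgebra k G) (lam : P →* ℂˣ) (u : G)
    (b : MonoidAlgebra k G) : ℂ :=
  if H : ∃ g : G, PairLE p (conjPair g (Subgroup.zpowers u, b)) (P, eP) then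
    extLam lam (H.choose * u * H.choose⁻¹) else 0

/-- `lam` is constant on the classes of the fusion of pairs below `(P, eP)`. -/
def WellDef (P : Subgroup G) (eP : MonoidAlgebra k G) (lam : P →* ℂˣ) : Prop :=
  ∀ (u g g' : G) (b : MonoidAlgebra k G),
    PairLE p (conjPair g (Subgroup.zpowers u, b)) (P, eP) →
    PairLE p (conjPair g' (Subgroup.zpowers u, b)) (P, eP) →
      extLam lam (g * u * g⁻¹) = extLam lam (g' * u * g'⁻¹)

variable {p} {P : Subgroup G} {eP : MonoidAlgebra k G}

theorem mem_of_pairLE {g u : G} {b : MonoidAlgebra k G}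
    (h : PairLE p (conjPair g (Subgroup.zpowers u, b)) (P, eP)) : g * u * g⁻¹ ∈ P := by
  have h1 := h.le
  rw [conjPair_eq_zpowers] at h1
  exact h1 (Subgroup.mem_zpowers _)

theorem wA_eq {lam : P →* ℂˣ} (hw : WellDef p P eP lam) {g u : G} {b : MonoidAlgebra k G}
    (h : PairLE p (conjPair g (Subgroup.zpowers u, b)) (P, eP)) :
    wA p P eP lam u b = lam ⟨g * u * g⁻¹, mem_of_pairLE h⟩ := by
  have H : ∃ g : G, PairLE p (conjPair g (Subgroup.zpowers u, b)) (P, eP) := ⟨g, h⟩
  rw [wA, dif_pos H, hw u H.choose g b H.choose_spec h, extLam, dif_pos (mem_of_pairLE h)]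

theorem wA_eq_zero {lam : P →* ℂˣ} {u : G} {b : MonoidAlgebra k G}
    (h : ¬ ∃ g : G, PairLE p (conjPair g (Subgroup.zpowers u, b)) (P, eP)) :
    wA p P eP lam u b = 0 := by
  rw [wA, dif_neg h]

theorem wA_conj {lam : P →* ℂˣ} (hw : WellDef p P eP lam) (t u : G) (b : MonoidAlgebra k G) :
    wA p P eP lam (t * u * t⁻¹) (conjA t b) = wA p P eP lam u b := by
  have key : ∀ g : G, conjPair g (Subgroup.zpowers (t * u * t⁻¹), conjA t b) =
      conjPair (g * t) (Subgroup.zpowers u, b) := fun g => by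
    rw [conjPair_mul, conjPair_eq_zpowers t]
  by_cases h : ∃ g : G, PairLE p (conjPair g (Subgroup.zpowers u, b)) (P, eP)
  · obtain ⟨g, hg⟩ := h
    have hg' : PairLE p (conjPair (g * t⁻¹) (Subgroup.zpowers (t * u * t⁻¹), conjA t b)) (P, eP) := by
      rwa [key, inv_mul_cancel_right]
    rw [wA_eq hw hg, wA_eq hw hg']
    congr 2
    ext
    show g * t⁻¹ * (t * u * t⁻¹) * (g * t⁻¹)⁻¹ = g * u * g⁻¹
    group
  · rw [wA_eq_zero h, wA_eq_zero]
    rintro ⟨g, hg⟩
    exact h ⟨g * t, by rwa [← key]⟩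

end Generic

variable {p : ℕ} [Fact p.Prime] {M : Ideal AlgInt} [M.IsMaximal]
variable {G : Type u} [Group G] [Fintype G]
variable {B : Set (IrrCharacter G)} {P : Subgroup G}
variable {e : Set (IrrCharacter (Subgroup.centralizer (P : Set G)))} {lam : P →* ℂˣ}

/-- The data for the twist of the characters of `B` by `lam`. -/
structure StarCtx (hM : IsPModular p M) (B : Set (IrrCharacter G)) (P : Subgroup G)
    (e : Set (IrrCharacter (Subgroup.centralizer (P : Set G)))) (lam : P →* ℂˣ) : Prop where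
  hmax : IsMaximalBrauerPair p M B P e
  wd : WellDef p P (eA hM (cz P) e) lam

/-- The weight of the context. -/
noncomputable def wt (hM : IsPModular p M) (P : Subgroup G)
    (e : Set (IrrCharacter (Subgroup.centralizer (P : Set G)))) (lam : P →* ℂˣ) :
    G → MonoidAlgebra (ResK M) G → ℂ :=
  wA p P (eA hM (cz P) e) lam

variable {hM : IsPModular p M}

theorem isPBlock_conjBlock (hM : IsPModular p M) (Q : Subgroup G) (g : G)
    {f : Set (IrrCharacter (Subgroup.centralizer (Q : Set G)))} (hf : IsPBlock M f) :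
    IsPBlock M (conjBlock Q g f) := by
  rw [conjBlock_eq]
  exact isPBlock_twist _ hf

/-- Inclusion of a conjugated pair, in both languages. -/
theorem pairLE_conjPair_iff (hM : IsPModular p M) {Q : Subgroup G}
    {f : Set (IrrCharacter (Subgroup.centralizer (Q : Set G)))} (hf : IsPBlock M f)
    (he : IsPBlock M e) (g : G) :
    PairLE p (conjPair g (Q, eA hM (cz Q) f)) (P, eA hM (cz P) e) ↔
      SubpairLE p M (Q.map (MulAut.conj g).toMonoidHom) (conjBlock Q g f) P e := by
  rw [subpairLE_iff hM (isPBlock_conjBlock hM Q g hf) he, ← conjA_eA_conjBlock]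
  exact Iff.rfl

theorem block_of_pairLE {k : Type*} [Field k] {a b : Subgroup G × MonoidAlgebra k G}
    (h : PairLE p a b) (hb : IsBlockIdem (cz b.1) b.2) : IsBlockIdem (cz a.1) a.2 := by
  induction h using Relation.ReflTransGen.head_induction_on with
  | refl => exact hb
  | head hxy _ _ => exact hxy.block_left

theorem block_of_conjPair_pairLE {k : Type*} [Field k] {g : G} {Q : Subgroup G}
    {b : MonoidAlgebra k G} {eP : MonoidAlgebra k G} (heP : IsBlockIdem (cz P) eP)
    (h : PairLE p (conjPair g (Q, b)) (P, eP)) : IsBlockIdem (cz Q) b := by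
  have h1 := h.conj g⁻¹
  rw [← conjPair_mul, inv_mul_cancel, conjPair_one] at h1
  refine block_of_pairLE h1 ?_
  show IsBlockIdem (cz (P.map _)) _
  rw [cz_map_conj]
  exact heP.conjA g⁻¹

theorem StarCtx.isPBlock (h : StarCtx hM B P e lam) : IsPBlock M e := h.hmax.1.1.2

theorem StarCtx.block (h : StarCtx hM B P e lam) : IsBlockIdem (cz P) (eA hM (cz P) e) :=
  isBlockIdem_eA hM h.isPBlock

theorem StarCtx.isPBlockB (h : StarCtx hM B P e lam) : IsPBlock M B := h.hmax.1.2.1

/-- The weights agree for the two ideals. -/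
theorem wt_transfer {M' : Ideal AlgInt} [M'.IsMaximal] {hM' : IsPModular p M'}
    (h : StarCtx hM B P e lam) (h' : StarCtx hM' B P e lam) {u : G}
    {b : Set (IrrCharacter (cz (Subgroup.zpowers u)))} (hb : IsPBlock M b) :
    wt hM P e lam u (eA hM (cz (Subgroup.zpowers u)) b) =
      wt hM' P e lam u (eA hM' (cz (Subgroup.zpowers u)) b) := by
  have hb' := isPBlock_transfer hM hM' hb
  have key : ∀ g : G,
      PairLE p (conjPair g (Subgroup.zpowers u, eA hM (cz (Subgroup.zpowers u)) b))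
          (P, eA hM (cz P) e) ↔
        PairLE p (conjPair g (Subgroup.zpowers u, eA hM' (cz (Subgroup.zpowers u)) b))
          (P, eA hM' (cz P) e) := fun g => by
    rw [pairLE_conjPair_iff hM hb h.isPBlock, pairLE_conjPair_iff hM' hb' h'.isPBlock]
    exact ⟨subpairLE_transfer hM hM', subpairLE_transfer hM' hM⟩
  by_cases hex : ∃ g : G,
      PairLE p (conjPair g (Subgroup.zpowers u, eA hM (cz (Subgroup.zpowers u)) b))
        (P, eA hM (cz P) e)
  · obtain ⟨g, hg⟩ := hex
    rw [wt, wt, wA_eq h.wd hg, wA_eq h'.wd ((key g).1 hg)]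
  · rw [wt, wt, wA_eq_zero hex, wA_eq_zero fun ⟨g, hg⟩ => hex ⟨g, (key g).2 hg⟩]

theorem StarCtx.transfer {M' : Ideal AlgInt} [M'.IsMaximal] (hM' : IsPModular p M')
    (h : StarCtx hM B P e lam) : StarCtx hM' B P e lam := by
  have hmax' := isMaximalBrauerPair_transfer hM hM' h.hmax
  refine ⟨hmax', fun u g g' b' h1 h2 => ?_⟩
  have hblk := block_of_conjPair_pairLE (isBlockIdem_eA hM' hmax'.1.1.2) h1
  obtain ⟨b, hb, rfl⟩ := exists_eA_eq hM' hblk
  have hb0 := isPBlock_transfer hM' hM hb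
  refine h.wd u g g' (eA hM (cz (Subgroup.zpowers u)) b) ?_ ?_
  · rw [pairLE_conjPair_iff hM hb0 h.isPBlock]
    exact subpairLE_transfer hM' hM ((pairLE_conjPair_iff hM' hb hmax'.1.1.2 g).1 h1)
  · rw [pairLE_conjPair_iff hM hb0 h.isPBlock]
    exact subpairLE_transfer hM' hM ((pairLE_conjPair_iff hM' hb hmax'.1.1.2 g').1 h2)

/-- Conjugation between pairs below `(P, e)` is a map of the fusion system. -/
theorem mem_hom_of_pairLE (hM : IsPModular p M) {F : FusionSystem P}
    (hF : IsBlockFusionSystemOn p M B P e F) {Q : Subgroup G} {b : MonoidAlgebra (ResK M) G}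
    {g : G} (h1 : PairLE p (Q, b) (P, eA hM (cz P) e))
    (h2 : PairLE p (conjPair g (Q, b)) (P, eA hM (cz P) e)) :
    (MulAut.conj g).toMonoidHom.comp Q.subtype ∈ F.Hom Q := by
  have he : IsPBlock M e := hF.1.1.1.2
  have hblk : IsBlockIdem (cz Q) b := block_of_pairLE h1 (isBlockIdem_eA hM he)
  obtain ⟨f, hf, rfl⟩ := exists_eA_eq hM hblk
  refine (hF.2 Q _).2 ⟨h1.le, g, fun v => rfl, h2.le, f, ?_, ?_⟩
  · exact (subpairLE_iff hM hf he).2 h1
  · exact (pairLE_conjPair_iff hM hf he g).1 h2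

theorem starCtx_of_focal (hM : IsPModular p M) {F : FusionSystem P}
    (hF : IsBlockFusionSystemOn p M B P e F)
    (hlam : ∀ x : P, (x : G) ∈ F.focalSubgroup → lam x = 1) : StarCtx hM B P e lam := by
  refine ⟨hF.1, fun u g g' b h1 h2 => ?_⟩
  set h := g' * g⁻¹ with hh
  have h2' : PairLE p (conjPair h (conjPair g (Subgroup.zpowers u, b))) (P, eA hM (cz P) e) := by
    rwa [← conjPair_mul, hh, inv_mul_cancel_right]
  have hmem : g * u * g⁻¹ ∈ (conjPair g (Subgroup.zpowers u, b)).1 :=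
    ⟨u, Subgroup.mem_zpowers u, rfl⟩
  have hx := mem_of_pairLE h1
  have hy := mem_of_pairLE h2
  have hfoc : (g * u * g⁻¹)⁻¹ * (g' * u * g'⁻¹) ∈ F.focalSubgroup := by
    refine Subgroup.subset_closure ⟨_, _, ⟨g * u * g⁻¹, hmem⟩, mem_hom_of_pairLE hM hF h1 h2', ?_⟩
    show _ = (g * u * g⁻¹)⁻¹ * (h * (g * u * g⁻¹) * h⁻¹)
    rw [hh]; group
  have h3 := hlam (⟨_, hx⟩⁻¹ * ⟨_, hy⟩) hfoc
  rw [map_mul, map_inv, inv_mul_eq_one] at h3
  rw [extLam, dif_pos hx, extLam, dif_pos hy, h3]

/-- Every covered pair is conjugate to one below `(P, e)`. -/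
theorem StarCtx.exists_conj (h : StarCtx hM B P e lam) {Q : Subgroup G} (hQ : IsPGroup p Q)
    {f : MonoidAlgebra (ResK M) G} (hf : IsBlockIdem (cz Q) f)
    (hcov : brMap (ResK M) Q (eG hM B) * f = f) :
    ∃ t : G, PairLE p (conjPair t (Q, f)) (P, eA hM (cz P) e) := by
  have := charP_res hM
  obtain ⟨hP, hD⟩ := (isMaximalBrauerPair_iff hM B P e).1 h.hmax
  obtain ⟨-, hB, hO⟩ := (isBrauerPairOf_iff hM B P e).1 hP
  obtain ⟨t, -, ht⟩ := (brSetup_block hM hB).exists_conj_le (hasBlocks hM)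
    (R := Q) (h := f) ⟨hQ, bot_le, le_top, hf, hcov⟩ hD hO
  exact ⟨t, ht⟩

/-- The weight is a twist over the idempotent of `B`. -/
theorem StarCtx.isTwist (h : StarCtx hM B P e lam) : IsTwist p (eG hM B) (wt hM P e lam) := by
  refine ⟨fun g u b => wA_conj h.wd g u b, fun U hU f hf hcov => ?_⟩
  obtain ⟨t, ht⟩ := h.exists_conj hU hf hcov
  have hle : U.map (MulAut.conj t).toMonoidHom ≤ P := ht.le
  refine ⟨lam.comp (((MulAut.conj t).toMonoidHom.comp U.subtype).codRestrict P
    fun v => hle ⟨v, v.2, rfl⟩), fun v b hb => ?_⟩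
  rw [wt, wA_eq h.wd ((hb.conj t).trans ht)]
  rfl

/-- A covered pair has a weight of absolute value one. -/
theorem StarCtx.exists_weight (h : StarCtx hM B P e lam) {u : G}
    (hu : IsPGroup p (Subgroup.zpowers u)) {b : MonoidAlgebra (ResK M) G}
    (hb : IsBlockIdem (cz (Subgroup.zpowers u)) b)
    (hcov : brMap (ResK M) (Subgroup.zpowers u) (eG hM B) * b = b) :
    ∃ g : G, ∃ hg : g * u * g⁻¹ ∈ P,
      PairLE p (conjPair g (Subgroup.zpowers u, b)) (P, eA hM (cz P) e) ∧
        wt hM P e lam u b = lam ⟨g * u * g⁻¹, hg⟩ := by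
  obtain ⟨g, hg⟩ := h.exists_conj hu hb hcov
  exact ⟨g, mem_of_pairLE hg, hg, wA_eq h.wd hg⟩

end CfsgLib.BPStar
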